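import Cfsg.Agent.N2.Tool

/-!
# N2: almost simple point stabilisers, the criterion with a cyclic Sylow subgroup (helper21)

* `fx_le_relIndex` : no fusion; `good_up` : from `N` to an overgroup; `Cy1 N r M` : one class of subgroups of order `r`,
  normaliser of order at least `M`; `good_of_cy1`.
-/

set_option autoImplicit false
set_option linter.unusedSectionVars false

namespace Cfsg.Agent.N2C.N4

open Subgroup Cfsg.Agent.N2
open Cfsg.Agent.FP3 (Good MI fx)

variable {T : Type*} [Group T] [Finite T]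

/-- the conjugates of `a` in `B` are conjugate in `B` -/
theorem fx_le_relIndex {B : Subgroup T} {a : T} (h : ∀ g, g⁻¹ * a * g ∈ B → ∃ n ∈ B, g⁻¹ * a * g = n⁻¹ * a * n) :
    fx B a ≤ B.relIndex (centralizer {a}) := by
  have k : ∀ x : MulAction.fixedBy (T ⧸ B) a, ∃ c : centralizer ({a} : Set T), ((c : T) : T ⧸ B) = x.1 := fun x => by
    obtain ⟨n, hn, e⟩ := h x.1.out ((smul_mk_iff B a _).1 (by rw [QuotientGroup.out_eq']; exact x.2))
    refine ⟨⟨x.1.out * n⁻¹, mem_centralizer_singleton_iff.2 ?_⟩, ?_⟩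
    · calc x.1.out * n⁻¹ * a = x.1.out * (n⁻¹ * a * n) * n⁻¹ := by group
        _ = _ := by rw [← e]; group
    · exact (QuotientGroup.mk_mul_of_mem _ (inv_mem hn)).trans (QuotientGroup.out_eq' _)
  choose f hf using k
  refine Nat.card_le_card_of_injective (fun x => (f x : _ ⧸ B.subgroupOf (centralizer {a}))) fun x y e => Subtype.ext ?_
  rw [← hf, ← hf]
  have h1 : (f x)⁻¹ * f y ∈ B.subgroupOf (centralizer {a}) := QuotientGroup.eq.1 e
  exact QuotientGroup.eq.2 h1

/-- the conjugates of `x` in `A` lie in `N` -/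
theorem good_up {N A : Subgroup T} (hN : N ≤ A) {x : T} (hx : x ∈ N) (h : ∀ g, g⁻¹ * x * g ∈ A → g⁻¹ * x * g ∈ N)
    (h3 : fx N x ^ 3 ≤ N.index) : Good A := by
  have h1 : cc A x = cc N x := Nat.card_congr (Equiv.subtypeEquivRight fun y => and_congr_right fun hy => by
    obtain ⟨g, rfl⟩ := isConj_iff.1 hy
    exact ⟨fun k => by simpa using h g⁻¹ (by simpa using k), fun k => hN k⟩)
  have h2 := fx_mul A x
  have h4 := (N.subgroupOf A).index_mul_card
  have h5 := relIndex_mul_index hN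
  rw [Nat.card_congr (subgroupOfEquivOfLe hN).toEquiv] at h4
  rw [h1, ← fx_mul, ← h4, ← mul_assoc] at h2
  have h6 := Nat.eq_of_mul_eq_mul_right Nat.card_pos h2
  have h7 : 0 < N.relIndex A := Nat.pos_of_ne_zero index_ne_zero_of_finite
  rw [← h6, ← h5] at h3
  change (_ * N.relIndex A) ^ 3 ≤ _ at h3
  refine ⟨x, hN hx, Nat.le_of_mul_le_mul_left (le_trans ?_ h3) h7⟩
  rw [mul_pow, mul_comm]
  exact Nat.mul_le_mul_left _ (Nat.le_self_pow three_ne_zero _)

/-- elements of order prime to `|Out N|` -/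
theorem mem_of_cop {N A : Subgroup T} (hN : N ≤ A) (hn : A ≤ normalizer (N : Set T))
    (hc : ∀ t ∈ A, (∀ x ∈ N, t * x = x * t) → t = 1) {k r : ℕ} (hk : Nat.card (MulAut N) ∣ k * Nat.card N)
    (hr : r.Coprime k) {y : T} (hy : y ∈ A) (h1 : y ^ r = 1) : y ∈ N := by
  have h2 : Nat.card A ∣ Nat.card (MulAut N) := card_dvd_of_injective (N.normalizerMonoidHom.comp (inclusion hn))
    ((injective_iff_map_eq_one _).2 fun a ha => Subtype.ext (hc a a.2 fun x hx => by
      have h3 := congrArg Subtype.val (DFunLike.congr_fun ha ⟨x, hx⟩)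
      exact mul_inv_eq_iff_eq_mul.1 h3))
  have h4 := (N.subgroupOf A).index_mul_card
  rw [Nat.card_congr (subgroupOfEquivOfLe hN).toEquiv] at h4
  have h5 : (N.subgroupOf A).index ∣ k := Nat.dvd_of_mul_dvd_mul_right Nat.card_pos (h4 ▸ h2.trans hk)
  have : (N.subgroupOf A).Normal := ⟨fun w hw v => (mem_normalizer_iff.1 (hn v.2) w).1 hw⟩
  have h6 : y ^ (N.subgroupOf A).index ∈ N := (N.subgroupOf A).pow_index_mem ⟨y, hy⟩
  have h7 : (orderOf y).Coprime (N.subgroupOf A).index :=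
    (hr.coprime_dvd_right h5).coprime_dvd_left (orderOf_dvd_of_pow_eq_one h1)
  obtain ⟨m, hm⟩ := exists_pow_eq_self_of_coprime h7.symm
  exact hm ▸ pow_mem h6 m

/-- one class of subgroups of order `r`, with a normaliser of order at least `M` -/
def Cy1 (N : Type*) [Group N] (r M : ℕ) : Prop := ∃ x : N, orderOf x = r ∧
  (∀ y : N, orderOf y = r → ∃ g : N, g⁻¹ * y * g ∈ zpowers x) ∧ M ≤ Nat.card (normalizer (zpowers x : Set N))

omit [Finite T] in
theorem Cy1.congr {G : Type*} [Group G] (e : G ≃* T) {r M : ℕ} (h : Cy1 T r M) : Cy1 G r M := by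
  obtain ⟨x, h1, h2, h3⟩ := h
  obtain ⟨x, rfl⟩ := e.surjective x
  have h4 : (zpowers x).map e.toMonoidHom = zpowers (e x) := MonoidHom.map_zpowers _ _
  refine ⟨x, (e.orderOf_eq x).symm.trans h1, fun y hy => ?_, ?_⟩
  · obtain ⟨g, hg⟩ := h2 (e y) ((e.orderOf_eq y).trans hy)
    obtain ⟨g, rfl⟩ := e.surjective g
    rw [← map_inv, ← map_mul, ← map_mul, ← h4] at hg
    exact ⟨g, (mem_map_iff_mem (f := e.toMonoidHom) e.injective).1 hg⟩
  · rwa [← h4, ← map_equiv_normalizer_eq, card_map_of_injective e.injective] at h3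

theorem mem_zpowers_of_cyc {V : Subgroup T} (hV : IsCyclic V) {x y : T} (hx : x ∈ V) (hy : y ∈ V)
    (h : y ^ orderOf x = 1) : y ∈ zpowers x := by
  classical
  have := Fintype.ofFinite V
  have h1 := IsCyclic.card_pow_eq_one_le (α := V) (orderOf_pos x)
  have h2 : (zpowers (⟨x, hx⟩ : V) : Set V).toFinset = Finset.univ.filter fun a : V => a ^ orderOf x = 1 := by
    refine Finset.eq_of_subset_of_card_le (fun a ha => ?_) (h1.trans (le_of_eq ?_))
    · obtain ⟨i, rfl⟩ := Set.mem_toFinset.1 ha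
      refine Finset.mem_filter.2 ⟨Finset.mem_univ _, Subtype.ext ?_⟩
      change (x ^ i) ^ orderOf x = 1
      rw [← zpow_natCast, ← zpow_mul, mul_comm, zpow_mul, zpow_natCast, pow_orderOf_eq_one, one_zpow]
    · rw [Set.toFinset_card, ← Nat.card_eq_fintype_card]
      exact ((Nat.card_zpowers _).trans (orderOf_mk _ _)).symm
  obtain ⟨i, hi⟩ := Set.mem_toFinset.1 (h2.ge (Finset.mem_filter.2 ⟨Finset.mem_univ (⟨y, hy⟩ : V), Subtype.ext h⟩))
  exact ⟨i, congrArg Subtype.val hi⟩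

/-- a cyclic subgroup which contains a Sylow subgroup -/
theorem cy1_of_cyc {V : Subgroup T} (hV : IsCyclic V) {r M : ℕ} (hr : r.Prime) (h1 : r ∣ Nat.card V) (h2 : ¬ r ∣ V.index)
    (h3 : M ≤ Nat.card (normalizer (V : Set T))) : Cy1 T r M := by
  have := Fact.mk hr
  obtain ⟨x, hx⟩ := exists_prime_orderOf_dvd_card' (G := V) r h1
  rw [← orderOf_coe] at hx
  obtain ⟨P⟩ : Nonempty (Sylow r V) := inferInstance
  let Q : Sylow r T := (P.isPGroup'.map V.subtype).toSylow (by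
    rw [index_map_subtype]
    exact fun k => (hr.dvd_mul.1 k).elim P.not_dvd_index h2)
  refine ⟨x, hx, fun y hy => ?_, h3.trans (card_le_of_le fun n hn => mem_normalizer_fintype fun y hy => ?_)⟩
  · obtain ⟨R, hR⟩ := (IsPGroup.of_card (G := zpowers y) (n := 1)
      (by rw [Nat.card_zpowers, hy, pow_one])).exists_le_sylow
    obtain ⟨c, hc⟩ := MulAction.exists_smul_eq T R Q
    have h4 : c * y * c⁻¹ ∈ (Q : Subgroup T) := by
      rw [← hc, Sylow.coe_subgroup_smul]
      exact smul_mem_pointwise_smul y (MulAut.conj c) _ (hR (mem_zpowers y))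
    refine ⟨c⁻¹, mem_zpowers_of_cyc hV x.2 (by simpa using map_subtype_le _ h4) ?_⟩
    rw [inv_inv, conj_pow, hx, ← hy, pow_orderOf_eq_one, mul_one, mul_inv_cancel]
  · refine mem_zpowers_of_cyc hV x.2 ((mem_normalizer_iff.1 hn y).1 (zpowers_le.2 x.2 hy)) ?_
    rw [conj_pow, orderOf_dvd_iff_pow_eq_one.1 (orderOf_dvd_of_mem_zpowers hy), mul_one, mul_inv_cancel]

theorem zpowers_eq_of_order {x y : T} (h : y ∈ zpowers x) (ho : orderOf y = orderOf x) : zpowers y = zpowers x :=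
  eq_of_le_of_card_ge (zpowers_le.2 h) (by rw [Nat.card_zpowers, Nat.card_zpowers, ho])

theorem orderOf_cj (g x : T) : orderOf (g⁻¹ * x * g) = orderOf x := by
  simpa using (MulAut.conj g⁻¹).orderOf_eq x

/-- the number of fixed cosets of `N` -/
theorem fx_mul_le {N : Subgroup T} {x : N} {M : ℕ} (h2 : ∀ y : N, orderOf y = orderOf x → ∃ g : N, g⁻¹ * y * g ∈ zpowers x)
    (h3 : M ≤ Nat.card (normalizer (zpowers x : Set N))) :
    fx N x * M ≤ Nat.card (normalizer (zpowers (x : T) : Set T)) := by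
  have hz : ∀ y : N, y ∈ zpowers x → (y : T) ∈ zpowers (x : T) := by
    rintro _ ⟨i, rfl⟩
    exact ⟨i, rfl⟩
  have hc : ∀ t : T, cj t (zpowers (x : T)) = zpowers (t⁻¹ * x * t) := fun t => by
    refine (eq_of_le_of_card_ge (zpowers_le.2 (mem_cj.2 (by simp [mul_assoc]))) ?_).symm
    rw [card_cj, Nat.card_zpowers, Nat.card_zpowers, orderOf_cj]
  rw [← fs_mul (zpowers_le.2 x.2) fun t ht => ?_]
  · refine Nat.mul_le_mul (fx_le_fs N le_rfl) (h3.trans (Nat.card_le_card_of_injective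
      (fun n => ⟨n.1, mem_normalizer_fintype ?_, n.1.2⟩) fun _ _ e => Subtype.ext (Subtype.ext (Subtype.mk.inj e))))
    rintro _ ⟨i, rfl⟩
    exact hz _ ((mem_normalizer_iff.1 n.2 (x ^ i)).1 ⟨i, rfl⟩)
  · rw [hc] at ht ⊢
    obtain ⟨g, hg⟩ := h2 ⟨_, ht (mem_zpowers _)⟩ (by rw [orderOf_mk, orderOf_cj, orderOf_coe])
    have h4 := zpowers_eq_of_order (hz _ hg) (by rw [coe_mul, coe_mul, coe_inv, orderOf_cj, orderOf_cj])
    refine ⟨(g : T)⁻¹, inv_mem g.2, ?_⟩
    rw [← h4]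
    refine eq_of_le_of_card_ge (zpowers_le.2 (mem_cj.2 (by rw [inv_inv]; exact mem_zpowers _))) ?_
    rw [card_cj, Nat.card_zpowers, Nat.card_zpowers, coe_mul, coe_mul, coe_inv, orderOf_cj (g : T)]

/-- **the criterion** -/
theorem good_of_cy1 {N A : Subgroup T} (hN : N ≤ A) (hn : A ≤ normalizer (N : Set T))
    (hc : ∀ t ∈ A, (∀ x ∈ N, t * x = x * t) → t = 1) {k r M c : ℕ} (hk : Nat.card (MulAut N) ∣ k * Nat.card N)
    (hr : r.Coprime k) (h : Cy1 N r M) (hM : 0 < M)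
    (hx : ∀ x ∈ N, orderOf x = r → Nat.card (normalizer (zpowers x : Set T)) ≤ c)
    (hi : c ^ 3 * Nat.card N ≤ M ^ 3 * Nat.card T) : Good A := by
  obtain ⟨x, h1, h2, h3⟩ := h
  have h4 := (fx_mul_le (h1 ▸ h2) h3).trans (hx x x.2 ((orderOf_coe x).trans h1))
  refine good_up hN x.2 (fun g hg => mem_of_cop hN hn hc hk hr hg ?_) ?_
  · rw [← orderOf_dvd_iff_pow_eq_one, orderOf_cj, orderOf_coe, h1]
  · rw [← N.index_mul_card, ← mul_assoc] at hi
    have h5 := (Nat.pow_le_pow_left h4 3).trans (Nat.le_of_mul_le_mul_right hi Nat.card_pos)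
    rw [mul_pow, mul_comm] at h5
    exact Nat.le_of_mul_le_mul_left h5 (pow_pos hM 3)

/-- the normaliser of a cyclic group -/
theorem card_norm_le {x : T} {w : ℕ} (h : {y | y ∈ zpowers x ∧ IsConj x y}.ncard ≤ w) :
    Nat.card (normalizer (zpowers x : Set T)) ≤ w * cn x := by
  have h1 := ((centralizer {x}).subgroupOf (normalizer (zpowers x : Set T))).index_mul_card
  rw [← h1]
  refine Nat.mul_le_mul (le_trans ?_ h) (Nat.card_le_card_of_injective (fun c => ⟨c.1, c.2⟩)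
    fun _ _ e => Subtype.ext (Subtype.ext (Subtype.mk.inj e)))
  refine Nat.card_le_card_of_injective (fun z => (⟨(z.out : T) * x * (z.out : T)⁻¹,
    (mem_normalizer_iff.1 z.out.2 x).1 (mem_zpowers x), isConj_iff.2 ⟨_, rfl⟩⟩ : {y | y ∈ zpowers x ∧ IsConj x y}))
    fun z z' e => ?_
  rw [← QuotientGroup.out_eq' z, ← QuotientGroup.out_eq' z']
  refine QuotientGroup.eq.2 (mem_centralizer_singleton_iff.2 ?_)
  have h2 := Subtype.mk.inj e
  calc (z.out : T)⁻¹ * z'.out * x = (z.out : T)⁻¹ * (z'.out * x * (z'.out : T)⁻¹) * z'.out := by group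
    _ = x * ((z.out : T)⁻¹ * z'.out) := by rw [← h2]; group

end Cfsg.Agent.N2C.N4
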