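import Cfsg.Agent.N2.Cl.Cases.Main
import Cfsg.Agent.N2.Cl.Quad.Main
import Cfsg.Agent.N2.Cl.Par.Main
import Cfsg.Agent.S0256
import Cfsg.Agent.S0822

/-!
# N2 (S3519): the rows `L₄(q)`, `U₄(q)`, `PSp₄(q)` (helper21)

The boxes are `AtL P`, `AtU P`, `AtS P`.  See `notes/N2/n4.md`.
-/

set_option autoImplicit false

namespace Cfsg.Agent.N2C.N4

open Cfsg Cfsg.Agent.DS.Cl Cfsg.Agent.DS.Cl.Fwd Module
open Cfsg.Agent.FP3 (Good MI ASRow)
open Cfsg.Agent.N2 (Cf Fam Row fA)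
open Cfsg.Agent.SB.Cl (rk rkL)
open Cfsg.Agent.TH.Cl.Cases (L_eq_LR)
open Cfsg.Agent.TH.Cl (ParD NSD Irr1 Irr2 FldD TenD ExD SimD KL KU KSp KO Pred)

/-- `L₄(q)`, `q ≥ 3` -/
def AtL (P : Pred) : Prop := ∀ (K : Type) [Field K] [Fintype K] (F : FR (LR (Fin 4) K))
  (H : Subgroup (RingAut (LR (Fin 4) K))) (p : ℕ), KL F → 3 ≤ Fintype.card K → Ctx F H p → P _ F H rkL → Gd F H

/-- `U₄(q)`, `q ≥ 3`; for `q = 3` only the `{2,3}`-groups -/
def AtU (P : Pred) : Prop := ∀ (K V : Type) [Field K] [Fintype K] [AddCommGroup V] [Module K V] [Finite V]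
  (h : HF K V) (F : FR h.EB) (q : ℕ) (H : Subgroup (RingAut h.EB)) (p : ℕ), KU h F q → finrank K V = 4 → 3 ≤ q →
  (q = 3 → ¬ 5 ∣ Nat.card ↥(H ⊓ F.S) ∧ ¬ 7 ∣ Nat.card ↥(H ⊓ F.S)) → Ctx F H p → P _ F H (rk h) → Gd F H

/-- `PSp₄(q)`, `q ≥ 4` -/
def AtS (P : Pred) : Prop := ∀ (K V : Type) [Field K] [Fintype K] [AddCommGroup V] [Module K V] [Finite V]
  (h : HF K V) (F : FR h.EB) (H : Subgroup (RingAut h.EB)) (p : ℕ), KSp h F 2 → 4 ≤ Fintype.card K → Ctx F H p →
  P _ F H (rk h) → Gd F H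

structure At (P : Pred) : Prop where
  l : AtL P
  u : AtU P
  s : AtS P

theorem AtL.of_on {P : Pred} (h : OnL 4 P) : AtL P := fun K _ _ F H p k _ c => h K 4 F H p k le_rfl c

theorem AtU.of_on {P : Pred} (h : OnU 4 P) : AtU P := fun K V _ _ _ _ _ f F q H p k hn _ _ c =>
  h K V f F q H p k hn.ge c

theorem AtS.of_on {P : Pred} (h : OnSp 2 P) : AtS P := fun K V _ _ _ _ _ f F H p k _ c => h K V f F 2 H p k le_rfl c

/-- `H` centralises a field, graph or graph-field automorphism of prime order (`SubD` without the simple subgroup;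
this includes `O₄⁺`, the tensor decompositions) -/
def CenD {A : Type} [Ring A] [StarRing A] (F : FR A) (H : Subgroup (RingAut A)) : Prop :=
  Irr2 H ∧ ∃ φ ∈ F.Aut, φ ∉ Lin A ∧ (orderOf φ).Prime ∧ ∀ γ ∈ H, γ * φ = φ * γ

def pCen : Pred := fun _ _ _ F H _ => CenD F H
/-- symplectic type, no automorphism centralised -/
def pExt4 : Pred := fun _ _ _ F H _ => ExD F H ∧ ¬ CenD F H
/-- tensor decompositions, no automorphism centralised: impossible for `L`, `U`, and `Sp` in odd characteristic -/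
def pTen4 : Pred := fun _ _ _ F H _ => TenD H ∧ ¬ CenD F H
/-- class S -/
def pRes4 : Pred := fun _ _ _ F H _ => Irr2 H ∧ ¬ TenD H ∧ ¬ CenD F H ∧ ∃ N, Res F H N

/-- [U43] `U₄(3)`, subgroups of order divisible by five or seven -/
def BoxU43 : Prop := ∀ (K : Type) [Field K] [Fintype K], Fintype.card K = 3 ^ 2 → ∀ B : Subgroup (PSU 4 K 3), B ≠ ⊤ →
  5 ∣ Nat.card B ∨ 7 ∣ Nat.card B → Good B

/-- [S43] `PSp₄(3) = U₄(2)` -/
def BoxS43 : Prop := ∀ (K : Type) [Field K] [Fintype K], Fintype.card K = 3 → ASRow (PSp 2 K)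

/-- [CenS] the subfield subgroups of `PSp₄(q)` -/
def BoxCenS : Prop := ∀ (K V : Type) [Field K] [Fintype K] [AddCommGroup V] [Module K V] [Finite V]
  (h : HF K V) (F : FR h.EB), KSp h F 2 → 4 ≤ Fintype.card K → F.Span → IsSimpleGroup F.S → ¬ IsMulCommutative F.S →
  ∀ φ ∈ F.Aut, φ ∉ Lin h.EB → (orderOf φ).Prime → Good ((Subgroup.centralizer {φ}).subgroupOf F.S)

/-- [B2] `Sp₄(2^a)` with a graph automorphism -/
def BoxB2 : Prop := Cf → BoxCenS → ∀ (K : Type) [Field K] [Fintype K], (2 : K) = 0 → 4 ≤ Fintype.card K →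
  ∀ (B : Subgroup (PSp 2 K)) (Γ : Subgroup (MulAut (PSp 2 K))), MI B Γ →
    ¬ Γ ≤ (Cfsg.Agent.ClassicalGeometry.SympAutSemi.Psi 2 K).range → Good B

structure Geo : Prop where
  ns : At pNS
  fix : At pFix
  fr : At pFr
  fld : At pFld
  ten : At pTen4
  ext : At pExt4
  cen : At pCen
  res : At pRes4
  cenS : BoxCenS

theorem at_par : At pPar :=
  ⟨fun _ _ _ _ _ _ k _ c h => (c.not_parL k.dim h).elim,
    fun _ _ _ _ _ _ _ _ _ _ _ _ k _ _ _ c h => (c.not_parU k.u k.L k.dim h).elim,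
    fun _ _ _ _ _ _ _ _ _ _ _ k _ c h => (c.not_parSp k.sp (by have := k.dim; omega) h).elim⟩

theorem at_quad : At pQuad :=
  ⟨fun _ _ _ F _ _ _ _ _ h => (h.2.1 ((L_eq_LR F).trans (L_eq_LR ⟨F.l, Lmin _, F.l_add, Or.inl rfl⟩).symm)).elim,
    fun _ _ _ _ _ _ _ _ _ _ _ _ k _ _ _ _ h => (h.2.1 (k.L.trans (Quad.Lmin_eq_U k.u).symm)).elim,
    fun _ _ _ _ _ _ _ _ _ _ _ k _ c h => by
      obtain ⟨-, h1, l, h2, h3⟩ := h
      exact Quad.quad_Sp k.sp (by have := k.dim; omega) (by have := k.dim; omega) c h1 h2 h3⟩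

theorem cases {A : Type} [Ring A] [StarRing A] [Finite A] {F : FR A} {H : Subgroup (RingAut A)} {p : ℕ}
    (c : Ctx F H p) (r : A → ℕ) : pPar A F H r ∨ pNS A F H r ∨ pFix A F H r ∨ pFr A F H r ∨ pFld A F H r ∨ pQuad A F H r ∨
      pCen A F H r ∨ pTen4 A F H r ∨ pExt4 A F H r ∨ pRes4 A F H r := by
  by_cases hc : CenD F H
  · simp only [show pCen A F H r from hc, true_or, or_true]
  have key : ∀ Q, ResD Q F H → pRes4 A F H r := fun Q ⟨h1, h2, N, h3, _⟩ => ⟨h1, h2, hc, N, h3⟩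
  rcases boxCases A F H p c with h | h | h | h | h | h | h | h | h | h | h | h | h
  · exact .inl h
  · exact .inr (.inl h)
  · exact .inr (.inr (.inl h))
  · exact .inr (.inr (.inr (.inl h)))
  · exact .inr (.inr (.inr (.inr (.inl h))))
  · simp only [show pTen4 A F H r from ⟨h, hc⟩, true_or, or_true]
  · simp only [show pExt4 A F H r from ⟨h, hc⟩, true_or, or_true]
  · exact (hc ⟨h.1.1, h.2⟩).elim
  · simp only [show pQuad A F H r from h, true_or, or_true]
  all_goals simp only [key _ h, or_true]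

theorem all_of (g : Geo) : At pAll := by
  refine ⟨fun K _ _ F H p k hq c _ => ?_, fun K V _ _ _ _ _ f F q H p k hn hq h3 c _ => ?_,
    fun K V _ _ _ _ _ f F H p k hq c _ => ?_⟩
  · rcases cases c rkL with h | h | h | h | h | h | h | h | h | h
    exacts [at_par.l K F H p k hq c h, g.ns.l K F H p k hq c h, g.fix.l K F H p k hq c h, g.fr.l K F H p k hq c h,
      g.fld.l K F H p k hq c h, at_quad.l K F H p k hq c h, g.cen.l K F H p k hq c h, g.ten.l K F H p k hq c h,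
      g.ext.l K F H p k hq c h, g.res.l K F H p k hq c h]
  · rcases cases c (rk f) with h | h | h | h | h | h | h | h | h | h
    exacts [at_par.u K V f F q H p k hn hq h3 c h, g.ns.u K V f F q H p k hn hq h3 c h,
      g.fix.u K V f F q H p k hn hq h3 c h, g.fr.u K V f F q H p k hn hq h3 c h, g.fld.u K V f F q H p k hn hq h3 c h,
      at_quad.u K V f F q H p k hn hq h3 c h, g.cen.u K V f F q H p k hn hq h3 c h,
      g.ten.u K V f F q H p k hn hq h3 c h, g.ext.u K V f F q H p k hn hq h3 c h, g.res.u K V f F q H p k hn hq h3 c h]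
  · rcases cases c (rk f) with h | h | h | h | h | h | h | h | h | h
    exacts [at_par.s K V f F H p k hq c h, g.ns.s K V f F H p k hq c h, g.fix.s K V f F H p k hq c h,
      g.fr.s K V f F H p k hq c h, g.fld.s K V f F H p k hq c h, at_quad.s K V f F H p k hq c h,
      g.cen.s K V f F H p k hq c h, g.ten.s K V f F H p k hq c h, g.ext.s K V f F H p k hq c h,
      g.res.s K V f F H p k hq c h]

/-- **`L₄(q)`** -/
theorem l4_of (cf : Cf) (bL : BrL) (hA : Row fA) (g : Geo) : Row (fLn 4) :=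
  bL cf 4 (by omega) fun K _ _ F H p k c => by
    by_cases h2 : Fintype.card K = 2
    · obtain ⟨e⟩ := k.iso
      obtain ⟨e'⟩ := S0256.result h2
      have := c.simple
      have : Finite F.S := Finite.of_equiv _ e.symm.toEquiv
      exact hA F.S c.noncomm ⟨8, by omega, ⟨e.trans e'⟩⟩ _ _ c.mi
    · exact (all_of g).l K F H p k (by have := Fintype.one_lt_card (α := K); omega) c trivial

/-- **`U₄(q)`** -/
theorem u4_of (cf : Cf) (bU : BrU) (h43 : BoxU43) (s43 : BoxS43) (g : Geo) : Row (fUn 4) :=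
  bU cf 4 (by omega) fun K V _ _ _ _ _ f F q H p k hn c => by
    obtain ⟨e⟩ := k.iso
    rw [hn] at e
    have h1 : 1 < q ^ 2 := k.card ▸ Fintype.one_lt_card
    by_cases h2 : q = 2
    · subst h2
      have : Fact (Nat.Prime 3) := ⟨Nat.prime_three⟩
      obtain ⟨e'⟩ := S0822.result (K := ZMod 3) k.card (ZMod.card 3)
      exact N2.asRow_congr (e.trans e').symm (s43 _ (ZMod.card 3)) _ _ c.mi
    by_cases h3 : q = 3 ∧ (5 ∣ Nat.card ↥(H ⊓ F.S) ∨ 7 ∣ Nat.card ↥(H ⊓ F.S))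
    · obtain ⟨rfl, h3⟩ := h3
      have h4 : Nat.card ((H.subgroupOf F.S).comap e.symm.toMonoidHom) = Nat.card ↥(H ⊓ F.S) := by
        rw [← Nat.card_congr (Subgroup.subgroupOfEquivOfLe (inf_le_right : H ⊓ F.S ≤ F.S)).toEquiv,
          Subgroup.inf_subgroupOf_right]
        exact Nat.card_congr (e.symm.toEquiv.subtypeEquiv fun _ => Iff.rfl)
      refine (N2.good_comap e.symm.toMonoidHom e.symm.surjective _).1 (h43 K k.card _ (fun h5 => c.mi.ne_top ?_) (h4 ▸ h3))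
      exact Subgroup.comap_injective e.symm.surjective (h5.trans (Subgroup.comap_top _).symm)
    · refine (all_of g).u K V f F q H p k hn ?_ (fun h4 => not_or.1 fun h5 => h3 ⟨h4, h5⟩) c trivial
      rcases q with _ | _ | q <;> omega

/-- **`PSp₄(q)`** -/
theorem s2_of (cf : Cf) (bS : BrSp) (s43 : BoxS43) (b2 : BoxB2) (g : Geo) : Row (fSk 2) := by
  rintro T _ _ _ - ⟨K, _, _, h3, ⟨e⟩⟩
  refine N2.asRow_congr e.symm fun B Γ hB => ?_
  by_cases h4 : Fintype.card K = 3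
  · exact s43 K h4 B Γ hB
  have h5 : 4 ≤ Fintype.card K := by have := h3 rfl; omega
  by_cases h6 : (2 : K) ≠ 0 ∨ Γ ≤ (Cfsg.Agent.ClassicalGeometry.SympAutSemi.Psi 2 K).range
  · refine bS cf 2 le_rfl (fun K' V _ _ _ _ _ f F H p k c => ?_) K h3 B Γ hB (Or.inr h6)
    by_cases h7 : Fintype.card K' = 3
    · obtain ⟨e'⟩ := k.iso
      exact N2.asRow_congr e'.symm (s43 _ h7) _ _ c.mi
    · exact (all_of g).s K' V f F H p k (by have := k.ne rfl; omega) c trivial
  · rw [not_or, not_not] at h6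
    exact b2 cf g.cenS K h6.1 h5 B Γ hB h6.2

end Cfsg.Agent.N2C.N4
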