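import Cfsg.Agent.N2.D4m.Up
import Cfsg.Agent.H761.SzClsA
import Cfsg.Agent.OddCyclic.ClaimC.SzIso
import Cfsg.Agent.H438.SzMax
import Cfsg.Agent.H376.SpEmb
import Cfsg.Agent.H193.FC.TorTwo
import Cfsg.Agent.H824.ProdLem
import Cfsg.Agent.SB.B2.Main
import Cfsg.Agent.Lib.Zsigmondy
import Cfsg.Agent.S2126
import Cfsg.Agent.S0814

/-!
# N2: data of simple subgroups with a cyclic Sylow subgroup (helper21)

`Dat N k r M` : `|Aut N| ∣ k |N|`, `r` is a prime which does not divide `k`, `Cy1 N r M`.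
-/

set_option autoImplicit false
set_option linter.unusedSectionVars false
set_option maxHeartbeats 400000

namespace Cfsg.Agent.N2C.N4

open Subgroup Cfsg.Agent.N2
open Cfsg.Agent.FP3 (Good MI fx)

structure Dat (N : Type*) [Group N] (k r M : ℕ) : Prop where
  aut : Nat.card (MulAut N) ∣ k * Nat.card N
  pr : r.Prime
  cop : r.Coprime k
  cy : Cy1 N r M
  pos : 0 < M

theorem Dat.congr {G T : Type*} [Group G] [Group T] (e : G ≃* T) {k r M : ℕ} (h : Dat T k r M) : Dat G k r M :=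
  ⟨by rw [Nat.card_congr (MulAut.congr e).toEquiv, Nat.card_congr e.toEquiv]; exact h.aut, h.pr, h.cop, h.cy.congr e, h.pos⟩

theorem Dat.good {T : Type*} [Group T] [Finite T] {N A : Subgroup T} (hN : N ≤ A) (hn : A ≤ normalizer (N : Set T))
    (hc : ∀ t ∈ A, (∀ x ∈ N, t * x = x * t) → t = 1) {k r M c : ℕ} (h : Dat N k r M)
    (hx : ∀ x ∈ N, orderOf x = r → Nat.card (normalizer (zpowers x : Set T)) ≤ c)
    (hi : c ^ 3 * Nat.card N ≤ M ^ 3 * Nat.card T) : Good A :=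
  good_of_cy1 hN hn hc h.aut h.cop h.cy h.pos hx hi

theorem aut_dvd_out (G : Type*) [Group G] [Finite G] : Nat.card (MulAut G) ∣ Nat.card (Cfsg.Out G) * Nat.card G := by
  rw [card_eq_card_quotient_mul_card_subgroup (Cfsg.Inn G)]
  exact Nat.mul_dvd_mul_left _ (card_range_dvd _)

/-- Sylow subgroups of prime order -/
theorem cy1_of_prime {T : Type*} [Group T] [Finite T] {r n M : ℕ} (hr : r.Prime) (h1 : Nat.card T = r * n) (h2 : ¬ r ∣ n)
    (h3 : ∀ d, d ∣ n → d % r = 1 → M * d ≤ r * n) : Cy1 T r M := by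
  have := Fact.mk hr
  obtain ⟨P⟩ : Nonempty (Sylow r T) := inferInstance
  have h4 : Nat.card (P : Subgroup T) = r := by
    rw [P.card_eq_multiplicity, h1, Nat.factorization_mul hr.ne_zero (by rintro rfl; exact h2 (dvd_zero r)),
      Finsupp.add_apply, hr.factorization_self, Nat.factorization_eq_zero_of_not_dvd h2, pow_one]
  have h5 := (P : Subgroup T).card_mul_index
  rw [h4, h1] at h5
  have h6 := Nat.eq_of_mul_eq_mul_left hr.pos h5
  refine cy1_of_cyc (V := (P : Subgroup T)) (isCyclic_of_prime_card h4) hr (by rw [h4]) (by rwa [h6]) ?_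
  have h7 := h3 _ (h6 ▸ P.card_dvd_index) (by
    have := card_sylow_modEq_one r T
    rwa [Nat.ModEq, Nat.mod_eq_of_lt hr.one_lt] at this)
  rw [← h1, ← (normalizer (P : Set T)).card_mul_index, P.card_eq_index_normalizer] at h7
  exact Nat.le_of_mul_le_mul_right h7 (Nat.pos_of_ne_zero index_ne_zero_of_finite)

theorem card_A6 : Nat.card (alternatingGroup (Fin 6)) = 360 := by
  rw [nat_card_alternatingGroup, Nat.card_eq_fintype_card, Fintype.card_fin]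
  rfl

theorem datA6 : Dat (alternatingGroup (Fin 6)) 4 5 10 :=
  ⟨by rw [H824.ProdLem.card_aut_a6, card_A6], Nat.prime_five, by norm_num,
    cy1_of_prime (n := 72) Nat.prime_five card_A6 (by norm_num) fun d h1 h2 => by
      have h3 := Nat.le_of_dvd (by norm_num) h1
      by_contra h4
      have h5 : 36 < d := by omega
      interval_cases d <;> omega, by norm_num⟩

theorem ppd2 {n : ℕ} (hn : 2 ≤ n) (h6 : n ≠ 6) : ∃ r : ℕ, r.Prime ∧ (∀ m, r ∣ 2 ^ m - 1 ↔ n ∣ m) ∧ n ∣ r - 1 ∧ ¬ r ∣ 2 :=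
  Lib.Zsigmondy.exists_primitive le_rfl hn (fun _ ⟨k, hk⟩ => by
    rcases k with _ | k
    · omega
    · rw [pow_succ] at hk
      omega) (by omega)

/-- a primitive prime divisor of `2^(4a) - 1` -/
theorem ppd4 {a : ℕ} (ha : 0 < a) : ∃ r : ℕ, r.Prime ∧ (∀ m, r ∣ 2 ^ m - 1 ↔ 4 * a ∣ m) ∧ 4 * a < r ∧ r ∣ (2 ^ a) ^ 2 + 1 ∧
    ¬ r ∣ 2 ^ a ∧ ¬ r ∣ 2 ^ a - 1 ∧ ¬ r ∣ (2 ^ a) ^ 2 - 1 := by
  obtain ⟨r, h1, h2, h3, h4⟩ := ppd2 (n := 4 * a) (by omega) (by omega)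
  have h5 : ¬ r ∣ (2 ^ a) ^ 2 - 1 := fun k => by
    rw [← pow_mul, h2] at k
    have := Nat.le_of_dvd (by omega) k
    omega
  refine ⟨r, h1, h2, ?_, ?_, fun k => h4 (h1.dvd_of_dvd_pow k), fun k => ?_, h5⟩
  · have := Nat.le_of_dvd (Nat.sub_pos_of_lt h1.one_lt) h3
    have := h1.pos
    omega
  · have h6 := (h2 (a * 2 * 2)).2 ⟨1, by ring⟩
    rw [pow_mul, pow_mul, ← one_pow 2, Nat.sq_sub_sq] at h6
    exact (h1.dvd_mul.1 h6).resolve_right h5
  · have := Nat.le_of_dvd ha ((h2 a).1 k)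
    omega

theorem datSz {K : Type} [Field K] [Fintype K] {m : ℕ} (hm : 1 ≤ m) (hK : Fintype.card K = 2 ^ (2 * m + 1)) :
    ∃ r, (∀ n, r ∣ 2 ^ n - 1 ↔ 4 * (2 * m + 1) ∣ n) ∧ 4 < r ∧
      Dat (Cfsg.Lie.Sz K (2 ^ (m + 1))) (2 * m + 1) r (2 * 2 ^ (2 * m + 1)) := by
  obtain ⟨r, h1, h2, h3, h4, h5, h6, -⟩ := ppd4 (a := 2 * m + 1) (by omega)
  obtain ⟨e⟩ := OddCyclic.ClaimC.SzIso.iso hm hK
  have h7 := H761.SzCls.mul_nT hm
  obtain ⟨-, -, h8, -⟩ := H761.SzCls.qt hm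
  refine ⟨r, h2, by omega, S2126.result hm hK ▸ aut_dvd_out _, h1, (Nat.coprime_of_lt_prime (by omega) (by omega) h1),
    Cy1.congr e.symm ?_, by positivity⟩
  have key : ∀ i j : Fin 3, i ≠ 0 → i ≠ j → H761.SzCls.nT m i * H761.SzCls.nT m j = (2 ^ (2 * m + 1)) ^ 2 + 1 →
      r ∣ H761.SzCls.nT m i → 2 ^ (2 * m + 1) ≤ 2 * H761.SzCls.nT m i → Cy1 (Cfsg.Sz K m) r (2 * 2 ^ (2 * m + 1)) := by
    intro i j hi hij k1 k2 k3
    obtain ⟨U, ⟨u1, u2⟩, u3⟩ := H761.SzCls.exists_tor hm hK i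
    refine cy1_of_cyc u1 h1 (u2 ▸ k2) (fun k => ?_) (by rw [u3 hi]; omega)
    have k4 := U.card_mul_index
    rw [Nat.card_congr e.toEquiv, H438.SzMax.card_sz hK, u2, ← k1, mul_left_comm] at k4
    rw [Nat.eq_of_mul_eq_mul_left (by have := H761.SzCls.four_lt_nT hm i; omega) k4] at k
    rcases h1.dvd_mul.1 k with k | k
    · exact (h1.dvd_mul.1 k).elim (fun k => h5 (h1.dvd_of_dvd_pow k)) h6
    · exact hij (H761.SzCls.disj_nT hm h1 k2 k)
  rw [← sq] at h7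
  rcases h1.dvd_mul.1 (h7 ▸ h4) with k | k
  · exact key 1 2 (by decide) (by decide) h7 k (by rw [H761.SzCls.nT_one]; omega)
  · exact key 2 1 (by decide) (by decide) (by rw [mul_comm, h7]) k (by rw [H761.SzCls.nT_two]; omega)

theorem datSp {K : Type} [Field K] [Fintype K] [CharP K 2] {a : ℕ} (ha : 2 ≤ a) (hK : Fintype.card K = 2 ^ a) :
    ∃ r, (∀ n, r ∣ 2 ^ n - 1 ↔ 4 * a ∣ n) ∧ 4 < r ∧ Dat (Matrix.symplecticGroup (Fin 2) K) (2 * a) r ((2 ^ a) ^ 2) := by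
  obtain ⟨r, h1, h2, h3, h4, h5, -, h6⟩ := ppd4 (a := a) (by omega)
  have h7 := S0814.result (F := K) 2 a (by omega) hK 2 le_rfl fun _ =>
    le_trans (by norm_num) (Nat.pow_le_pow_right two_pos ha)
  have h8 : Nat.gcd 2 (2 ^ a - 1) = 1 := (Nat.coprime_two_left.2
    (Nat.Even.sub_odd Nat.one_le_two_pow (even_two.pow_of_ne_zero (by omega)) odd_one))
  refine ⟨r, h2, by omega, ?_, h1, Nat.coprime_of_lt_prime (by omega) (by omega) h1, ?_, by positivity⟩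
  · rw [Nat.card_congr (MulAut.congr (H319.FC.mkE K)).toEquiv, Nat.card_congr (H319.FC.mkE K).toEquiv, h7, h8]
    simp
  · obtain ⟨x, hx⟩ := H376.SpEmb.exists_plus K 2 two_ne_zero
    rw [Nat.card_eq_fintype_card, hK] at hx
    have k1 : Nat.card (zpowers x) = (2 ^ a) ^ 2 + 1 := (Nat.card_zpowers x).trans hx
    refine cy1_of_cyc (V := zpowers x) inferInstance h1 (k1 ▸ h4) (fun k => ?_)
      (le_trans (by omega) (card_le_of_le le_normalizer))
    have k4 := (zpowers x).card_mul_index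
    rw [k1, SB.B2.card_sp, Nat.card_eq_fintype_card, hK, show (2 ^ a) ^ 4 - 1 = ((2 ^ a) ^ 2 + 1) * ((2 ^ a) ^ 2 - 1) by
      rw [← Nat.sq_sub_sq, ← pow_mul _ 2 2, one_pow], mul_left_comm (_ - 1), mul_left_comm] at k4
    rw [Nat.eq_of_mul_eq_mul_left (by positivity) k4] at k
    rcases h1.dvd_mul.1 k with k | k
    · exact h5 (h1.dvd_of_dvd_pow k)
    · exact (h1.dvd_mul.1 k).elim h6 h6

/-- the Sylow `3`-subgroups of `SL₂(2^a)` are cyclic -/
theorem cy1_SL2 {K : Type} [Field K] [Fintype K] [CharP K 2] : Cy1 (Matrix.SpecialLinearGroup (Fin 2) K) 3 0 := by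
  have := Fact.mk Nat.prime_three
  obtain ⟨P⟩ : Nonempty (Sylow 3 (Matrix.SpecialLinearGroup (Fin 2) K)) := inferInstance
  have h1 : 3 ∣ Nat.card (Matrix.SpecialLinearGroup (Fin 2) K) := by
    obtain ⟨a, -, ha⟩ := FiniteField.card K 2
    rw [ClassicalGeometry.PSL2Basic.card_SL2, ha, ← pow_mul, mul_comm _ 2, pow_mul]
    exact Dvd.dvd.mul_left (by simpa using Nat.sub_dvd_pow_sub_pow 4 1 a) _
  have h2 := P.toSubgroup.nontrivial_iff_ne_bot.2 (P.ne_bot_of_dvd_card h1)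
  have h3 := P.isPGroup'.center_nontrivial
  obtain ⟨z, hz⟩ := exists_ne (1 : center P.toSubgroup)
  obtain ⟨n, hn⟩ := P.isPGroup' z.1
  have h4 : P.toSubgroup ≤ centralizer {(z.1 : Matrix.SpecialLinearGroup (Fin 2) K)} := fun y hy =>
    mem_centralizer_singleton_iff.2 (congrArg Subtype.val (mem_center_iff.1 z.2 ⟨y, hy⟩))
  refine cy1_of_cyc (H193.FC.isCyclic_cent (H193.FC.trace_ne_zero (z := z.1) (fun k => hz (Subtype.ext (Subtype.ext k))) ?_)).1
    Nat.prime_three ((P.dvd_card_of_dvd_card h1).trans (card_dvd_of_le h4))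
    (fun k => P.not_dvd_index (k.trans (index_dvd_of_le h4))) (Nat.zero_le _)
  exact (Odd.pow (n := n) (by decide : Odd 3)).of_dvd_nat (orderOf_dvd_of_pow_eq_one (congrArg Subtype.val hn))

end Cfsg.Agent.N2C.N4
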