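import Cfsg.Agent.N2.D4m.B2b
import Cfsg.Agent.N2.D4m.Dat
import Cfsg.Agent.N2.D4m.Defs
import Cfsg.Agent.N2.Ex.Tri
import Cfsg.Agent.TH.Cl.B2.Main
import Cfsg.Agent.H910.List
import Cfsg.Agent.H910.FieldEven

/-!
# N2, `Sp₄(2^a)` with a graph automorphism: `boxB2 : BoxB2` (helper21)
-/

set_option autoImplicit false
set_option linter.unusedSectionVars false
set_option maxHeartbeats 400000

namespace Cfsg.Agent.N2C.N4

open Subgroup Cfsg.Agent.N2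
open Cfsg.Agent.FP3 (Good MI fx)

/-- the almost simple group `Inn K ⊔ Γ` -/
theorem exists_setup {K : Type} [Group K] [Finite K] [IsSimpleGroup K] (hn : ¬ IsMulCommutative K) {A : Subgroup K}
    {Γ : Subgroup (MulAut K)} (hA : MI A Γ) : ∃ (G : Type) (_ : Group G) (_ : Finite G) (T H : Subgroup G) (e : K ≃* T),
      DS.Setup T H ∧ (∀ x, (e x : G) ∈ H ↔ x ∈ A) ∧ ∀ σ ∈ Γ, ∃ h ∈ H, ∀ x, (e (σ x) : G) = h * e x * h⁻¹ := by
  have hj := Ex.conj_inj hn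
  have hN : (Inn K).Normal := ⟨by
    rintro _ ⟨t, rfl⟩ σ
    exact ⟨σ t, by ext x; simp⟩⟩
  let e : K ≃* (Inn K).subgroupOf (Inn K ⊔ Γ) := (MonoidHom.ofInjective hj).trans (subgroupOfEquivOfLe le_sup_left).symm
  refine ⟨↥(Inn K ⊔ Γ), _, inferInstance, _, Γ.subgroupOf (Inn K ⊔ Γ), e, ⟨hN.subgroupOf _, e.symm.isSimpleGroup,
    fun k => hn ⟨⟨fun a b => e.injective ?_⟩⟩, ?_, ?_, fun k => ?_⟩, hA.conj,
    fun σ hσ => ⟨⟨σ, mem_sup_right hσ⟩, hσ, fun x => Subtype.ext ?_⟩⟩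
  · rw [map_mul, map_mul]
    exact k.1.1 _ _
  · refine eq_bot_iff.2 fun g hg => mem_bot.2 (Subtype.ext (MulEquiv.ext fun x => hj ?_))
    have h1 := congrArg Subtype.val (hg (e x) (e x).2)
    have h2 : MulAut.conj x * (g : MulAut K) = (g : MulAut K) * MulAut.conj x := h1
    have h3 : MulAut.conj ((g : MulAut K) x) = (g : MulAut K) * MulAut.conj x * (g : MulAut K)⁻¹ := by
      ext y
      simp
    rw [h3, ← h2, mul_inv_cancel_right]
    rfl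
  · have h1 := mi_covBy hA
    refine ⟨fun k => h1.1.not_ge (subgroupOf_eq_top.1 k), fun B hB => ?_⟩
    have h2 : Γ < B.map (Inn K ⊔ Γ).subtype := by
      have h4 := (map_lt_map_iff_of_injective (Inn K ⊔ Γ).subtype_injective).2 hB
      rwa [map_subgroupOf_eq_of_le (le_sup_right : Γ ≤ Inn K ⊔ Γ)] at h4
    have h3 := (h1.eq_or_eq h2.le (map_subtype_le B)).resolve_left h2.ne'
    exact eq_top_iff.2 fun g _ => (mem_map_iff_mem (Inn K ⊔ Γ).subtype_injective).1 (h3.symm ▸ g.2)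
  · exact hA.ne_top (eq_top_iff.2 fun x _ => (hA.conj x).1 (k (e x).2))
  · show MulAut.conj (σ x) = σ * MulAut.conj x * σ⁻¹
    ext y
    simp

namespace B2

open Cfsg.Agent.H88.FC Cfsg.Agent.H319.FC Cfsg.Agent.SB.B2

variable {F : Type} [Field F] [CharP F 2] [Finite F] {A N : Subgroup (Sp4 F)} {α : MulAut (Sp4 F)}

theorem reg_of_cy1 (hα : ∀ y, c1 (α y) = 0 ↔ c2 y = 0) (hN : ∀ x ∈ N, α x ∈ N) {r M : ℕ} (hr : Odd r) (h1 : r ≠ 1)
    (h : Cy1 N r M) {y : Sp4 F} (hy : y ∈ N) (ho : orderOf y = r) : Reg y := by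
  obtain ⟨x, hx, h2, -⟩ := h
  obtain ⟨g, hg⟩ := h2 ⟨y, hy⟩ (by rw [orderOf_mk, ho])
  obtain ⟨k, hk⟩ := h2 ⟨α y, hN y hy⟩ (by rw [orderOf_mk, MulEquiv.orderOf_eq, ho])
  rw [← zpowers_eq_of_order hg (by rw [orderOf_cj, orderOf_mk, ho, hx])] at hk
  obtain ⟨i, hi⟩ := hk
  have h3 : ((g : Sp4 F)⁻¹ * y * g) ^ i = (k : Sp4 F)⁻¹ * α y * k := congrArg Subtype.val hi
  refine reg_of hα (g := k * (g : Sp4 F)⁻¹) (ho ▸ hr) (fun e => h1 (by rw [← ho, e, orderOf_one])) ⟨i, ?_⟩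
  calc y ^ i = g * ((g : Sp4 F)⁻¹ * y * (g : Sp4 F)⁻¹⁻¹) ^ i * (g : Sp4 F)⁻¹ := by rw [conj_zpow]; group
    _ = _ := by rw [inv_inv, h3]; group

theorem norm_of_reg {r : ℕ} (hr : r.Prime) (h : ∀ y ∈ N, orderOf y = r → Reg y) {x : Sp4 F} (hx : x ∈ N) (ho : orderOf x = r) :
    Nat.card (normalizer (zpowers x : Set (Sp4 F))) ≤ 4 * (Nat.card F + 1) ^ 2 :=
  card_norm_reg (fun e => hr.one_lt.ne' (by rw [← ho, e, orderOf_one])) fun y hy h1 => h y (zpowers_le.2 hx hy)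
    (((Nat.dvd_prime hr).1 (ho ▸ orderOf_dvd_of_mem_zpowers hy)).resolve_left fun k => h1 (orderOf_eq_one_iff.1 k))

theorem le_T {q X : ℕ} (hq : 0 < q) (h : X + q ^ 8 + q ^ 6 ≤ q ^ 10) : X ≤ q ^ 4 * ((q ^ 2 - 1) * (q ^ 4 - 1)) := by
  zify [Nat.one_le_pow 2 q hq, Nat.one_le_pow 4 q hq] at h ⊢
  have : (0 : ℤ) ≤ q ^ 4 := by positivity
  linarith

theorem T_le (q : ℕ) : q ^ 4 * ((q ^ 2 - 1) * (q ^ 4 - 1)) ≤ q ^ 10 :=
  (Nat.mul_le_mul_left _ (Nat.mul_le_mul (Nat.sub_le _ _) (Nat.sub_le _ _))).trans (le_of_eq (by ring))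

theorem numA {q : ℕ} (hq : 4 ≤ q) : (4 * (q + 1) ^ 2) ^ 3 * 360 ≤ 10 ^ 3 * (q ^ 4 * ((q ^ 2 - 1) * (q ^ 4 - 1))) := by
  refine le_trans ?_ (Nat.mul_le_mul_left _ (le_T (X := 24 * (q + 1) ^ 6) (by omega) ?_))
  · rw [mul_pow, ← pow_mul, show 2 * 3 = 6 from rfl]
    omega
  · obtain ⟨d, rfl⟩ := Nat.exists_eq_add_of_le hq
    ring_nf
    omega

theorem numZ {q s : ℕ} (hs : 8 ≤ s) (hq : s ≤ q) : (4 * (q + 1) ^ 2) ^ 3 * (s ^ 2 * (s - 1) * (s ^ 2 + 1)) ≤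
    (2 * s) ^ 3 * (q ^ 4 * ((q ^ 2 - 1) * (q ^ 4 - 1))) := by
  refine le_trans ?_ (Nat.mul_le_mul_left _ (le_T (X := 8 * (q + 1) ^ 6 * q ^ 2) (by omega) ?_))
  · have h1 : s ^ 2 * (s - 1) * (s ^ 2 + 1) ≤ s ^ 3 * s ^ 2 := by
      obtain ⟨d, rfl⟩ := Nat.exists_eq_add_of_le' (show 1 ≤ s by omega)
      rw [Nat.add_sub_cancel]
      ring_nf
      omega
    exact (Nat.mul_le_mul_left _ (h1.trans (Nat.mul_le_mul_left _ (Nat.pow_le_pow_left hq 2)))).trans (le_of_eq (by ring))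
  · obtain ⟨d, rfl⟩ := Nat.exists_eq_add_of_le (hs.trans hq)
    ring_nf
    omega

theorem numS {q s : ℕ} (hs : 4 ≤ s) (hq : s ^ 2 ≤ q) : (4 * (q + 1) ^ 2) ^ 3 * (s ^ 4 * ((s ^ 2 - 1) * (s ^ 4 - 1))) ≤
    (s ^ 2) ^ 3 * (q ^ 4 * ((q ^ 2 - 1) * (q ^ 4 - 1))) := by
  have h1 : 4 ^ 2 ≤ q := (Nat.pow_le_pow_left hs 2).trans hq
  refine le_trans ?_ (Nat.mul_le_mul_left _ (le_T (X := 64 * (q + 1) ^ 6 * q ^ 2) (by omega) ?_))
  · refine (Nat.mul_le_mul_left _ ((T_le s).trans (show _ ≤ (s ^ 2) ^ 3 * q ^ 2 from ?_))).trans (le_of_eq (by ring))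
    exact le_trans (le_of_eq (by ring)) (Nat.mul_le_mul_left _ (Nat.pow_le_pow_left hq 2))
  · obtain ⟨d, rfl⟩ := Nat.exists_eq_add_of_le h1
    ring_nf
    omega

/-- the prime `r` divides `|Sp₄(2^f)|` -/
theorem dvd_of_ppd {f a r : ℕ} (hF : Nat.card F = 2 ^ f) (hr : r.Prime) (h4 : 4 < r) (h : ∀ n, r ∣ 2 ^ n - 1 ↔ 4 * a ∣ n)
    (hd : r ∣ Nat.card (Sp4 F)) : a ∣ f := by
  rw [card_sp, hF, ← pow_mul, ← pow_mul] at hd
  rcases hr.dvd_mul.1 hd with k | k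
  · have := Nat.le_of_dvd two_pos (hr.dvd_of_dvd_pow k)
    omega
  refine Nat.dvd_of_mul_dvd_mul_left (by norm_num : 0 < 4) ?_
  rcases hr.dvd_mul.1 k with k | k
  · exact ((h _).1 k).trans ⟨2, by ring⟩
  · exact ((h _).1 k).trans ⟨1, by ring⟩

theorem cy1_dvd {r M : ℕ} (h : Cy1 N r M) : r ∣ Nat.card (Sp4 F) := by
  obtain ⟨x, rfl, -⟩ := h
  exact (orderOf_dvd_natCard x).trans (card_subgroup_dvd_card N)

/-- **simple subgroups** -/
theorem good_sim (hq : 4 ≤ Nat.card F) (hα : ∀ y, c1 (α y) = 0 ↔ c2 y = 0) (hN : ∀ x ∈ N, α x ∈ N) (hle : N ≤ A) (ht : N ≠ ⊤)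
    (hn : A ≤ normalizer (N : Set (Sp4 F))) (hc : ∀ t ∈ A, (∀ x ∈ N, t * x = x * t) → t = 1) [IsSimpleGroup N]
    (hna : ¬ IsMulCommutative N) : Good A := by
  have := Fintype.ofFinite F
  obtain ⟨f, -, hf⟩ := FiniteField.card F 2
  rw [← Nat.card_eq_fintype_card] at hf
  let e := N.equivMapOfInjective _ (H910.spToGL_injective (F := F) 2)
  have := e.symm.isSimpleGroup
  have key : ∀ {k r M : ℕ}, Dat N k r M → 4 < r → (4 * (Nat.card F + 1) ^ 2) ^ 3 * Nat.card N ≤ M ^ 3 * Nat.card (Sp4 F) →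
      Good A := fun d h4 hi => d.good hle hn hc (fun x hx ho => norm_of_reg d.pr (fun y hy ho =>
        reg_of_cy1 hα hN (d.pr.odd_of_ne_two (by omega)) (by omega) d.cy hy ho) hx ho) hi
  rcases H910.simple_list (N.map (H876.spToGL 2 F)) (by rintro _ ⟨y, -, rfl⟩; exact H910.spToGL_mem y) (fun k => hna ⟨⟨fun a b =>
    e.injective (by rw [map_mul, map_mul, k.is_comm.comm])⟩⟩) with
    ⟨K, _, _, _, h4, ⟨i⟩⟩ | ⟨⟨i⟩⟩ | ⟨K, _, _, m, hm, hK, ⟨i⟩⟩ | ⟨K, _, _, _, h4, ⟨i⟩⟩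
  · have h1 := cy1_SL2.congr (e.trans i)
    obtain ⟨x, hx, -⟩ := id h1
    rw [← orderOf_coe] at hx
    exact (not_reg_three (hx ▸ pow_orderOf_eq_one _) (reg_of_cy1 hα hN (by decide) (by decide) h1 x.2 hx)).elim
  · refine key (datA6.congr (e.trans i)) (by norm_num) ?_
    rw [Nat.card_congr (e.trans i).toEquiv, card_A6, card_sp]
    exact numA hq
  · obtain ⟨r, h1, h2, d⟩ := datSz hm hK
    replace d := d.congr (e.trans i)
    have h3 := dvd_of_ppd hf d.pr h2 h1 (cy1_dvd d.cy)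
    refine key d h2 ?_
    rw [Nat.card_congr (e.trans i).toEquiv, H438.SzMax.card_sz hK, card_sp]
    exact numZ (H761.SzCls.qt hm).2.1 (hf ▸ Nat.pow_le_pow_right two_pos (Nat.le_of_dvd f.2 h3))
  · obtain ⟨a, -, ha⟩ := FiniteField.card K 2
    obtain ⟨r, h1, h2, d⟩ := datSp (K := K) ((Nat.pow_le_pow_iff_right one_lt_two).1 (show 2 ^ 2 ≤ _ from ha ▸ h4)) ha
    replace d := d.congr (e.trans i)
    have h3 := dvd_of_ppd hf d.pr h2 h1 (cy1_dvd d.cy)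
    refine key d h2 ?_
    have h5 := (Nat.card_congr (e.trans i).toEquiv).trans card_sp
    rw [Nat.card_eq_fintype_card (α := K), ha] at h5
    rw [h5, card_sp]
    refine numS (ha ▸ h4) ?_
    obtain ⟨c, hc⟩ := h3
    rw [hf, hc, ← pow_mul]
    refine Nat.pow_le_pow_right two_pos (Nat.mul_le_mul_left _ ?_)
    rcases c with _ | _ | c
    · exact absurd hc f.ne_zero
    · exact absurd (eq_top_of_card_eq N (by rw [h5, card_sp, hf, hc, zero_add, mul_one])) ht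
    · omega

/-- the statement for `Sp₄(F)` -/
theorem good_sp (hq : 4 ≤ Nat.card F) {Γ : Subgroup (MulAut (Sp4 F))} (hA : MI A Γ) (hαΓ : α ∈ Γ)
    (hα : ∀ y, c1 (α y) = 0 ↔ c2 y = 0) : Good A := by
  have := simple_sp hq
  obtain ⟨G, _, _, T, H, e, hs, h1, h2⟩ := exists_setup (noncomm_sp hq) hA
  have h3 : ∀ {E : Subgroup G}, (∀ h ∈ H, ∀ x ∈ E, h * x * h⁻¹ ∈ E) → Inv Γ ((E.subgroupOf T).comap e.toMonoidHom) :=
    fun k σ hσ x hx => by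
      obtain ⟨h, hh, h4⟩ := h2 σ hσ
      exact mem_comap.2 (mem_subgroupOf.2 ((h4 x).symm ▸ k h hh _ hx))
  have h4 : ∀ x y : Sp4 F, (e x : G) * e y = e y * e x ↔ x * y = y * x := fun x y => by
    rw [← coe_mul, ← coe_mul, ← map_mul, ← map_mul, Subtype.val_inj, e.injective.eq_iff]
  rcases Ex.tri hs (fun k => hA.ne_bot (eq_bot_iff.2 fun x hx => mem_bot.2 (e.injective (Subtype.ext (by
      rw [map_one]; exact mem_bot.1 (k ▸ ⟨(h1 x).2 hx, (e x).2⟩)))))) with ⟨E, r, hE⟩ | ⟨N, hN⟩ | ⟨𝓢, hS⟩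
  · refine good_loc hq hA hαΓ hα (h3 fun h hh x => (mem_normalizer_iff.1 (hE.norm.ge hh) x).1) (fun k => hE.ne_bot ?_)
      (fun a ha b hb => (h4 a b).1 (hE.comm _ ha _ hb)) hE.prime fun a ha => e.injective (Subtype.ext ?_)
    · refine eq_bot_iff.2 fun x hx => ?_
      obtain ⟨y, hy⟩ := e.surjective ⟨x, hE.le_S hx⟩
      have h5 : y = 1 := mem_bot.1 (k ▸ (show (e y : G) ∈ E by rwa [hy]))
      rw [h5, map_one] at hy
      exact mem_bot.2 (congrArg Subtype.val hy).symm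
    · rw [map_pow, map_one]
      exact hE.pow _ ha
  · let i : ((N.subgroupOf T).comap e.toMonoidHom) ≃* N :=
      (e.subgroupMap _).trans ((MulEquiv.subgroupCongr (map_comap_eq_self_of_surjective e.surjective _)).trans
        (subgroupOfEquivOfLe (hN.le.trans inf_le_right)))
    have := hN.simple
    have := i.isSimpleGroup
    have h5 := h3 hN.nrm
    have h6 : (N.subgroupOf T).comap e.toMonoidHom ≤ A := fun x hx => (h1 x).1 (hN.le hx).1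
    refine good_sim hq hα (h5 α hαΓ) h6 (fun k => hA.ne_top (top_le_iff.1 (k ▸ h6)))
      (fun a ha => mem_normalizer_iff.2 fun y => (h5.iff ((hA.conj a).2 ha) y).symm) (fun t _ ht => e.injective (Subtype.ext ?_))
      fun k => hN.nonab ⟨⟨fun a b => i.symm.injective (by rw [map_mul, map_mul, k.is_comm.comm])⟩⟩
    rw [map_one]
    refine hN.cent _ (e t).2 fun x hx => ?_
    obtain ⟨y, hy⟩ := e.surjective ⟨x, (hN.le hx).2⟩
    have h7 := (h4 t y).2 (ht y (show (e y : G) ∈ N by rwa [hy]))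
    rwa [hy] at h7
  · obtain ⟨h, hh, h5⟩ := h2 α hαΓ
    have := hs.normal
    refine (TH.Cl.B2.mul_false e.symm hh (fun x => ?_) ⟨hS.le, hS.simple, hS.nonab, hS.comm, hS.perm, hS.two, hS.cent⟩).elim
    obtain ⟨x, rfl⟩ := e.surjective x
    rw [show MulAut.conjNormal h (e x) = e (α x) from Subtype.ext (h5 x).symm, e.symm_apply_apply, e.symm_apply_apply, hα]

end B2

/-- **[B2]** -/
theorem boxB2 : BoxB2 := fun _ _ K _ _ h2 hq B Γ hB hΓ => by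
  have : CharP K 2 := CharTwo.of_one_ne_zero_of_two_eq_zero one_ne_zero h2
  rw [← Nat.card_eq_fintype_card] at hq
  obtain ⟨σ, hσ, h1⟩ := Set.not_subset.1 hΓ
  obtain ⟨α, rfl⟩ := (H319.FC.congE K).surjective σ
  obtain ⟨φ, hφ⟩ := SB.B2.c1_of_graph hq fun k => h1 ((H319.FC.congE_mem_range α).2 k)
  exact (good_comap (H319.FC.mkE K).toMonoidHom (H319.FC.mkE K).surjective B).1
    (B2.good_sp hq (mi_comap _ hB) (α := α) hσ fun y => by rw [hφ, map_eq_zero])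

end Cfsg.Agent.N2C.N4
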