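import Cfsg.Agent.N2.D4m.Up
import Cfsg.Agent.N2.Cl.Cyc.Cov
import Cfsg.Agent.TH.Cl.B2.Mat
import Cfsg.Agent.H446.CS.Lin

/-!
# N2, `Sp₄(2^a)`: regular elements (helper21)
-/

set_option autoImplicit false
set_option linter.unusedSectionVars false

namespace Cfsg.Agent.N2C.N4.B2

open Subgroup Cfsg.Agent.N2 Cfsg.Agent.H88.FC Cfsg.Agent.H319.FC Cfsg.Agent.SB.B2
open Cfsg.Agent.ClassicalGeometry.Sp4Graph
open Cfsg.Agent.TH.Cl.B2 (eq_one_of_c)

/-- matrices with the symplectic involution -/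
def M4 (F : Type) : Type := Matrix I4 I4 F

variable {F : Type} [Field F] [CharP F 2] [Finite F]

instance M4.instRingN4 : Ring (M4 F) := inferInstanceAs (Ring (Matrix I4 I4 F))

instance M4.instFiniteN4 : Finite (M4 F) := inferInstanceAs (Finite (I4 → I4 → F))

instance M4.instStarRingN4 : StarRing (M4 F) where
  star := st
  star_involutive := st_st
  star_mul := st_mul
  star_add := st_add

theorem cn_reg {v : Sp4 F} (hv : Reg v) : cn v ≤ (Nat.card F + 1) ^ 2 := by
  obtain ⟨u, hu, hu1⟩ := W_mul_inv hv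
  have h1 : cn v ≤ Cyc.cU (A := M4 F) (v : Matrix I4 I4 F) := Nat.card_le_card_of_injective
    (fun x => ⟨(x.1 : Matrix I4 I4 F), mul_st x.1, congrArg Subtype.val (mem_centralizer_singleton_iff.1 x.2)⟩)
    fun _ _ e => Subtype.ext (Subtype.ext (Subtype.mk.inj e))
  have huv : u * v = v * u := hu.comm_of (W_self_comm v)
  refine h1.trans (Cyc.cU_le_unit (A := M4 F) (mul_st v) (fun x y hx hy => comm_of_comm hv hx hy)
    (c := (u * v : Matrix I4 I4 F)) (θ := (v : Matrix I4 I4 F)) ?_ ?_ rfl ?_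
    (fun c : F => (c • (1 : Matrix I4 I4 F) : Matrix I4 I4 F)) (fun c => ?_) (fun c => ?_) (fun c d h => ?_)
    Finite.one_lt_card ?_)
  · change u * v * (v : Matrix I4 I4 F) = v * (u * v)
    rw [← mul_assoc, huv]
  · change W (u * (v : Matrix I4 I4 F)) = 1
    rw [← zero_add (u * _), W_form (zero_smul F (1 : Matrix I4 I4 F) ▸ InK.scal 0) hu, hu1]
  · change IsUnit ((v : Matrix I4 I4 F) - st (v : Matrix I4 I4 F))
    rw [CharTwo.sub_eq_add]
    exact IsUnit.of_mul_eq_one_right u hu1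
  · change c • (1 : Matrix I4 I4 F) * v = v * c • (1 : Matrix I4 I4 F)
    rw [smul_mul_assoc, mul_smul_comm, one_mul, mul_one]
  · change st (c • (1 : Matrix I4 I4 F)) = _
    rw [st_smul, st_one]
  · change IsUnit (c • (1 : Matrix I4 I4 F) - d • (1 : Matrix I4 I4 F))
    rw [← sub_smul]
    exact IsUnit.of_mul_eq_one ((c - d)⁻¹ • 1) (by
      rw [smul_mul_assoc, one_mul, smul_smul, mul_inv_cancel₀ (sub_ne_zero.2 h), one_smul])
  · rw [show (Nat.card F ^ 2) ^ 2 = Nat.card ((F × F) × F × F) by simp only [Nat.card_prod]; ring]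
    have k : ∀ x : {x : M4 F // x * (show M4 F from (v : Matrix I4 I4 F)) = (show M4 F from (v : Matrix I4 I4 F)) * x},
        ∃ p : (F × F) × F × F, (show Matrix I4 I4 F from x.1) = (p.1.1 • 1 + p.1.2 • W (v : Matrix I4 I4 F)) +
          (p.2.1 • 1 + p.2.2 • W (v : Matrix I4 I4 F)) * v := fun x => by
      obtain ⟨_, _, ⟨a, b, rfl⟩, ⟨c, d, rfl⟩, h⟩ := exists_of_comm hv x.2
      exact ⟨((a, b), c, d), h⟩
    choose f hf using k
    exact Nat.card_le_card_of_injective f fun x y e => Subtype.ext ((hf x).trans (e ▸ (hf y).symm))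

theorem c1_zpowers {x y : Sp4 F} (hx : Odd (orderOf x)) (h : c1 x = 0) (hy : y ∈ zpowers x) : c1 y = 0 := by
  obtain ⟨μ, h1, -⟩ := W_scal hx h
  obtain ⟨n, rfl⟩ := (mem_powers_iff_mem_zpowers.2 hy :)
  have h2 : (x : Matrix I4 I4 F) * x = 1 + μ • (x : Matrix I4 I4 F) := by
    have h3 := congrArg (fun M => (x : Matrix I4 I4 F) * M) h1
    simp only [W, mul_add, mul_st, mul_smul_comm, mul_one] at h3
    rw [← h3, add_comm, add_assoc, CharTwo.add_self_eq_zero, add_zero]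
  have h3 : InK (x : Matrix I4 I4 F) ((x ^ n : Sp4 F) : Matrix I4 I4 F) := by
    induction n with
    | zero => exact InK.one
    | succ n ih =>
      rw [pow_succ]
      exact (ih ⟨n, by simp⟩).mul (c₁ := μ) (c₂ := 1) (by rw [h2, one_smul, add_comm]) InK.self
  obtain ⟨a, b, h4⟩ := h3
  refine trace_eq_zero (c := b * μ) ?_
  change W ((x ^ n : Sp4 F) : Matrix I4 I4 F) = _
  rw [h4, W_add, W, W, st_smul, st_smul, st_one, CharTwo.add_self_eq_zero, zero_add, ← smul_add, ← W, h1, smul_smul]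

theorem reg_iff {v : Sp4 F} : Reg v ↔ c1 v ≠ 0 ∧ c2 v ≠ 0 := ⟨fun h => ⟨h.1, h.2⟩, fun h => ⟨h.1, h.2⟩⟩

theorem reg_conj {v : Sp4 F} (h : Reg v) (g : Sp4 F) : Reg (g * v * g⁻¹) := by
  rw [reg_iff] at h ⊢
  rwa [c1_conj, c2_conj]

/-- a class of cyclic subgroups which is invariant under a graph automorphism is regular -/
theorem reg_of {α : MulAut (Sp4 F)} (hα : ∀ y, c1 (α y) = 0 ↔ c2 y = 0) {x g : Sp4 F} (hx : Odd (orderOf x)) (h1 : x ≠ 1)
    (h : g⁻¹ * α x * g ∈ zpowers x) : Reg x := by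
  have ho : orderOf (g⁻¹ * α x * g) = orderOf x := by rw [orderOf_cj, MulEquiv.orderOf_eq]
  have h2 : c1 (g⁻¹ * α x * g) = c1 (α x) := by simpa using c1_conj (α x) g⁻¹
  have h3 : c1 x = 0 ↔ c2 x = 0 := by
    rw [← hα, ← h2]
    exact ⟨fun k => c1_zpowers hx k h, fun k => c1_zpowers (ho ▸ hx) k (zpowers_eq_of_order h ho ▸ mem_zpowers x)⟩
  exact ⟨fun k => h1 (eq_one_of_c hx k (h3.1 k)), fun k => h1 (eq_one_of_c hx (h3.2 k) k)⟩

theorem not_reg_three {x : Sp4 F} (h : x ^ 3 = 1) : ¬ Reg x := fun hv => by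
  have h1 : x * x = x⁻¹ := eq_inv_of_mul_eq_one_left (by rw [← h, pow_three'])
  have h2 : W (x : Matrix I4 I4 F) * W (x : Matrix I4 I4 F) = W (x : Matrix I4 I4 F) := by
    rw [← W_mul_self, show (x : Matrix I4 I4 F) * x = st (x : Matrix I4 I4 F) from (congrArg Subtype.val h1).trans (coe_inv x),
      W, st_st, add_comm, W]
  obtain ⟨u, -, hu⟩ := W_mul_inv hv
  refine hv.ns 1 ?_
  rw [one_smul, ← one_mul (W _), ← hu, mul_assoc, h2]

theorem eq_or_inv' {x y z : Sp4 F} (h : ∀ y ∈ zpowers x, y ≠ 1 → Reg y) (hy : y ∈ zpowers x) (hz : z ∈ zpowers x)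
    (e : W (y : Matrix I4 I4 F) = W (z : Matrix I4 I4 F)) : y = z ∨ y = z⁻¹ := by
  by_contra hcon
  rw [not_or] at hcon
  have hs := h _ (mul_mem (inv_mem hy) hz) fun k => hcon.1 (inv_mul_eq_one.1 k)
  obtain ⟨u, -, hu⟩ := W_mul_inv hs
  have hc : z * y⁻¹ = y⁻¹ * z := by
    obtain ⟨i, rfl⟩ := hy
    obtain ⟨j, rfl⟩ := hz
    exact ((Commute.refl x).zpow_zpow j i).inv_right
  generalize hs' : y⁻¹ * z = s at hu hc hs
  have h1 : (1 + (s : Matrix I4 I4 F)) * (1 + ((y⁻¹ * z⁻¹ : Sp4 F) : Matrix I4 I4 F)) = 0 := by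
    have h2 : (s : Matrix I4 I4 F) * (y⁻¹ * z⁻¹ : Sp4 F) = ((y⁻¹ * y⁻¹ : Sp4 F) : Matrix I4 I4 F) :=
      congrArg Subtype.val (show s * (y⁻¹ * z⁻¹) = y⁻¹ * y⁻¹ by
        rw [← hs', mul_assoc, ← mul_assoc z, hc, ← hs', mul_inv_cancel_right])
    have h3 := congrArg (fun M => st (y : Matrix I4 I4 F) * M) e
    simp only [W, mul_add, st_mul_self] at h3
    rw [add_mul, mul_add, mul_add, one_mul, one_mul, mul_one, h2, ← hs', Submonoid.coe_mul, Submonoid.coe_mul,
      Submonoid.coe_mul, H88.FC.coe_inv, H88.FC.coe_inv, add_comm (st _ * (z : Matrix I4 I4 F)), add_add_add_comm, h3,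
      add_comm (st _ * (z : Matrix I4 I4 F)), CharTwo.add_self_eq_zero]
  have h2 : u * st (s : Matrix I4 I4 F) * (1 + s) * (1 + s) = 1 := by
    have h4 : st (s : Matrix I4 I4 F) * (1 + s) * (1 + s) = W (s : Matrix I4 I4 F) := by
      rw [mul_add (st _), mul_one, st_mul_self, mul_add, mul_one, add_mul, st_mul_self, one_mul, add_assoc,
        ← add_assoc 1, CharTwo.add_self_eq_zero, zero_add, add_comm, W]
    rw [mul_assoc u, mul_assoc u, h4, hu]
  have h3 := congrArg (fun M => u * st (s : Matrix I4 I4 F) * (1 + s) * M) h1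
  simp only [← mul_assoc, h2, one_mul, mul_zero] at h3
  have h4 : y⁻¹ * z⁻¹ = 1 := Subtype.ext (CharTwo.add_eq_zero.1 h3).symm
  exact hcon.2 (inv_mul_eq_one.1 h4)

theorem W_cases {x y : Sp4 F} (hx : Reg x) (hc : y * x = x * y) (h1 : c1 y = c1 x) (h2 : c2 y = c2 x) :
    W (y : Matrix I4 I4 F) = W (x : Matrix I4 I4 F) ∨ W (y : Matrix I4 I4 F) = c1 x • 1 + W (x : Matrix I4 I4 F) := by
  obtain ⟨a, b, h3⟩ := W_inK hx (congrArg Subtype.val hc : (y : Matrix I4 I4 F) * x = x * y)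
  have h4 := W_sq'' y
  have h5 := W_sq'' x
  have h0 : (2 : F) = 0 := CharTwo.two_eq_zero
  have h6 : (a * a + b * b * c2 x) • (1 : Matrix I4 I4 F) + (b * b * c1 x + 2 * (a * b)) • W (x : Matrix I4 I4 F) =
      (c1 x * a + c2 x) • (1 : Matrix I4 I4 F) + (c1 x * b) • W (x : Matrix I4 I4 F) := by
    rw [h1, h2, h3] at h4
    simp only [add_mul, mul_add, smul_mul_assoc, mul_smul_comm, one_mul, mul_one, h5] at h4
    linear_combination (norm := module) h4
  obtain ⟨h7, h8⟩ := InK.coeff hx.ns h6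
  have h9 : b = 1 := by
    have h10 : b ≠ 0 := by
      rintro rfl
      rw [zero_smul, add_zero] at h3
      exact hx.c1 (h1.symm.trans (trace_eq_zero h3))
    have h11 : (b * c1 x) * (b - 1) = 0 := by linear_combination h8 - a * b * h0
    exact sub_eq_zero.1 ((mul_eq_zero.1 h11).resolve_left (mul_ne_zero h10 hx.c1))
  subst h9
  have h10 : a * (a - c1 x) = 0 := by linear_combination h7
  rcases mul_eq_zero.1 h10 with h11 | h11
  · exact .inl (by rw [h3, h11, zero_smul, zero_add, one_smul])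
  · exact .inr (by rw [h3, sub_eq_zero.1 h11, one_smul])

/-- the normaliser of a regular cyclic group -/
theorem card_norm_reg {x : Sp4 F} (h1 : x ≠ 1) (h : ∀ y ∈ zpowers x, y ≠ 1 → Reg y) :
    Nat.card (normalizer (zpowers x : Set (Sp4 F))) ≤ 4 * (Nat.card F + 1) ^ 2 := by
  have hx := h x (mem_zpowers x) h1
  refine (card_norm_le (w := 4) ?_).trans (Nat.mul_le_mul_left _ (cn_reg hx))
  have k : ∀ w, {y | y ∈ zpowers x ∧ W ((y : Sp4 F) : Matrix I4 I4 F) = w}.ncard ≤ 2 := fun w => by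
    rcases Set.eq_empty_or_nonempty {y | y ∈ zpowers x ∧ W ((y : Sp4 F) : Matrix I4 I4 F) = w} with e | ⟨z, hz⟩
    · rw [e, Set.ncard_empty]
      omega
    · exact (Set.ncard_le_ncard (t := {z, z⁻¹}) fun y hy => eq_or_inv' h hy.1 hz.1 (hy.2.trans hz.2.symm)).trans
        ((Set.ncard_insert_le _ _).trans (by rw [Set.ncard_singleton]))
  refine (Set.ncard_le_ncard ?_).trans ((Set.ncard_union_le _ _).trans
    (add_le_add (k (W (x : Matrix I4 I4 F))) (k (c1 x • 1 + W (x : Matrix I4 I4 F)))))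
  rintro y ⟨hy, hc⟩
  obtain ⟨g, hg⟩ := isConj_iff.1 hc
  have h2 : y * x = x * y := by
    obtain ⟨i, rfl⟩ := hy
    exact (Commute.refl x).zpow_left i
  exact (W_cases hx h2 (hg ▸ c1_conj x g) (hg ▸ c2_conj x g)).imp (fun k => ⟨hy, k⟩) fun k => ⟨hy, k⟩

/-- `C(a) ≤ GL₂(4)` -/
theorem cn_exc (hq : Nat.card F = 4) {t : F} (ht : 1 + t + t ^ 2 = 0) {a : Sp4 F} (ha : W (a : Matrix I4 I4 F) = 1) :
    cn a ≤ 180 := by
  have h0 : (2 : F) = 0 := CharTwo.two_eq_zero
  obtain ⟨e, he⟩ : ∃ e, e = (a : Matrix I4 I4 F) + t • 1 := ⟨_, rfl⟩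
  have h1 : st (a : Matrix I4 I4 F) = 1 - a := eq_sub_of_add_eq' ha
  have h2 : st e = 1 - e := by
    rw [he, st_add, st_smul, st_one, h1]
    linear_combination (norm := module) (t * h0) • (1 : Matrix I4 I4 F)
  have h3 : e * st e = 0 := by
    have h4 := mul_st a
    rw [h1, mul_sub, mul_one] at h4
    rw [h2, he]
    simp only [mul_sub, add_mul, mul_add, mul_one, one_mul, smul_mul_assoc, mul_smul_comm]
    linear_combination (norm := module) h4 + (ht - (t ^ 2) * h0) • (1 : Matrix I4 I4 F) - (t * h0) • (a : Matrix I4 I4 F)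
  have h4 : e.rank ≤ 2 := by
    have h5 := Matrix.rank_add_rank_le_card_of_mul_eq_zero h3
    have h6 : (st e).rank = e.rank := by
      rw [← Matrix.rank_transpose, ← Matrix.rank_submatrix e (Equiv.sumComm _ _) (Equiv.sumComm _ _)]
      rfl
    rw [h6] at h5
    simp only [Fintype.card_sum, Fintype.card_fin] at h5
    omega
  have hc : ∀ x : centralizer ({a} : Set (Sp4 F)), (x.1 : Matrix I4 I4 F) * e = e * x.1 := fun x => by
    have h5 : (x.1 : Matrix I4 I4 F) * a = a * x.1 := congrArg Subtype.val (mem_centralizer_singleton_iff.1 x.2)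
    rw [he, mul_add, add_mul, h5, mul_smul_comm, smul_mul_assoc, mul_one, one_mul]
  let U := LinearMap.range e.mulVecLin
  have hU : ∀ x : centralizer ({a} : Set (Sp4 F)), ∀ v ∈ U, (x.1 : Matrix I4 I4 F).mulVecLin v ∈ U := by
    rintro x _ ⟨v, rfl⟩
    exact ⟨(x.1 : Matrix I4 I4 F).mulVec v, by simp only [Matrix.mulVecLin_apply, Matrix.mulVec_mulVec, hc]⟩
  let f : centralizer ({a} : Set (Sp4 F)) →* Module.End F U :=
    { toFun := fun x => (x.1 : Matrix I4 I4 F).mulVecLin.restrict (hU x)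
      map_one' := LinearMap.ext fun v => Subtype.ext (Matrix.one_mulVec _)
      map_mul' := fun x y => LinearMap.ext fun v => Subtype.ext (Matrix.mulVec_mulVec v.1 (x.1 : Matrix I4 I4 F) (y.1 : Matrix I4 I4 F)).symm }
  have hf : Function.Injective f.toHomUnits := (injective_iff_map_eq_one _).2 fun x hx => by
    have h5 : (x.1 : Matrix I4 I4 F) * e = e := Matrix.ext_of_mulVec_single fun i => by
      rw [← Matrix.mulVec_mulVec]
      exact congrArg Subtype.val (LinearMap.congr_fun (congrArg Units.val hx) ⟨_, Pi.single i 1, rfl⟩)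
    have h6 := congrArg (fun M => st M * (x.1 : Matrix I4 I4 F)) h5
    simp only [st_mul, mul_assoc, st_mul_self, mul_one] at h6
    rw [h2, sub_mul, one_mul, ← hc, h5] at h6
    exact Subtype.ext (Subtype.ext (sub_left_injective h6).symm)
  have : Finite (Module.End F U) := Finite.of_injective _ DFunLike.coe_injective
  refine (Nat.card_le_card_of_injective _ hf).trans ?_
  rw [Nat.card_congr (LinearMap.GeneralLinearGroup.generalLinearEquiv F U).toEquiv, H446.CS.card_linearEquiv, hq]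
  change Module.finrank F U ≤ 2 at h4
  generalize Module.finrank F U = n at h4
  interval_cases n <;> decide

end Cfsg.Agent.N2C.N4.B2
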