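import Cfsg.Agent.N2.D4m.B2a
import Cfsg.Agent.N2.Par.Main
import Cfsg.Agent.SB.B2.Main

/-!
# N2, `Sp₄(2^a)` with a graph automorphism: the local case (helper21)
-/

set_option autoImplicit false
set_option linter.unusedSectionVars false
set_option maxHeartbeats 400000

namespace Cfsg.Agent.N2C.N4.B2

open Subgroup Cfsg.Agent.N2 Cfsg.Agent.H88.FC Cfsg.Agent.H319.FC Cfsg.Agent.SB.B2
open Cfsg.Agent.ClassicalGeometry.Sp4Graph
open Cfsg.Agent.FP3 (Good MI fx)

variable {F : Type} [Field F] [CharP F 2] [Finite F] {A : Subgroup (Sp4 F)} {Γ : Subgroup (MulAut (Sp4 F))}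

/-- the normaliser of a maximal torus -/
theorem good_reg (hq : 4 ≤ Nat.card F) (hA : MI A Γ) {v : Sp4 F} (hv : Reg v) (hi : Inv Γ (centralizer {v})) : Good A := by
  have := simple_sp hq
  have hm : ∀ n : Sp4 F, n ∈ centralizer {v} ↔ n * v = v * n := fun n => mem_centralizer_singleton_iff
  have hc : ∀ {a b : Sp4 F}, a * v = v * a → b * v = v * b → a * b = b * a := fun ha hb =>
    Subtype.ext (comm_of_comm hv (congrArg Subtype.val ha) (congrArg Subtype.val hb))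
  have h1 := mi_norm hA hi (fun k => by
    have h2 : v = 1 := mem_bot.1 (k ▸ (hm v).2 rfl)
    exact not_reg_three (by rw [h2, one_pow]) hv) fun k =>
      noncomm_sp hq ⟨⟨fun a b => hc ((hm a).1 (k ▸ mem_top a)) ((hm b).1 (k ▸ mem_top b))⟩⟩
  subst h1
  refine good_of_one (le_normalizer ((hm v).2 rfl)) (fx_le_one fun t ht => mem_normalizer_fintype fun n hn => (hm _).2 ?_)
  have h2 := comm_of_conj hv (by rw [orderOf_cj]; exact odd_of_comm hv rfl)
    ((hm _).1 ((mem_normalizer_iff.1 ht v).1 ((hm v).2 rfl)))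
  calc t * n * t⁻¹ * v = t * (n * (t⁻¹ * v * t)) * t⁻¹ := by group
    _ = _ := by rw [hc ((hm n).1 hn) h2]; group

/-- the normaliser of a Sylow `3`-subgroup of `Sp₄(4)` -/
theorem good_exc (hq : Nat.card F = 4) (hA : MI A Γ) {t : F} (ht : 1 + t + t ^ 2 = 0) {E : Subgroup (Sp4 F)} (hi : Inv Γ E)
    (hc : ∀ a ∈ E, ∀ b ∈ E, a * b = b * a) {r : ℕ} (hr : r.Prime) (hp : ∀ a ∈ E, a ^ r = 1) {a b : Sp4 F} (ha : a ∈ E)
    (hb : b ∈ E) (hE : Exc a b) : Good A := by
  have := simple_sp hq.ge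
  have := Fact.mk Nat.prime_three
  have hT : Nat.card (Sp4 F) = 979200 := by rw [card_sp, hq]; norm_num
  have h0 : c1 a = 0 := trace_eq_zero (c := 1) (by rw [hE.Wa, one_smul])
  have ha1 : a ≠ 1 := fun k => one_ne_zero (α := Matrix I4 I4 F) (by
    rw [← hE.Wa, k, W, Submonoid.coe_one, st_one, CharTwo.add_self_eq_zero])
  have h3 : orderOf a = 3 := orderOf_eq_prime (exc_cube hE) ha1
  obtain rfl : 3 = r := (Nat.prime_dvd_prime_iff_eq Nat.prime_three hr).1 (h3 ▸ orderOf_dvd_of_pow_eq_one (hp a ha))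
  have hP : IsPGroup 3 E := fun x => ⟨1, Subtype.ext (by rw [pow_one]; exact hp x x.2)⟩
  have key : ∀ Q : Subgroup (Sp4 F), IsPGroup 3 Q → E ≤ Q → Nat.card Q = 9 := fun Q hQ hle => by
    obtain ⟨k, hk⟩ := IsPGroup.iff_card.1 hQ
    have h4 := card_subgroup_dvd_card Q
    have h5 : ¬ Nat.card Q ≤ Nat.card (zpowers a) := fun k => one_ne_zero (hE.tb.symm.trans
      (c1_zpowers (h3 ▸ by decide) h0 (eq_of_le_of_card_ge (zpowers_le.2 (hle ha)) k ▸ hle hb)))
    rw [Nat.card_zpowers, h3, hk] at h5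
    rw [hT, hk] at h4
    rw [hk]
    rcases k with _ | _ | _ | k
    · omega
    · omega
    · rfl
    · exact absurd ((pow_dvd_pow 3 (by omega : 3 ≤ k + 1 + 1 + 1)).trans h4) (by norm_num)
  have h9 := key E hP le_rfl
  have h1 := mi_norm hA hi (fun k => ha1 (mem_bot.1 (k ▸ ha))) fun k => by
    rw [k, card_top, hT] at h9
    omega
  subst h1
  have h4 : ∀ y ∈ normalizer (E : Set (Sp4 F)), orderOf y = 3 → y ∈ E := fun y hy ho => by
    have h5 := IsPGroup.to_sup_of_normal_right' (IsPGroup.of_card (G := zpowers y) (n := 1)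
      (by rw [Nat.card_zpowers, ho, pow_one])) hP (zpowers_le.2 hy)
    exact eq_of_le_of_card_ge le_sup_right ((key _ h5 le_sup_right).trans h9.symm).le ▸ mem_sup_left (mem_zpowers y)
  have h5 := cn_exc hq ht hE.Wa
  by_cases h6 : Nat.card (normalizer (E : Set (Sp4 F))) ≤ 122
  · refine good_of_le (le_normalizer ha) (c := 20) ((fx_le_relIndex fun g hg => ?_).trans ?_) (by omega)
    · have h7 : ¬ 3 ∣ E.index := by
        have := E.card_mul_index
        rw [h9, hT] at this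
        omega
      exact (hP.toSylow h7).conj_eq_normalizer_conj_of_mem_centralizer a g (fun y hy => hc y hy a ha)
        fun y hy => hc y hy _ (h4 _ hg (by rw [orderOf_cj, h3]))
    · have h7 := ((normalizer (E : Set (Sp4 F))).subgroupOf (centralizer {a})).index_mul_card
      have h8 : Nat.card E ≤ Nat.card ((normalizer (E : Set (Sp4 F))).subgroupOf (centralizer {a})) :=
        Nat.card_le_card_of_injective (fun x => ⟨⟨x, mem_centralizer_singleton_iff.2 (hc x x.2 a ha)⟩, le_normalizer x.2⟩)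
          fun _ _ e => Subtype.ext (congrArg (fun z => z.1.1) e)
      have h10 := Nat.mul_le_mul_left ((normalizer (E : Set (Sp4 F))).subgroupOf (centralizer {a})).index (h9 ▸ h8)
      rw [h7] at h10
      have h11 := h10.trans h5
      rw [relIndex]
      omega
  · refine good_of_cc (le_normalizer ha) h5 (d := 9) (le_trans (Nat.card_le_card_of_injective
      (fun y => (⟨y.1, h4 _ y.2.2 ?_⟩ : E)) fun _ _ e => Subtype.ext (Subtype.mk.inj e)) h9.le) ?_
    · obtain ⟨g, hg⟩ := isConj_iff.1 y.2.1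
      rw [← hg, ← h3]
      simpa using orderOf_cj g⁻¹ a
    · rw [hT]
      exact le_trans (by norm_num) (Nat.mul_le_mul_left _ (Nat.pow_le_pow_left (not_le.1 h6) 2))

/-- **the local case** -/
theorem good_loc (hq : 4 ≤ Nat.card F) (hA : MI A Γ) {α : MulAut (Sp4 F)} (hαΓ : α ∈ Γ) (hα : ∀ y, c1 (α y) = 0 ↔ c2 y = 0)
    {E : Subgroup (Sp4 F)} (hi : Inv Γ E) (h0 : E ≠ ⊥) (hc : ∀ a ∈ E, ∀ b ∈ E, a * b = b * a) {r : ℕ} (hr : r.Prime)
    (hp : ∀ a ∈ E, a ^ r = 1) : Good A := by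
  have := simple_sp hq
  by_cases h2 : r = 2
  · subst h2
    have := Fintype.ofFinite F
    exact Par.good_of_inv (p := 2) (noncomm_sp hq) (.inr (.inl ⟨F, _, this, inferInstance, 2, le_rfl,
      fun _ => by rw [← Nat.card_eq_fintype_card]; omega, ⟨mkE F⟩⟩)) hA hi
      (fun x => ⟨1, Subtype.ext (by rw [pow_one]; exact hp x x.2)⟩) h0
  have hodd : ∀ a ∈ E, Odd (orderOf a) := fun a ha =>
    (hr.odd_of_ne_two h2).of_dvd_nat (orderOf_dvd_of_pow_eq_one (hp a ha))
  have hreg : ∀ v : Sp4 F, Reg v → (∀ a ∈ E, a * v = v * a) → (∀ n : Sp4 F, (∀ a ∈ E, n * a = a * n) → n * v = v * n) →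
      Good A := fun v hv hv1 hv2 => by
    refine good_reg hq hA hv ?_
    have h3 : centralizer {v} = centralizer (E : Set (Sp4 F)) := by
      ext n
      rw [mem_centralizer_singleton_iff]
      exact ⟨fun k a ha => Subtype.ext (comm_of_comm hv (congrArg Subtype.val (hv1 a ha)) (congrArg Subtype.val k)),
        fun k => hv2 n fun a ha => (k a ha).symm⟩
    exact h3 ▸ hi.centralizer
  by_cases hex : ∃ a ∈ E, c1 a * c2 a ≠ 0
  · obtain ⟨a, ha, h1⟩ := hex
    exact hreg a ⟨left_ne_zero_of_mul h1, right_ne_zero_of_mul h1⟩ (fun b hb => hc b hb a ha) fun n hn => hn a ha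
  push Not at hex
  obtain ⟨⟨a₀, ha₀⟩, ha₁⟩ := ne_bot_iff_exists_ne_one.1 h0
  have ha₂ : a₀ ≠ 1 := fun k => ha₁ (Subtype.ext k)
  obtain ⟨a, b, ha, hb, ha1, hb1, h1a, h2b⟩ : ∃ a b : Sp4 F, a ∈ E ∧ b ∈ E ∧ a ≠ 1 ∧ b ≠ 1 ∧ c1 a = 0 ∧ c2 b = 0 := by
    rcases mul_eq_zero.1 (hex a₀ ha₀) with h4 | h4
    · obtain ⟨b, rfl⟩ := α.surjective a₀
      exact ⟨α b, b, ha₀, (hi.iff hαΓ b).1 ha₀, ha₂, fun h => ha₂ (by rw [h, map_one]), h4, (hα b).1 h4⟩
    · exact ⟨α a₀, a₀, hi _ hαΓ _ ha₀, ha₀, by rwa [Ne, map_eq_one_iff _ α.injective], ha₂, (hα _).2 h4, h4⟩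
  have hE := exc_of (hc a ha b hb) (hodd a ha) (hodd b hb) (hodd _ (mul_mem ha hb)) (hodd _ (mul_mem ha (inv_mem hb)))
    ha1 hb1 h1a h2b (hex _ (mul_mem ha hb)) (hex _ (mul_mem ha (inv_mem hb)))
  by_cases hl : ∃ l : F, l ≠ 0 ∧ l ≠ 1 ∧ 1 + l + l ^ 2 ≠ 0
  · obtain ⟨l, hl0, hl1, hl2⟩ := hl
    obtain ⟨v, hv, hX⟩ := exists_reg hE hl0 hl1 hl2
    exact hreg v hv (fun c h => Subtype.ext (hX _ (congrArg Subtype.val (hc c h a ha)) (congrArg Subtype.val (hc c h b hb))))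
      fun n hn => Subtype.ext (hX _ (congrArg Subtype.val (hn a ha)) (congrArg Subtype.val (hn b hb)))
  push Not at hl
  obtain ⟨t, ht0, ht1⟩ := exists_t (F := F) hq
  refine good_exc (le_antisymm ?_ hq) hA (hl t ht0 ht1) hi hc hr hp ha hb hE
  classical
  have := Fintype.ofFinite F
  have h1 : (Finset.univ : Finset F) ⊆ {0, 1, t, t + 1} := fun x _ => by
    simp only [Finset.mem_insert, Finset.mem_singleton]
    by_contra h3
    simp only [not_or] at h3
    have h4 : (x - t) * (x - (t + 1)) = 0 := by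
      linear_combination hl x h3.1 h3.2.1 + hl t ht0 ht1 - (x * t + x + 1) * (CharTwo.two_eq_zero : (2 : F) = 0)
    exact (mul_eq_zero.1 h4).elim (fun k => h3.2.2.1 (sub_eq_zero.1 k)) fun k => h3.2.2.2 (sub_eq_zero.1 k)
  rw [Nat.card_eq_fintype_card]
  exact (Finset.card_le_card h1).trans Finset.card_le_four

end Cfsg.Agent.N2C.N4.B2
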