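import Cfsg.Agent.N2.D4m.CenO

/-!
# N2, dimension four: centralisers of automorphisms of `L₄(q)`, `U₄(q)` (helper21)

`cenL : AtL pCen`, `cenU : AtU pCen`.
-/

set_option autoImplicit false
set_option linter.unusedSectionVars false
set_option maxHeartbeats 400000

namespace Cfsg.Agent.N2C.N4

open Cfsg Cfsg.Agent.DS.Cl Cfsg.Agent.DS.Cl.Fwd Module Matrix
open Cfsg.Agent.FP3 (fx Good)
open Cfsg.Agent.SB.Cl (IsO)
open Cfsg.Agent.SB.Fld (prL)
open Cfsg.Agent.N2C.Cyc Cfsg.Agent.N2C.Sub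
open Cfsg.Agent.N2C.Size (SI fm exists_kind mem_fm_Iso exists_q)

namespace Cen

section model

variable {K V : Type} [Field K] [Fintype K] [AddCommGroup V] [Module K V] [Finite V] {h : HF K V} {F : FR h.EB}
  {Q : QuadraticForm K V}

theorem op_plus (o : IsO h F Q) (hd : finrank K V = 4) (h2 : (2 : K) ≠ 0) (hP : H955.IsPlus Q) : ∃ u m : h.EB, OP u m := by
  have : Module.Finite K V := Module.Finite.of_finite
  obtain ⟨e, he⟩ := H955.exists_plus_equiv 2 Q (nondeg_of_O o) hd hP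
  let E : MO K ≃+* h.EB := (Matrix.toLinAlgEquiv' (n := Fin 2 ⊕ Fin 2) (R := K)).toRingEquiv.trans e.symm.conjRingEquiv
  have h1 : ∀ (M : MO K) v i, e (h.ap (E M) v) i = ∑ j, M i j * e v j := fun _ _ => congrFun (e.apply_symm_apply _)
  have h3 : ∀ u v, h.b u v = ∑ i, (e u (.inl i) * e v (.inr i) + e v (.inl i) * e u (.inr i)) := fun u v => by
    rw [o.2.1, ← LieClassical.QuadForms.polar_plusForm]
    simp only [QuadraticMap.polar, ← map_add, he]
  refine ⟨_, _, (op_MO h2).map (e := E) fun M => h.ap_ext fun y => h.ext_right fun u => ?_⟩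
  have h4 : ∀ i j, (star M : MO K) i j = M j.swap i.swap := fun _ _ => rfl
  rw [h.b_star, h3, h3]
  simp only [h1, Fintype.sum_sum_type, Fin.sum_univ_two, h4, Sum.swap_inl, Sum.swap_inr]
  ring

theorem tor_minus (o : IsO h F Q) (hd : finrank K V = 4) (hP : ¬ H955.IsPlus Q) :
    ∃ u ∈ F.Iso, To (u : h.EB) (Fintype.card K ^ 4) ∧ ∃ s, u ^ s = 1 ∧ s.Coprime (Fintype.card K ^ 2 - 1) := by
  have : Nontrivial V := Module.nontrivial_of_finrank_pos (R := K) (by omega)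
  obtain ⟨s, hs⟩ := H689.exists_ppd (q := Nat.card K) (k := finrank K V) Finite.one_lt_card (by omega) (by omega)
  have : Fact s.Prime := ⟨hs.prime⟩
  have hm : finrank K V = 2 * 2 := hd
  obtain ⟨⟨u, hu⟩, h1⟩ := exists_prime_orderOf_dvd_card' (G := F.Iso) s (by
    rw [card_Iso_O o, card_O_minus (nondeg_of_O o) (by omega) hm hP, oM, ← Nat.card_eq_fintype_card]
    exact (((H689.Ppd.dvd_add_one (hm ▸ hs) (by omega)).mul_left _).mul_right _).mul_left _)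
  replace h1 : orderOf u = s := (Subgroup.orderOf_coe (⟨u, hu⟩ : F.Iso)).trans h1
  have a1 : u ^ s = 1 := h1 ▸ pow_orderOf_eq_one u
  have a2 := hs.two_lt (by omega)
  have a3 : u * u ≠ 1 := fun e => by
    have := Nat.le_of_dvd two_pos (h1 ▸ orderOf_dvd_of_pow_eq_one ((sq u).trans e))
    omega
  have a4 : IrrV (h.ap u) := fun W hW => H62.PCGeo.irr (g := unE h u) hs (by rw [← map_pow, a1, map_one])
    (fun e => a3 (by rw [(unE h).map_eq_one_iff.1 e, mul_one])) hW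
  refine ⟨u, hu, ⟨Fld.tr_of_irr hu.1 a4, fun e => a3 (Units.ext (by have := hu.1; rwa [e] at this)),
    hd ▸ (cycV_of_irr a4).cA_le⟩, s, a1, hs.prime.coprime_iff_not_dvd.2 fun k => ?_⟩
  have := Nat.le_of_dvd two_pos ((hs.iff 2).1 (Nat.card_eq_fintype_card (α := K) ▸ k))
  omega

end model

variable {A : Type} [Ring A] [StarRing A] [Finite A] {F : FR A} {φ : RingAut A} {q : ℕ}

/-- the two orthogonal groups -/
theorem model (ss : SS A) (hq : 2 ≤ q) (ho : Odd q) (t : TyO F 4 q) : (∃ u m : A, OP u m) ∨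
    ∃ u ∈ F.Iso, To (u : A) (q ^ 4) ∧ ∃ s, u ^ s = 1 ∧ s.Coprime (q ^ 2 - 1) := by
  have k := fun {a b} => Nat.pow_right_injective hq (a₁ := a) (a₂ := b)
  have h1 : ∀ {n q'}, ¬ TyLU F n q' := fun T => by
    have h1 := T.cen
    rw [t.cen, ← T.c0, t.c0] at h1
    exact absurd (k ((pow_one _).trans h1)) (by omega)
  rcases exists_kind ss F with ⟨K, _, _, n, e, hn, he⟩ | ⟨K, _, _, n, h, e, he, hn, g⟩
  · exact (h1 ((tyL _ hn).back he)).elim
  rw [← finrank_fin_fun (n := n) K] at hn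
  rcases g with ⟨g, -⟩ | g | ⟨Q, g⟩
  · obtain ⟨q, -, h2⟩ := exists_q g
    exact (h1 ((tyU g _ h2 hn).back he)).elim
  · have T := (tySp g hn).back he
    obtain rfl : Fintype.card K = q := T.c0.symm.trans t.c0
    have h2 := sq_inj (k (T.all.symm.trans t.all))
    exact absurd (k (T.L.symm.trans t.L)) (by rw [h2]; decide)
  have T := (tyO g hn).back he
  obtain rfl : Fintype.card K = q := T.c0.symm.trans t.c0
  have h2 := sq_inj (k (T.all.symm.trans t.all))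
  by_cases hP : H955.IsPlus Q
  · obtain ⟨u, m, o⟩ := op_plus g h2 (fun h3 => by
      have := FiniteField.even_card_of_char_two (F := K)
        (ringChar.eq_iff.2 (CharTwo.of_one_ne_zero_of_two_eq_zero one_ne_zero h3))
      have := Nat.odd_iff.1 ho
      omega) hP
    exact Or.inl ⟨_, _, o.map he.symm⟩
  · obtain ⟨v, hv, j, s, h3, h4⟩ := tor_minus g h2 hP
    obtain ⟨u, rfl⟩ := (Units.mapEquiv e.toMulEquiv).surjective v
    exact Or.inr ⟨u, (mem_fm_Iso he).1 hv, e.symm_apply_apply u ▸ j.map he.symm, s,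
      (Units.mapEquiv e.toMulEquiv).injective (by rw [map_pow, h3, map_one]), h4⟩

theorem two_unit (ss : SS A) (h : Odd (Nat.card (C0 A))) : IsUnit (2 : A) := by
  have := ss.1
  have : Fact (Nat.Prime 2) := ⟨Nat.prime_two⟩
  refine ss.isUnit_of_cen (ofNat_mem _ 2) (star_ofNat 2) fun k => ?_
  have h1 : addOrderOf (1 : C0 A) = 2 := addOrderOf_eq_prime (Subtype.ext (by
    rw [two_nsmul]
    exact one_add_one_eq_two.trans k)) one_ne_zero
  exact Nat.not_even_iff_odd.2 h (even_iff_two_dvd.2 (h1 ▸ addOrderOf_dvd_natCard _))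

theorem gc_min (hq : 2 ≤ q) (hmin : ∀ B : Subgroup F.S, B ≠ ⊤ → q ^ 3 ≤ B.index) (h1 : q ^ 15 ≤ 8 * Nat.card F.S)
    (h2 : Nat.card (CS F φ) ≤ 2 * q ^ 10) (h : ∃ a ∈ CS F φ, fx (CS F φ) a ≤ q) : GC F φ := by
  obtain ⟨a, h3, h4⟩ := h
  refine ⟨a, h3, q, hq, h4, (Nat.mul_le_mul_right _ (hmin _ fun k => ?_)).trans (CS F φ).index_mul_card.le⟩
  rw [k, Subgroup.card_top] at h2
  have h5 := Nat.mul_le_mul_right (q ^ 10) (Nat.pow_le_pow_left hq 5)
  have : 0 < q ^ 10 := by positivity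
  rw [← pow_add, show 5 + 10 = 15 from rfl] at h5
  omega

theorem num_om {B S : ℕ} (hq : 3 ≤ q) (hB : B ≤ 2 * q ^ 6) (hS : 5 * q ^ 15 ≤ 24 * S) : (q ^ 2 + 1) ^ 3 * B ≤ S := by
  refine num_gen (s := 5) (t := 24) (Y := q ^ 9) (by norm_num) hB (by rwa [← pow_add]) ?_
  have h1 := Nat.pow_le_pow_left hq 2
  have h2 := Nat.mul_le_mul_right ((q ^ 2) ^ 3) (Nat.pow_le_pow_left hq 3)
  have h3 : (9 * (q ^ 2 + 1)) ^ 3 ≤ (10 * q ^ 2) ^ 3 := Nat.pow_le_pow_left (by omega) 3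
  rw [mul_pow, mul_pow] at h3
  rw [show q ^ 9 = q ^ 3 * (q ^ 2) ^ 3 by ring]
  omega

theorem gc4 (hφ : φ ∈ F.Aut) (hl : φ ∉ Lin A) (hp : (orderOf φ).Prime) {H : Subgroup (RingAut A)} {p : ℕ} (x : Ctx F H p)
    (hI : Irr H) (hc : ∀ γ ∈ H, γ * φ = φ * γ) (T : TyLU F 4 q) (un : Uni F) (o : OrdLU F 4 q) (hq : 3 ≤ q)
    (hmin : ∀ B : Subgroup F.S, B ≠ ⊤ → q ^ 3 ≤ B.index) (hZ : ∀ z ∈ ZI F, z ^ (q ^ 2 - 1) = 1)
    (hD : ∀ v ∈ F.Iso, v ^ (q ^ 2 - 1) ∈ I0 F) : GC F φ := by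
  obtain ⟨g', g0, g1, h1, h2⟩ := o
  have ss := x.ss
  obtain ⟨A0, _, _, _, F0, ι, d, ⟨c, h, g⟩ | ⟨h, c, g⟩⟩ := Sub.cases boxTy ss hφ hl hp x hI hc
  · obtain ⟨q0, h3, h4, t, -⟩ := d.ty_field (n := 4) (q := q) boxTy hφ.1 g h
    have t := t T
    refine d.gc_field ss hφ g h un t.jd (by omega) hp.two_le h3 h4 (num_LU h3 hp.two_le le_rfl g0 ?_ (by rwa [← h4, T.c0]))
    have := d.card_le
    have := t.iso
    rw [← t.L]
    omega
  have h3 := d.card_le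
  have g2 := Nat.mul_le_mul_right (Nat.card F.S) (Nat.le_of_dvd four_pos g0)
  replace h2 := h2 hq
  rw [mul_assoc] at h1 h2
  replace h1 : q ^ 15 ≤ 8 * Nat.card F.S := h1.trans (by omega)
  rcases (d.ty_graph (n := 4) boxTy g h T.c0).2 T with t | ⟨t, h4, h5⟩
  · exact gc_min (by omega) hmin h1 (h3.trans (Nat.mul_le_mul_left _ (t.iso.trans_eq t.L))) (T.c0 ▸ fx_sp ss d hφ g h un t.jd)
  have h6 : Nat.card (CS F φ) ≤ 2 * q ^ 6 := h5.trans ((t.iso (by omega)).trans_eq (congrArg _ t.L))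
  rcases model d.ss (by omega) h4 t with ⟨u, m, o⟩ | ⟨u, hu, j, s, h7, h8⟩
  · exact gc_min (by omega) hmin h1 (h6.trans (Nat.mul_le_mul_left _ (Nat.pow_le_pow_right (by omega) (by omega))))
      (T.c0 ▸ fx_op ss d hφ g h un o)
  · obtain ⟨a, h9, h10⟩ := fx_om ss d hφ g h (two_unit ss (T.c0 ▸ h4)) hZ hD hu j h7 h8
    exact ⟨a, h9, _, Nat.succ_lt_succ (by positivity), h10, num_om hq h6 (h2.trans (by omega))⟩

theorem sq_sub (q : ℕ) : q ^ 2 - 1 = (q + 1) * (q - 1) := by rw [← Nat.sq_sub_sq, one_pow]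

end Cen

open Cen

theorem cenL : AtL pCen := fun K _ _ F _ _ k hq x ⟨hI, _, h1, h2, h3, h4⟩ =>
  (gc4 h1 h2 h3 x hI.1.1 h4 (tyL F four_pos) (uni_L k) (ord_L k) hq (fun _ hB => minL k hq hB le_rfl)
    (fun _ hz => by rw [sq_sub, pow_mul', ZI_pow_L hz, one_pow]) fun v hv => k.mem_comm (pow_mem hv _) (by
      rw [Units.val_pow_eq_pow_val, map_pow, map_pow, sq_sub, pow_mul', FiniteField.pow_card_sub_one_eq_one _
        (LinearMap.isUnit_det _ (v.isUnit.map (prL 4 K))).ne_zero, one_pow])).gd x h4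

theorem cenU : AtU pCen := fun K V _ _ _ _ _ f F q _ _ k hn hq _ x ⟨hI, _, h1, h2, h3, h4⟩ =>
  (gc4 h1 h2 h3 x hI.1.1 h4 (hn ▸ tyU k.u F k.card (by omega)) (uni_U k) (hn ▸ ord_U k) hq
    (fun _ hB => minU k hn (by omega) hB q.le_succ) (fun _ hz => by rw [sq_sub, pow_mul, ZI_pow_U k hz, one_pow])
    fun v hv => k.mem_comm (pow_mem hv _) (by
      refine (map_pow LinearMap.det (f.ap v) _).trans ?_
      rw [sq_sub, pow_mul, det_pow_U k hv, one_pow])).gd x h4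

end Cfsg.Agent.N2C.N4
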