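import Cfsg.Agent.N2.D4m.Min
import Cfsg.Agent.N2.Cl.Sub.Main

/-!
# N2, dimension four: centralisers of graph automorphisms, the counting lemmas (helper21)
-/

set_option autoImplicit false
set_option linter.unusedSectionVars false
set_option maxHeartbeats 400000

namespace Cfsg.Agent.N2C.N4.Cen

open Cfsg Cfsg.Agent.DS.Cl Cfsg.Agent.DS.Cl.Fwd Module
open Cfsg.Agent.FP3 (fx Good)
open Cfsg.Agent.N2C.Cyc Cfsg.Agent.N2C.Sub
open Cfsg.Agent.N2C.Size (SI fm UC)

variable {A A0 : Type} [Ring A] [StarRing A] [Ring A0] [StarRing A0] [Finite A] [Finite A0]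
  {F : FR A} {φ : RingAut A} {c : A} {F0 : FR A0} {ι : A0 →+* A} {u : Aˣ}

/-- alternating elements for the involution `star ∘ φ` -/
def Alt (φ : RingAut A) (w : A) : Prop := ∃ y, w = y + star (φ y)

theorem sq_apply (g : Gal φ 2 c) (x : A) : φ (φ x) = x := by rw [← ra_mul, ← pow_two, g.pow, ra_one]

theorem Alt.map (hφ : φ ∈ SAut A) (g : Gal φ 2 c) {w : A} (h : Alt φ w) : φ w = star w := by
  obtain ⟨y, rfl⟩ := h
  rw [map_add, hφ, sq_apply g, star_add, star_star, add_comm]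

/-- the fixed cosets are forms which are invariant under `u` -/
theorem fx_le_card (d : Dn F φ F0 ι) (hφ : φ ∈ F.Aut) (g : Gal φ 2 c) (hu : u ∈ I0 F) (h1 : φ u = u) {X : Type*} [Finite X]
    (f : X → Aˣ) (key : ∀ w ∈ F.Iso, Alt φ (w : A) → ∀ z ∈ ZI F, w * u = u * w * z → ∃ x, cj A w = cj A (f x)) :
    fx (CS F φ) (el hu) ≤ Nat.card X := by
  have := finAut (A := A)
  refine (fx_cen F.S φ (el hu)).trans ((Set.ncard_le_ncard (t := (fun x => cj A (f x) * φ) '' Set.univ) ?_).trans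
    ((Set.ncard_image_le Set.finite_univ).trans (Set.ncard_univ _).le))
  rintro _ ⟨⟨_, ⟨v, hv, rfl⟩, rfl⟩, h2⟩
  have hv' := FR.comm_le_Iso hv
  have h3 : cj A v * φ * (cj A v)⁻¹ = cj A (v * (um φ v)⁻¹) * φ := by
    rw [map_mul, map_inv, ← conj_cj]
    group
  have h4 := mul_mem hv' (inv_mem (FR.um_mem_Iso hφ hv'))
  have h5 : Alt φ ((v * (um φ v)⁻¹ : Aˣ) : A) := ⟨v * ι F0.l * star (φ v), by
    rw [Units.val_mul, star_eq_inv (FR.um_mem_Iso hφ hv').1, um_val, map_mul, map_mul, d.fix, hφ.1, sq_apply g, star_mul,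
      star_mul, star_star, ← mul_assoc, ← add_mul, ← mul_add, ← d.st, ← map_add, F0.l_add, map_one, mul_one]⟩
  rw [h3] at h2 ⊢
  generalize v * (um φ v)⁻¹ = w at h2 h4 h5
  rw [mul_assoc, comm_el hu h1, ← mul_assoc, ← mul_assoc] at h2
  obtain ⟨z, hz, h6⟩ := cj_eq_iff.1 (show cj A (w * u) = cj A (u * w) by rw [map_mul, map_mul]; exact mul_right_cancel h2)
  have hu' := FR.comm_le_Iso hu
  obtain ⟨x, hx⟩ := key w h4 h5 z (mem_ZI (by
    rw [show z = (u * w)⁻¹ * (w * u) by rw [h6, inv_mul_cancel_left]]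
    exact mul_mem (inv_mem (mul_mem hu' h4)) (mul_mem h4 hu')) hz) h6
  exact ⟨x, trivial, by rw [hx]⟩

/-- the invariant forms are `a + b m`, `m² = 0` -/
theorem fx_le_nil (ss : SS A) (d : Dn F φ F0 ι) (hφ : φ ∈ F.Aut) (g : Gal φ 2 c) (hu : u ∈ I0 F) (h1 : φ u = u) {m : A}
    (hm : star m = m) (hm2 : m * m = 0) (hm0 : m ≠ 0) (key : ∀ w ∈ F.Iso, Alt φ (w : A) → ∀ z ∈ ZI F, w * u = u * w * z →
      ∃ a ∈ Subring.center A, ∃ b ∈ Subring.center A, (w : A) = a + b * m) :
    fx (CS F φ) (el hu) ≤ Nat.card (C0 A) := by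
  have k : ∀ a ∈ Subring.center A, ∀ b ∈ Subring.center A,
      (a + b * m) * star (a + b * m) = a * star a + (b * star a + star (b * star a)) * m := fun a ha b hb => by
    rw [star_add, star_mul, hm, star_mul, star_star, add_mul, mul_add, mul_add, mul_assoc b m (m * _), ← mul_assoc m m, hm2,
      zero_mul, mul_zero, add_zero, mul_assoc b, cen_comm (star_cen ha) m, cen_comm (star_cen hb) m, add_mul, add_assoc,
      add_comm (a * (_ * m)), mul_assoc, mul_assoc]
  refine (fx_le_card d hφ g hu h1 (X := Mi A 0) (fun t => mkU (1 + t * m) (by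
    have h2 := t.2.2
    rw [pow_zero, one_mul] at h2
    rw [k 1 (one_mem _) t t.2.1, star_one, mul_one, mul_one, h2, zero_mul, add_zero])) fun w hw h2 z hz h3 => ?_).trans
    (card_Mi ss 0)
  obtain ⟨a, ha, b, hb, h4⟩ := key w hw h2 z hz h3
  have h5 := hw.1
  rw [h4, k a ha b hb] at h5
  have h6 : b * star a + star (b * star a) ∈ Subring.center A :=
    add_mem (mul_mem hb (star_cen ha)) (star_cen (mul_mem hb (star_cen ha)))
  have h7 : star (b * star a + star (b * star a)) = b * star a + star (b * star a) := by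
    rw [star_add, star_star, add_comm]
  generalize ht : b * star a + star (b * star a) = t at h5 h6 h7
  have h8 : a * star a = 1 := (sub_eq_zero.1 (cen_nil ss (sub_mem (one_mem _) (mul_mem ha (star_cen ha))) ⟨2, by
    rw [← h5, add_sub_cancel_left, pow_two, mul_assoc, ← mul_assoc m, cen_comm h6, mul_assoc, hm2, mul_zero, mul_zero]⟩)).symm
  rw [h8, add_eq_left] at h5
  have h9 : t = 0 := by_contra fun h0 => hm0 ((ss.isUnit_of_cen h6 h7 h0).mul_right_eq_zero.1 h5)
  refine ⟨⟨b * star a, mul_mem hb (star_cen ha), by rw [pow_zero, one_mul, ht, h9]⟩, cj_eq_iff.2 ⟨mkU a h8, ha, Units.ext ?_⟩⟩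
  rw [h4, Units.val_mul, mkU_val, mkU_val, add_mul, one_mul, mul_assoc, cen_comm ha, ← mul_assoc, mul_assoc b,
    mul_eq_one_comm.1 h8, mul_one]

theorem z_eq_one (ss : SS A) {v z : A} (hn : IsNilpotent (v - 1)) {w : Aˣ} (hz : z ∈ Subring.center A)
    (h : w * v = v * w * z) : z = 1 := by
  have h5 : cj A w v = v * z := cj_eq_of_mul (by rw [mul_assoc, ← cen_comm hz, ← mul_assoc, h])
  have h6 : IsNilpotent (cj A w (v - 1)) := hn.map _
  rw [map_sub, map_one, h5] at h6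
  have c1 : Commute v z := cen_comm hz v
  have c2 : Commute z (v - 1) := c1.symm.sub_right (Commute.one_right _)
  have h7 := Commute.isNilpotent_sub (((((Commute.refl _).sub_right (Commute.one_right _)).mul_right c1).mul_left
    (c2.mul_right (Commute.refl _))).sub_left (Commute.one_left _)) h6 (c2.symm.isNilpotent_mul_right hn)
  refine sub_eq_zero.1 (cen_nil ss (sub_mem hz (one_mem _)) ?_)
  convert h7 using 1
  noncomm_ring

/-- **descent** -/
theorem desc (d : Dn F φ F0 ι) (hφ : φ ∈ SAut A) (g : Gal φ 2 c) (h : ∀ z ∈ Subring.center A, φ z = star z) {v v' : A0}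
    {N : AddSubgroup A} (hN : ∀ z ∈ Subring.center A, ∀ x ∈ N, z * x ∈ N)
    (key : ∀ x : A0, (∃ y, x = y + star y) → x * v = v' * x → ι x ∈ N) {w : A} (h1 : Alt φ w) (h2 : w * ι v = ι v' * w) :
    w ∈ N := by
  have k : ∀ z ∈ Subring.center A, ∀ y, z * (y + star (φ y)) = z * y + star (φ (z * y)) := fun z hz y => by
    rw [mul_add, map_mul, star_mul, h z hz, star_star, cen_comm hz]
  let M : AddSubgroup A :=
    { carrier := {w | Alt φ w ∧ w * ι v = ι v' * w}
      add_mem' := by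
        rintro _ _ ⟨⟨a, rfl⟩, h1⟩ ⟨⟨b, rfl⟩, h2⟩
        exact ⟨⟨a + b, by rw [map_add, star_add, add_add_add_comm]⟩, by rw [add_mul, h1, h2, ← mul_add]⟩
      zero_mem' := ⟨⟨0, by simp⟩, by simp⟩
      neg_mem' := by
        rintro _ ⟨⟨a, rfl⟩, h1⟩
        exact ⟨⟨-a, by rw [map_neg, star_neg, neg_add]⟩, by rw [neg_mul, h1, mul_neg]⟩ }
  refine g.ind (M := M) ⟨?_, ?_⟩ (fun i x hx h3 => hN _ (pow_mem g.cen i) _ ?_) ⟨h1, h2⟩
  · rintro _ ⟨⟨a, rfl⟩, h1⟩
    exact ⟨⟨φ a, by rw [map_add, hφ]⟩, by simpa only [map_mul, d.fix] using congrArg φ h1⟩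
  · rintro _ ⟨⟨a, rfl⟩, h1⟩
    exact ⟨⟨_, k c g.cen a⟩, by rw [mul_assoc, h1, ← mul_assoc, ← cen_comm g.cen, mul_assoc]⟩
  · obtain ⟨⟨a, ha⟩, h4⟩ := hx
    obtain ⟨e, he, h5⟩ := g.exists_one
    obtain ⟨y, hy⟩ := d.surj _ (g.tr_fix (e * a))
    obtain ⟨x, rfl⟩ := d.surj x h3
    refine key x ⟨y, d.inj ?_⟩ (d.inj (by rw [map_mul, map_mul, h4]))
    rw [map_add, d.st, hy, ← one_mul (ι x), ← h5, ← tr_mul' h3, ha, k e he, map_add, tr_two (star _), tr_two (e * a), hφ,
      sq_apply g, star_add, add_comm (star _)]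

/-- the span of `1` and `m` over the centre -/
def sp (m : A) : AddSubgroup A where
  carrier := {w | ∃ a ∈ Subring.center A, ∃ b ∈ Subring.center A, w = a + b * m}
  add_mem' := by
    rintro _ _ ⟨a, ha, b, hb, rfl⟩ ⟨a', ha', b', hb', rfl⟩
    exact ⟨_, add_mem ha ha', _, add_mem hb hb', by rw [add_mul, add_add_add_comm]⟩
  zero_mem' := ⟨0, zero_mem _, 0, zero_mem _, by simp⟩
  neg_mem' := by
    rintro _ ⟨a, ha, b, hb, rfl⟩
    exact ⟨_, neg_mem ha, _, neg_mem hb, by rw [neg_mul, neg_add]⟩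

theorem desc_sp (d : Dn F φ F0 ι) (hφ : φ ∈ SAut A) (g : Gal φ 2 c) (h : ∀ z ∈ Subring.center A, φ z = star z) {v m : A0}
    (key : ∀ x : A0, (∃ y, x = y + star y) → x * v = v * x → x ∈ sp m) {w : A} (h1 : Alt φ w) (h2 : w * ι v = ι v * w) :
    w ∈ sp (ι m) := by
  refine desc d hφ g h ?_ (fun x h3 h4 => ?_) h1 h2
  · rintro z hz _ ⟨a, ha, b, hb, rfl⟩
    exact ⟨_, mul_mem hz ha, _, mul_mem hz hb, by rw [mul_add, mul_assoc]⟩
  · obtain ⟨a, ha, b, hb, rfl⟩ := key x h3 h4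
    exact ⟨_, (d.cen g).2 ha, _, (d.cen g).2 hb, by rw [map_add, map_mul]⟩

/-- change of the model -/
theorem dn_congr {B : Type} [Ring B] [StarRing B] [Finite B] (d : Dn F φ F0 ι) {e : A0 ≃+* B} (he : SI e) (ss : SS B) :
    Dn F φ (fm F0 he) (ι.comp (e.symm : B →+* A0)) where
  ss := ss
  inj := d.inj.comp e.symm.injective
  fix _ := d.fix _
  surj x hx := let ⟨y, hy⟩ := d.surj x hx; ⟨e y, by simpa using hy⟩
  st y := (congrArg ι (he.symm y)).trans (d.st _)
  L y := by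
    obtain ⟨y, rfl⟩ := e.surjective y
    rw [Size.mem_fm_L, d.L]
    simp
  l := by
    have h1 := d.l
    rwa [← e.symm_apply_apply F0.l] at h1
  card := by
    rw [Size.card_fm_Iso]
    refine le_trans (Nat.mul_le_mul_left _ (Nat.card_le_card_of_injective
      (fun z => (⟨Units.map (e.symm : B →* A0) z, (Size.mem_center_map e.symm).2 z.2.1, ?_⟩ : UC A0)) fun _ _ k =>
        Subtype.ext (Units.ext (e.symm.injective (congrArg (fun z => (z.1 : A0)) k))))) d.card
    change e.symm _ * star (e.symm _) = 1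
    rw [← he.symm, ← map_mul, z.2.2, map_one]

/-- the Cayley transform -/
theorem card_uni {R : Type*} [CommRing R] [Finite R] {σ ρ : R →+* R} (h1 : ∀ x, σ (σ x) = x) (h2 : ∀ x, ρ (ρ x) = x)
    {δ : R} (h3 : σ δ = -δ) (h4 : ρ δ = -δ) (h5 : IsUnit δ) (h6 : IsUnit (2 : R))
    (h7 : ∀ x, σ x = x → ρ x = x → x ≠ 0 → IsUnit x) :
    Nat.card {w // w * σ w = 1 ∧ ρ w = σ w} ≤ Nat.card {x // σ x = x ∧ ρ x = x} + 1 := by
  classical
  have k : ∀ w : {w // w * σ w = 1 ∧ ρ w = σ w}, w.1 ≠ 1 → ∃ x : {x // σ x = x ∧ ρ x = x}, x.1 * (w.1 - 1) = δ * (w.1 + 1) := by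
    rintro ⟨w, a1, a2⟩ (a3 : w ≠ 1)
    have a4 : ρ (σ w) = w := by rw [← a2, h2]
    have a5 : IsUnit ((w - 1) * (σ w - 1)) := h7 _ (by rw [map_mul, map_sub, map_sub, h1, map_one, mul_comm])
      (by rw [map_mul, map_sub, map_sub, a4, a2, map_one, mul_comm]) fun a5 => by
        have a6 : δ * (w - σ w) = 0 := by_contra fun a6 => a6 ((h7 _ (by rw [map_mul, map_sub, h1, h3]; ring)
          (by rw [map_mul, map_sub, a4, a2, h4]; ring) a6).mul_right_eq_zero.1 (by
            linear_combination -δ ^ 2 * (w + σ w + 2) * a5 + δ ^ 2 * (w + σ w - 2) * a1))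
        have a7 : σ w = w := (sub_eq_zero.1 (h5.mul_right_eq_zero.1 a6)).symm
        exact a3 (sub_eq_zero.1 (by_contra fun a8 => a8 ((h7 _ (by rw [map_sub, map_one, a7])
          (by rw [map_sub, map_one, a2, a7]) a8).mul_right_eq_zero.1 (by rwa [a7] at a5))))
    obtain ⟨v, hv⟩ := (isUnit_of_mul_isUnit_left a5).exists_right_inv
    have a6 : σ v = -w * v := by
      have a6 := congrArg σ hv
      rw [map_mul, map_sub, map_one] at a6
      linear_combination -w * v * a6 - σ v * hv + v * σ v * a1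
    have a7 : ρ v = -w * v := by
      have a7 := congrArg ρ hv
      rw [map_mul, map_sub, map_one, a2] at a7
      linear_combination -w * v * a7 - ρ v * hv + v * ρ v * a1
    exact ⟨⟨δ * (w + 1) * v, by rw [map_mul, map_mul, map_add, map_one, h3, a6]; linear_combination δ * v * a1,
      by rw [map_mul, map_mul, map_add, map_one, h4, a7, a2]; linear_combination δ * v * a1⟩,
      by linear_combination δ * (w + 1) * hv⟩
  choose x hx using k
  rw [← Finite.card_option]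
  refine Nat.card_le_card_of_injective (fun w => if h : w.1 = 1 then none else some (x w h)) fun w w' e => Subtype.ext ?_
  by_cases a1 : w.1 = 1 <;> by_cases a2 : w'.1 = 1 <;> simp only [a1, a2, dif_pos, dif_neg, not_false_eq_true, reduceCtorEq] at e
  · rw [a1, a2]
  · have a3 := hx w a1
    have a4 := hx w' a2
    rw [← Option.some.inj e] at a4
    refine sub_eq_zero.1 ((h6.mul h5).mul_right_eq_zero.1 ?_)
    linear_combination (w'.1 - 1) * a3 - (w.1 - 1) * a4

end Cfsg.Agent.N2C.N4.Cen
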