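import Cfsg.Agent.N2.D4m.CenA

/-!
# N2, dimension four: `Sp₄`, `O₄⁺`, `O₄⁻` in `L₄`, `U₄` (helper21)
-/

set_option autoImplicit false
set_option linter.unusedSectionVars false
set_option maxHeartbeats 400000

namespace Cfsg.Agent.N2C.N4.Cen

open Cfsg Cfsg.Agent.DS.Cl Cfsg.Agent.DS.Cl.Fwd Module
open Cfsg.Agent.FP3 (fx Good)
open Cfsg.Agent.N2C.Cyc Cfsg.Agent.N2C.Sub

variable {A A0 : Type} [Ring A] [StarRing A] [Ring A0] [StarRing A0] [Finite A] [Finite A0]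
  {F : FR A} {φ : RingAut A} {c : A} {F0 : FR A0} {ι : A0 →+* A}

section sp

variable (ss : SS A0) (hs : ∀ z ∈ Subring.center A0, star z = z) {u : A0} (hu : u * star u = 1) (j : Jd u 4)
include ss hs hu j

/-- an element of rank one is not alternating -/
theorem not_alt (y : A0) : (u - 1) ^ 3 ≠ y + star y := fun hy => by
  have h4 := j.tp.nil
  have hv : Cn.val (nu j.isCyc ^ 3) = (u - 1) ^ 3 := map_pow _ _ _
  have h1 : star ((u - 1) ^ 3) = -(u - 1) ^ 3 := by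
    have h2 := nu_sg j.isCyc hu
    rw [← hv, ← Cn.val_sg j.isCyc hu, ← map_neg, map_pow]
    generalize Cn.sg j.isCyc hu (nu j.isCyc) = s at h2
    generalize nu j.isCyc = ν at h2 h4
    congr 1
    linear_combination (s ^ 2 - s * ν * (1 + s) + ν ^ 2 * (1 + s) ^ 2 - ν ^ 3 * (3 + 3 * s + s ^ 2)) * h2 +
      (1 + s) * (3 + 3 * s + s ^ 2) * h4
  have h2 : ∀ b, ∃ μ ∈ Subring.center A0, (u - 1) ^ 3 * b * (u - 1) ^ 3 = μ * (u - 1) ^ 3 := fun b => by
    have h2 : (u - 1) * ((u - 1) ^ 3 * b * (u - 1) ^ 3) = 0 := by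
      rw [← mul_assoc, ← mul_assoc, ← pow_succ', j.nil, zero_mul, zero_mul]
    have h3 : (u - 1) ^ 3 * b * (u - 1) ^ 3 * (u - 1) = 0 := by rw [mul_assoc, ← pow_succ, j.nil, mul_zero]
    have h5 : (u - 1) ^ 3 * b * (u - 1) ^ 3 * u = u * ((u - 1) ^ 3 * b * (u - 1) ^ 3) := by
      rw [sub_mul u, one_mul, sub_eq_zero] at h2
      rw [mul_sub _ u, mul_one, sub_eq_zero] at h3
      rw [h2, h3]
    have h6 : nu j.isCyc * Cn.mk j.isCyc _ h5 = 0 := Cn.val_inj h2
    obtain ⟨a0, k0, x, e0⟩ := j.tp.dec (Cn.mk j.isCyc _ h5)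
    obtain ⟨a1, k1, x, rfl⟩ := j.tp.dec x
    obtain ⟨a2, k2, x, rfl⟩ := j.tp.dec x
    obtain ⟨a3, k3, x, rfl⟩ := j.tp.dec x
    rw [e0] at h6
    obtain rfl := j.tp.cancel k0 (i := 1) (by omega) (by rwa [pow_one])
    obtain rfl := j.tp.cancel k1 (i := 2) (by omega) (by rwa [zero_add, ← mul_assoc, ← pow_two] at h6)
    obtain rfl := j.tp.cancel k2 (i := 3) (by omega) (by rwa [zero_add, zero_add, ← mul_assoc, ← mul_assoc, ← pow_three'] at h6)
    refine ⟨Cn.val a3, k3, (congrArg Cn.val (show Cn.mk j.isCyc _ h5 = a3 * nu j.isCyc ^ 3 by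
      linear_combination e0 + x * h4)).trans (by rw [map_mul, hv])⟩
  have := ss.1
  have h3 : (u - 1) ^ 3 ≠ 0 := fun k => one_ne_zero (j.ne 1 (one_mem _) (by rwa [one_mul]))
  generalize (u - 1) ^ 3 = s at hy h1 h2 h3
  obtain ⟨a, ha⟩ := ss.prime (fun ⟨ε, k⟩ => one_ne_zero (α := A0) (by
    have h5 := k.ms
    rw [hs ε k.cen, k.idem] at h5
    rw [← k.add, h5, star_zero, add_zero])) h3 h3
  obtain ⟨μ, hμ, e⟩ := h2 a
  obtain ⟨v, rfl⟩ := ss.isUnit_of_cen hμ (hs μ hμ) fun k => ha (by rw [e, k, zero_mul])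
  have h5 : star s = s := by rw [hy, star_add, star_star, add_comm]
  have h6 : star s * star a * star s = star s * star (v : A0) := by rw [← star_mul, ← star_mul, ← mul_assoc, e, star_mul]
  rw [h5, hs _ hμ, cen_comm hμ] at h6
  obtain ⟨t, ht, e'⟩ := h2 (a * y * star a)
  have h7 := congrArg star e'
  rw [star_mul, star_mul, star_mul, star_mul, star_star, star_mul, h5, hs t ht, cen_comm ht] at h7
  have h8 : s * a * (y + star y) * star a * s = t * (s + s) := by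
    rw [mul_add t]
    nth_rw 1 [← e']
    rw [← h7]
    noncomm_ring
  rw [← hy, e, mul_assoc, mul_assoc, ← mul_assoc s, h6, show s + s = 0 by nth_rw 1 [← h5]; rw [h1, neg_add_cancel],
    mul_zero, v.mul_right_eq_zero, v.mul_right_eq_zero] at h8
  exact h3 h8

theorem sp_key {l : A0} (hl : l + star l = 1) (x : A0) (hx : ∃ y, x = y + star y) (h : x * u = u * x) :
    x ∈ sp (u + star u - 2) := by
  obtain ⟨y, hy⟩ := hx
  have h4 := j.tp.nil
  have h2 := nu_sg j.isCyc hu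
  have h1 : Cn.sg j.isCyc hu (Cn.mk _ x h) = Cn.mk _ x h := Cn.val_inj (show star x = x by
    rw [hy, star_add, star_star, add_comm])
  have hC : ∀ a ∈ sc j.isCyc, Cn.sg j.isCyc hu a = a := fun a ha => Cn.val_inj (hs _ ha)
  obtain ⟨a0, k0, z, e0⟩ := j.tp.dec (Cn.mk j.isCyc _ h)
  obtain ⟨a1, k1, z, rfl⟩ := j.tp.dec z
  obtain rfl := j.tp.odd h2 hC odd_one (by omega) k1 (y := z) (by
    rw [e0, map_add, hC a0 k0, add_right_inj] at h1
    rw [map_add, map_one, pow_one, h1])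
  obtain ⟨a2, k2, z, rfl⟩ := j.tp.dec z
  obtain ⟨a3, k3, z, rfl⟩ := j.tp.dec z
  have h5 : x = Cn.val a0 + Cn.val a2 * (u + star u - 2) + Cn.val (a2 + a3) * (u - 1) ^ 3 := by
    have h5 : Cn.mk j.isCyc _ h = a0 + a2 * (nu _ + Cn.sg _ hu (nu _)) + (a2 + a3) * nu _ ^ 3 := by
      rw [e0]
      generalize Cn.sg j.isCyc hu (nu j.isCyc) = s at h2
      generalize nu j.isCyc = ν at h2 h4
      linear_combination (z - a2 * (1 + s)) * h4 - a2 * (1 - ν + ν ^ 2 - ν ^ 3) * h2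
    refine (congrArg Cn.val h5).trans ?_
    rw [map_add, map_add, map_mul, map_mul, map_pow, map_add, Cn.val_sg, show Cn.val (nu j.isCyc) = u - 1 from rfl, star_sub,
      star_one, sub_add_sub_comm, one_add_one_eq_two]
  have k4 : Cn.val (a2 + a3) ∈ Subring.center A0 := add_mem k2 k3
  replace k0 : Cn.val a0 ∈ Subring.center A0 := k0
  replace k2 : Cn.val a2 ∈ Subring.center A0 := k2
  by_cases h6 : Cn.val (a2 + a3) = 0
  · exact ⟨_, k0, _, k2, by rw [h5, h6, zero_mul, add_zero]⟩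
  obtain ⟨v, hv⟩ := ss.isUnit_of_cen k4 (hs _ k4) h6
  have k5 := inv_cen (hv ▸ k4)
  refine (not_alt ss hs hu j ((v⁻¹ : A0ˣ) * (y - Cn.val a0 * l - Cn.val a2 * (u - 1))) ?_).elim
  rw [star_mul, hs _ k5, cen_comm k5, ← mul_add, Units.eq_inv_mul_iff_mul_eq, hv, star_sub, star_sub, star_mul, star_mul,
    hs _ k0, hs _ k2, cen_comm k0 (star l), cen_comm k2 (star _), star_sub, star_one, ← sub_eq_iff_eq_add'.2 h5, hy,
    eq_sub_of_add_eq' hl]
  noncomm_ring

theorem sp_m : (u + star u - 2) * (u + star u - 2) = 0 ∧ u + star u - 2 ≠ 0 := by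
  have h1 : u + star u - 2 = star u * (u - 1) ^ 2 := by
    have h2 := mul_eq_one_comm.1 hu
    calc _ = star u * u * u + star u - star u * u - star u * u := by rw [h2, one_mul, sub_sub, one_add_one_eq_two]
      _ = _ := by noncomm_ring
  have h2 : Commute ((u - 1) ^ 2) (star u) :=
    ((show Commute u (star u) from hu.trans (mul_eq_one_comm.1 hu).symm).sub_left (Commute.one_left _)).pow_left 2
  have := ss.1
  refine ⟨by rw [h1, mul_assoc, ← mul_assoc ((u - 1) ^ 2), h2.eq, mul_assoc, ← pow_add, j.nil, mul_zero, mul_zero],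
    fun k => one_ne_zero (j.ne 1 (one_mem _) ?_)⟩
  have h3 : (u - 1) ^ 2 = 0 := by
    have h3 := congrArg (u * ·) (h1.symm.trans k)
    simpa only [← mul_assoc, hu, one_mul, mul_zero] using h3
  rw [one_mul, show 4 - 1 = 2 + 1 from rfl, pow_succ, h3, zero_mul]

end sp

variable (ss : SS A) (d : Dn F φ F0 ι) (hφ : φ ∈ F.Aut) (g : Gal φ 2 c) (h : ∀ z ∈ Subring.center A, φ z = star z)
include ss d hφ g h

omit ss hφ in
theorem star_cen0 (z : A0) (hz : z ∈ Subring.center A0) : star z = z :=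
  d.inj (by rw [d.st, ← h _ ((d.cen g).2 hz), d.fix])

/-- **`Sp₄`** -/
theorem fx_sp (un : Uni F) (j : ∃ u ∈ F0.Iso, Jd (u : A0) 4) : ∃ a ∈ CS F φ, fx (CS F φ) a ≤ Nat.card (C0 A) := by
  obtain ⟨u, hu, j⟩ := j
  have h1 := un _ (d.map_Iso hu) 4 (d.jd g j).nil
  have hs := star_cen0 d g h
  obtain ⟨h2, h3⟩ := sp_m d.ss hs hu.1 j
  refine ⟨el h1, Subgroup.mem_centralizer_singleton_iff.2 (comm_el h1 (d.fix u)).symm, fx_le_nil ss d hφ g h1 (d.fix u)
    (m := ι (u + star (u : A0) - 2)) (by rw [← d.st, star_sub, star_add, star_star, star_ofNat, add_comm])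
    (by rw [← map_mul, h2, map_zero]) (fun k => h3 (d.inj (k.trans (map_zero ι).symm))) fun w _ h4 z hz h5 => ?_⟩
  have h6 : (w : A) * ι u = ι u * w * z := congrArg Units.val h5
  rw [z_eq_one ss ⟨4, (d.jd g j).nil⟩ (cj_eq_one_iff.1 hz.2) h6, mul_one] at h6
  exact desc_sp d hφ.1 g h (sp_key d.ss hs hu.1 j F0.l_add) h4 h6

/-- the data for `O₄⁺` -/
structure OP (u m : A0) : Prop where
  uni : ∃ a b e : A0, (∀ x ∈ ({a, b, e} : Set A0), x * x = 0 ∧ star x = -x) ∧ u = (1 + a) * (1 + b) * (1 + e) * (1 + b)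
  nil : (u * u + 1) * (u * u + 1) = 0
  st : star m = m
  sq : m * m = 0
  ne : m ≠ 0
  p1 : ∀ x, star x = x → x * u = u * x → x ∈ sp m
  p2 : ∀ x, star x = x → x * u = -u * x → x * m = 0

/-- **`O₄⁺`** -/
theorem fx_op (un : Uni F) {u m : A0} (o : OP u m) : ∃ a ∈ CS F φ, fx (CS F φ) a ≤ Nat.card (C0 A) := by
  obtain ⟨a, b, e, h1, h2⟩ := o.uni
  have k : ∀ x ∈ ({a, b, e} : Set A0), ∃ v ∈ I0 F, (v : A) = ι (1 + x) := fun x hx => by
    obtain ⟨h3, h4⟩ := h1 x hx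
    have h5 : ι (1 + x) * star (ι (1 + x)) = 1 := by
      rw [← d.st, ← map_mul, star_add, star_one, h4, mul_add, mul_one, mul_neg, add_mul, one_mul, h3, add_zero,
        add_neg_cancel_right, map_one]
    refine ⟨mkU _ h5, un _ ⟨h5, ?_⟩ 2 (by rw [mkU_val, map_add, map_one, add_sub_cancel_left, pow_two, ← map_mul, h3, map_zero]),
      rfl⟩
    rw [L_graph g h, mkU_val]
    change star _ = -_
    rw [star_sub, star_mul, star_mul, star_star, eq_sub_of_add_eq' F.l_add, ← mul_assoc, mul_sub, sub_mul, mul_one, h5]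
    abel
  obtain ⟨va, a1, a2⟩ := k a (by simp)
  obtain ⟨vb, b1, b2⟩ := k b (by simp)
  obtain ⟨ve, e1, e2⟩ := k e (by simp)
  have h3 := mul_mem (mul_mem (mul_mem a1 b1) e1) b1
  have h4 : ((va * vb * ve * vb : Aˣ) : A) = ι u := by simp only [h2, Units.val_mul, map_mul, a2, b2, e2]
  generalize va * vb * ve * vb = v at h3 h4
  have h5 : φ v = v := by rw [h4, d.fix]
  have hm : ι m ≠ 0 := fun k => o.ne (d.inj (k.trans (map_zero ι).symm))
  have hs : ∀ x : A0, (∃ y, x = y + star y) → star x = x := by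
    rintro _ ⟨y, rfl⟩
    rw [star_add, star_star, add_comm]
  refine ⟨el h3, Subgroup.mem_centralizer_singleton_iff.2 (comm_el h3 h5).symm, fx_le_nil ss d hφ g h3 h5 (m := ι m)
    (by rw [← d.st, o.st]) (by rw [← map_mul, o.sq, map_zero]) hm fun w _ h6 z hz h7 => ?_⟩
  have h8 : (w : A) * ι u = ι u * w * z := h4 ▸ congrArg Units.val h7
  have h9 := cj_eq_one_iff.1 hz.2
  have h10 : (z : A) * z = 1 := z_eq_one ss (v := -(ι u * ι u)) (w := w) ⟨2, by
    rw [← neg_add', neg_sq, pow_two, ← map_one ι, ← map_mul, ← map_add, ← map_mul, o.nil, map_zero]⟩ (mul_mem h9 h9) (by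
    rw [mul_neg, neg_mul, neg_mul, ← mul_assoc, h8, mul_assoc _ (z : A), ← cen_comm h9, ← mul_assoc, mul_assoc (ι u) w, h8]
    noncomm_ring)
  have h11 : star (z : A) = z := by rw [← one_mul (star _), ← h10, mul_assoc, hz.1.1, mul_one]
  by_cases h12 : (z : A) = 1
  · rw [h12, mul_one] at h8
    exact desc_sp d hφ.1 g h (fun x k => o.p1 x (hs x k)) h6 h8
  have h13 : (z : A) + 1 = 0 := (ss.isUnit_of_cen (sub_mem h9 (one_mem _)) (by rw [star_sub, h11, star_one])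
    (sub_ne_zero.2 h12)).mul_right_eq_zero.1 (by rw [mul_add, sub_mul, h10, one_mul, mul_one]; abel)
  rw [eq_neg_of_add_eq_zero_left h13, mul_neg, mul_one, ← neg_mul, ← map_neg] at h8
  have h14 : (w : A) * ι m = 0 := desc d hφ.1 g h (N := (AddMonoidHom.mulRight (ι m)).ker)
    (fun z _ x (hx : x * _ = 0) => show z * x * _ = 0 by rw [mul_assoc, hx, mul_zero])
    (fun x k k' => show ι x * ι m = 0 by rw [← map_mul, o.p2 x (hs x k) k', map_zero]) h6 h8
  exact absurd (w.mul_right_eq_zero.1 h14) hm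

/-- **`O₄⁻`** -/
theorem fx_om {q s : ℕ} (h2 : IsUnit (2 : A)) (hZ : ∀ z ∈ ZI F, z ^ (q ^ 2 - 1) = 1) (hD : ∀ v ∈ F.Iso, v ^ (q ^ 2 - 1) ∈ I0 F)
    {u : A0ˣ} (hu : u ∈ F0.Iso) (t : To (u : A0) (q ^ 4)) (hs : u ^ s = 1) (hc : s.Coprime (q ^ 2 - 1)) :
    ∃ a ∈ CS F φ, fx (CS F φ) a ≤ q ^ 2 + 1 := by
  have h1 := d.map_Iso hu
  have h3 : Units.map (ι : A0 →* A) u ^ s = 1 := by rw [← map_pow, hs, map_one]
  have h4 : ((Units.map (ι : A0 →* A) u : Aˣ) : A) = ι u := rfl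
  generalize Units.map (ι : A0 →* A) u = v at h1 h3 h4
  have h5 : v ∈ I0 F := by
    obtain ⟨n, hn⟩ := exists_pow_eq_self_of_coprime (hc.coprime_dvd_left (orderOf_dvd_of_pow_eq_one h3)).symm
    exact hn ▸ pow_mem (hD v h1) n
  have h6 : φ v = v := by rw [h4, d.fix]
  have m : ∀ x : A0, x * u = u * x → x ∈ Subring.centralizer {(u : A0)} := fun x hx => by rintro _ rfl; exact hx.symm
  have hy : IsCyc (v : A) := h4 ▸ d.isCyc g fun x y hx hy => t.tr.comm x (m x hx) y (m y hy)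
  have k : ∀ x : Cn hy, rs hy h6 x = x → ∃ y : A0, y * u = u * y ∧ ι y = Cn.val x := fun x hx => by
    obtain ⟨y, e⟩ := d.surj _ (congrArg Cn.val hx)
    exact ⟨y, d.inj (by rw [map_mul, map_mul, e, ← h4, x.comm]), e⟩
  have h7 := sub_mem (map_cen φ g.cen) g.cen
  have h8 : φ (φ c - c) = -(φ c - c) := by rw [map_sub, sq_apply g, neg_sub]
  refine ⟨el h5, Subgroup.mem_centralizer_singleton_iff.2 (comm_el h5 h6).symm, (fx_le_card d hφ g h5 h6
    (X := {w : Cn hy // w * Cn.sg hy h1.1 w = 1 ∧ rs hy h6 w = Cn.sg hy h1.1 w})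
    (fun w => mkU (Cn.val w.1) (congrArg Cn.val w.2.1)) fun w hw h9 z hz h10 => ?_).trans ((card_uni (Cn.sg_sg hy h1.1)
      (fun x => Cn.val_inj (sq_apply g _)) (δ := Cn.mk hy _ (cen_comm h7 _).symm) (Cn.val_inj ((h _ h7).symm.trans h8))
      (Cn.val_inj h8) (Cn.isUnit (show IsUnit (φ c - c) by simpa using g.unit 1 one_pos one_lt_two)) (Cn.isUnit (by rwa [map_ofNat]))
      fun x a1 a2 a3 => ?_).trans (Nat.succ_le_succ ((Nat.pow_le_pow_iff_left two_ne_zero).1 ?_)))⟩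
  · have h11 : z ^ s = 1 := by
      have h11 : Commute v z := Units.ext (ZI_comm hz v).symm
      have h12 : w * v * w⁻¹ = v * z := by
        rw [h10, mul_assoc v, show w * z = z * w from Units.ext (ZI_comm hz w).symm, ← mul_assoc, mul_inv_cancel_right]
      rw [← one_mul (z ^ s), ← h3, ← h11.mul_pow, ← h12, conj_pow, h3, mul_one, mul_inv_cancel]
    rw [(pow_eq_one_iff_of_coprime hc).1 ⟨h11, hZ z hz⟩, mul_one] at h10
    exact ⟨⟨Cn.mk hy w (congrArg Units.val h10), Cn.val_inj hw.1, Cn.val_inj (h9.map hφ.1 g)⟩, congrArg _ (Units.ext rfl)⟩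
  · obtain ⟨y, b1, b2⟩ := k x a2
    refine Cn.isUnit (b2 ▸ (t.tr.sym y (m y b1) (d.inj (by rw [d.st, b2, ← Cn.val_sg hy h1.1, a1])) fun e => a3 ?_).map ι)
    exact Cn.val_inj (by rw [← b2, e, map_zero, map_zero])
  · rw [← pow_mul, pow_two, ← Nat.card_prod]
    refine le_trans ?_ t.card
    choose f f1 f2 using fun x : {x : Cn hy // Cn.sg hy h1.1 x = x ∧ rs hy h6 x = x} => k x.1 x.2.2
    have f3 : ∀ x, star (f x) = f x := fun x => d.inj (by rw [d.st, f2, ← Cn.val_sg hy h1.1, x.2.1])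
    have f4 : ∀ x y, f x = f y → x = y := fun x y e => Subtype.ext (Cn.val_inj (by rw [← f2, ← f2, e]))
    refine Nat.card_le_card_of_injective (fun z => ⟨f z.1 + f z.2 * u, by rw [add_mul, mul_add, f1, ← mul_assoc, f1]⟩)
      fun z w e => ?_
    have b1 : f z.1 + f z.2 * u = f w.1 + f w.2 * u := Subtype.mk.inj e
    have b2 := congrArg star b1
    rw [star_add, star_add, star_mul, star_mul, f3, f3, f3, f3] at b2
    have b3 : f z.2 = f w.2 := sub_eq_zero.1 ((t.tr.skew _ (sub_mem (m u rfl) (t.tr.star_mem u (m u rfl)))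
      (by rw [star_sub, star_star, neg_sub]) (sub_ne_zero.2 t.ne.symm)).mul_right_eq_zero.1 (by
        rw [f1, f1] at b1
        rw [sub_mul, mul_sub, mul_sub, sub_eq_zero, sub_eq_sub_iff_add_eq_add, ← add_right_inj (f z.1 + f w.1)]
        calc _ = (f z.1 + u * f z.2) + (f w.1 + star (u : A0) * f w.2) := by abel
          _ = _ := by rw [b1, ← b2]; abel))
    exact Prod.ext (f4 _ _ (by rwa [b3, add_left_inj] at b1)) (f4 _ _ b3)

end Cfsg.Agent.N2C.N4.Cen
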