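import Cfsg.Agent.N2.D4m.CenB

/-!
# N2, dimension four: the elements of `O₄⁺`, `O₄⁻` (helper21)
-/

set_option autoImplicit false
set_option linter.unusedSectionVars false
set_option maxHeartbeats 400000

namespace Cfsg.Agent.N2C.N4.Cen

open Cfsg Cfsg.Agent.DS.Cl Cfsg.Agent.DS.Cl.Fwd Module Matrix
open Cfsg.Agent.SB.Cl (IsO)
open Cfsg.Agent.N2C.Cyc Cfsg.Agent.N2C.Sub
open Cfsg.Agent.N2C.Size (SI fm)

theorem OP.map {A B : Type} [Ring A] [StarRing A] [Ring B] [StarRing B] [Finite A] [Finite B] {e : A ≃+* B} (he : SI e) {u m : A}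
    (o : OP u m) : OP (e u) (e m) where
  uni := by
    obtain ⟨a, b, c, h1, h2⟩ := o.uni
    refine ⟨e a, e b, e c, fun x hx => ?_, by simp only [h2, map_mul, map_add, map_one]⟩
    obtain ⟨y, hy, rfl⟩ : x ∈ e '' {a, b, c} := by simpa only [Set.image_insert_eq, Set.image_singleton] using hx
    exact ⟨by rw [← map_mul, (h1 y hy).1, map_zero], by rw [← he, (h1 y hy).2, map_neg]⟩
  nil := by simpa only [map_mul, map_add, map_one, map_zero] using congrArg e o.nil
  st := by rw [← he, o.st]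
  sq := by rw [← map_mul, o.sq, map_zero]
  ne k := o.ne (e.injective (k.trans (map_zero e).symm))
  p1 x h1 h2 := by
    obtain ⟨x, rfl⟩ := e.surjective x
    obtain ⟨a, ha, b, hb, rfl⟩ := o.p1 x (e.injective (by rw [he, h1])) (e.injective (by rw [map_mul, map_mul, h2]))
    exact ⟨_, (Size.mem_center_map e).2 ha, _, (Size.mem_center_map e).2 hb, by rw [map_add, map_mul]⟩
  p2 x h1 h2 := by
    obtain ⟨x, rfl⟩ := e.surjective x
    rw [← map_mul, o.p2 x (e.injective (by rw [he, h1])) (e.injective (by rw [map_mul, map_mul, map_neg, h2])), map_zero]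

/-- matrices with the orthogonal involution of plus type -/
def MO (K : Type) : Type := Matrix (Fin 2 ⊕ Fin 2) (Fin 2 ⊕ Fin 2) K

variable {K : Type} [Field K] [Fintype K]

instance MO.instRingN4 : Ring (MO K) := inferInstanceAs (Ring (Matrix (Fin 2 ⊕ Fin 2) (Fin 2 ⊕ Fin 2) K))

instance MO.instFiniteN4 : Finite (MO K) := inferInstanceAs (Finite (Fin 2 ⊕ Fin 2 → Fin 2 ⊕ Fin 2 → K))

instance MO.instStarRingN4 : StarRing (MO K) where
  star M := fun i j => M j.swap i.swap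
  star_involutive M := Matrix.ext fun i j => by simp only [Sum.swap_swap]
  star_mul M N := Matrix.ext fun i j => by
    change ∑ k, M j.swap k * N k i.swap = ∑ k, N (Sum.swap k) i.swap * M j.swap (Sum.swap k)
    simp only [Fintype.sum_sum_type, Sum.swap_inl, Sum.swap_inr, mul_comm, add_comm]
  star_add _ _ := rfl

/-- block matrices -/
def bl (P Q R T : Matrix (Fin 2) (Fin 2) K) : MO K := fromBlocks P Q R T

theorem bl_mul (P Q R T P' Q' R' T' : Matrix (Fin 2) (Fin 2) K) : bl P Q R T * bl P' Q' R' T' =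
    bl (P * P' + Q * R') (P * Q' + Q * T') (R * P' + T * R') (R * Q' + T * T') := fromBlocks_multiply ..

theorem bl_add (P Q R T P' Q' R' T' : Matrix (Fin 2) (Fin 2) K) : bl P Q R T + bl P' Q' R' T' =
    bl (P + P') (Q + Q') (R + R') (T + T') := fromBlocks_add ..

theorem bl_neg (P Q R T : Matrix (Fin 2) (Fin 2) K) : -bl P Q R T = bl (-P) (-Q) (-R) (-T) := fromBlocks_neg ..

theorem bl_star (P Q R T : Matrix (Fin 2) (Fin 2) K) : star (bl P Q R T) = bl Tᵀ Qᵀ Rᵀ Pᵀ :=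
  Matrix.ext fun i j => by rcases i with i | i <;> rcases j with j | j <;> rfl

theorem bl_one : (1 : MO K) = bl 1 0 0 1 := fromBlocks_one.symm

theorem bl_zero : (0 : MO K) = bl 0 0 0 0 := fromBlocks_zero.symm

theorem bl_inj {P Q R T P' Q' R' T' : Matrix (Fin 2) (Fin 2) K} :
    bl P Q R T = bl P' Q' R' T' ↔ P = P' ∧ Q = Q' ∧ R = R' ∧ T = T' := fromBlocks_inj

theorem exists_bl (x : MO K) : ∃ a b c d s t t' w r₁ r₂ r₃ r₄ a' b' c' d' : K,
    x = bl !![a, b; c, d] !![s, t; t', w] !![r₁, r₂; r₃, r₄] !![a', b'; c', d'] :=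
  ⟨_, _, _, _, _, _, _, _, _, _, _, _, _, _, _, _, (fromBlocks_toBlocks x).symm.trans (by
    rw [eta_fin_two (toBlocks₁₁ x), eta_fin_two (toBlocks₁₂ x), eta_fin_two (toBlocks₂₁ x), eta_fin_two (toBlocks₂₂ x)]
    rfl)⟩

theorem sc_cen (c : K) : bl !![c, 0; 0, c] 0 0 !![c, 0; 0, c] ∈ Subring.center (MO K) := Subring.mem_center_iff.2 fun x => by
  obtain ⟨a, b, c, d, s, t, t', w, r₁, r₂, r₃, r₄, a', b', c', d', rfl⟩ := exists_bl x
  simp [bl_mul, mul_comm]

theorem m2_inj {a b c d a' b' c' d' : K} : !![a, b; c, d] = !![a', b'; c', d'] ↔ a = a' ∧ b = b' ∧ c = c' ∧ d = d' := by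
  simp [and_assoc]

theorem m2_tr (a b c d : K) : !![a, b; c, d]ᵀ = !![a, c; b, d] := by
  ext i j
  fin_cases i <;> fin_cases j <;> rfl

theorem m2_neg (a b c d : K) : -!![a, b; c, d] = !![-a, -b; -c, -d] := by simp

theorem m2_add (a b c d a' b' c' d' : K) : !![a, b; c, d] + !![a', b'; c', d'] = !![a + a', b + b'; c + c', d + d'] := by simp

theorem m2_zero : (0 : Matrix (Fin 2) (Fin 2) K) = !![0, 0; 0, 0] := by
  ext i j
  fin_cases i <;> fin_cases j <;> rfl

theorem op_MO (h2 : (2 : K) ≠ 0) :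
    OP (bl !![(0 : K), -1; 1, 0] !![-1, 0; 0, -1] 0 !![0, -1; 1, 0]) (bl 0 !![1, 0; 0, 1] 0 0) := by
  have h4 : ∀ {x : K}, 2 * x = 0 → x = 0 := fun h => (mul_eq_zero.1 h).resolve_left h2
  refine ⟨⟨bl 0 !![0, -1; 1, 0] 0 0, bl !![0, -1; 0, 0] 0 0 !![0, 0; 1, 0], bl !![0, 0; 1, 0] 0 0 !![0, -1; 0, 0], ?_, ?_⟩,
    ?_, ?_, ?_, ?_, fun x h1 h3 => ?_, fun x h1 h3 => ?_⟩
  · rintro x (rfl | rfl | rfl) <;>
      simp only [bl_mul, bl_star, bl_neg, bl_zero, bl_inj, m2_zero, m2_tr, m2_neg, m2_add, mul_fin_two, m2_inj] <;> simp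
  · simp only [bl_one, bl_add, bl_mul, bl_inj, m2_zero, one_fin_two, m2_add, mul_fin_two, m2_inj]
    simp
  · simp only [bl_one, bl_zero, bl_add, bl_mul, bl_inj, m2_zero, one_fin_two, m2_add, mul_fin_two, m2_inj]
    simp
  · simp only [bl_star, m2_zero, m2_tr]
  · simp only [bl_zero, bl_mul, bl_inj, m2_zero, m2_add, mul_fin_two, m2_inj]
    simp
  · simp only [bl_zero, bl_inj, m2_zero, m2_inj, Ne]
    simp
  · obtain ⟨a, b, c, d, s, t, t', w, r₁, r₂, r₃, r₄, a', b', c', d', rfl⟩ := exists_bl x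
    simp only [bl_star, bl_mul, bl_inj, m2_zero, m2_tr, m2_add, mul_fin_two, m2_inj] at h1 h3
    obtain ⟨⟨rfl, rfl, rfl, rfl⟩, ⟨-, rfl, -⟩, ⟨-, rfl, -⟩, -⟩ := h1
    obtain ⟨⟨a1, a2, a3, a4⟩, ⟨b1, b2, b3, b4⟩, ⟨c1, c2, c3, c4⟩, -⟩ := h3
    obtain rfl : r₃ = 0 := h4 (by linear_combination c1)
    obtain rfl : r₄ = r₁ := by linear_combination c3
    obtain rfl : r₄ = 0 := h4 (by linear_combination a1 + a4 + c3)
    obtain rfl : a' = d' := by linear_combination -a3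
    obtain rfl : t' = 0 := h4 (by linear_combination b1)
    obtain rfl : b' = -c' := by linear_combination a1
    obtain rfl : c' = 0 := h4 (h4 (by linear_combination b3 - b2))
    obtain rfl : w = s := by linear_combination b3
    refine ⟨_, sc_cen a', _, sc_cen w, ?_⟩
    simp only [bl_add, bl_mul, bl_inj, m2_zero, m2_add, mul_fin_two, m2_inj]
    simp
  · obtain ⟨a, b, c, d, s, t, t', w, r₁, r₂, r₃, r₄, a', b', c', d', rfl⟩ := exists_bl x
    simp only [bl_star, bl_neg, bl_mul, bl_inj, m2_zero, m2_tr, m2_neg, m2_add, mul_fin_two, m2_inj] at h1 h3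
    obtain ⟨⟨rfl, rfl, rfl, rfl⟩, ⟨-, rfl, -⟩, ⟨-, rfl, -⟩, -⟩ := h1
    obtain ⟨⟨a1, a2, a3, a4⟩, ⟨b1, b2, b3, b4⟩, ⟨c1, c2, c3, c4⟩, -⟩ := h3
    obtain rfl : r₃ = 0 := h4 (by linear_combination -a2 - a3)
    obtain rfl : a' = 0 := h4 (by linear_combination -b1)
    obtain rfl : d' = 0 := h4 (by linear_combination -b4)
    obtain rfl : r₄ = r₁ := by linear_combination a1 - a4
    obtain rfl : r₄ = 0 := h4 (by linear_combination c3)
    obtain rfl : b' = c' := by linear_combination -a1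
    obtain rfl : b' = 0 := h4 (h4 (by linear_combination -b2 - b3))
    simp only [bl_zero, bl_mul, bl_inj, m2_zero, m2_add, mul_fin_two, m2_inj]
    simp

end Cfsg.Agent.N2C.N4.Cen
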