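import Cfsg.Agent.N2.D4m.Defs
import Cfsg.Agent.N2.Cl.Sub.Main

/-!
# N2, dimension four: the subfield subgroups of `PSp₄(q)` (helper47)

`cenS0 : BoxCenS`, `cenS : AtS pCen`.
-/

set_option autoImplicit false
set_option linter.unusedSectionVars false

namespace Cfsg.Agent.N2C.N4

open Cfsg Cfsg.Agent.DS.Cl Cfsg.Agent.DS.Cl.Fwd Module
open Cfsg.Agent.N2C.Sub Cfsg.Agent.N2C.Size
open Cfsg.Agent.N2C.Cyc (two_le_q nontrivial_of_dim sc_star card_S_Sp)
open Cfsg.Agent.TH.Cl (KSp)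

namespace CenS

/-- the exact order of the isometry group of a symplectic form ring -/
theorem card_iso {A : Type} [Ring A] [StarRing A] [Finite A] (ss : SS A) {F : FR A} {m q : ℕ} (hq : 2 ≤ q)
    (t : TySp F (2 * m) q) : Nat.card F.Iso = oS m q := by
  have k := fun {a b} => Nat.pow_right_injective hq (a₁ := a) (a₂ := b)
  have h1 : ∀ {n q'}, ¬ TyLU F n q' := fun T => by
    have h1 := T.cen
    rw [t.cen, ← T.c0, t.c0] at h1
    exact absurd (k ((pow_one _).trans h1)) (by omega)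
  rcases exists_kind ss F with ⟨K, _, _, n, e, hn, he⟩ | ⟨K, _, _, n, h, e, he, hn, g⟩
  · exact (h1 ((tyL _ hn).back he)).elim
  rw [← finrank_fin_fun (n := n) K] at hn
  rcases g with ⟨g, -⟩ | g | ⟨Q, g⟩
  · obtain ⟨q, -, h2⟩ := exists_q g
    exact (h1 ((tyU g _ h2 hn).back he)).elim
  · have T := (tySp g hn).back he
    obtain rfl : Fintype.card K = q := T.c0.symm.trans t.c0
    obtain ⟨m', h2, h3⟩ := card_Iso_Sp g
    rw [← card_fm_Iso he, h3, show m' = m by have := sq_inj (k (T.all.symm.trans t.all)); omega]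
  · have T := (tyO g hn).back he
    obtain rfl : Fintype.card K = q := T.c0.symm.trans t.c0
    have h2 := sq_inj (k (T.all.symm.trans t.all))
    exact absurd (k (t.L.symm.trans T.L)) (by rw [← h2]; exact ch_ne hn)

theorem num {q ρ : ℕ} (hρ : 2 ≤ ρ) : (ρ ^ 3) ^ 3 * (2 * oS 2 q) ≤ oS 2 (q * ρ) := by
  have h1 : ∀ i, ρ ^ i * (q ^ i - 1) ≤ (q * ρ) ^ i - 1 := fun i => by
    rw [mul_pow, mul_comm (q ^ i), Nat.mul_sub_one]
    exact Nat.sub_le_sub_left (Nat.one_le_pow _ _ (by omega)) _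
  simp only [oS, Finset.prod_range_succ, Finset.prod_range_zero, one_mul]
  refine le_trans ?_ (Nat.mul_le_mul_left _ (Nat.mul_le_mul (h1 _) (h1 _)))
  generalize q ^ (2 * (0 + 1)) - 1 = a
  generalize q ^ (2 * (1 + 1)) - 1 = b
  calc _ = 2 * (ρ ^ 9 * q ^ 4 * a * b) := by ring
    _ ≤ ρ * (ρ ^ 9 * q ^ 4 * a * b) := Nat.mul_le_mul_right _ hρ
    _ = _ := by ring

variable {K V : Type} [Field K] [Fintype K] [AddCommGroup V] [Module K V] [Finite V] {h : HF K V} {F : FR h.EB}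

theorem gc (k : KSp h F 2) {φ : RingAut h.EB} (hφ : φ ∈ F.Aut) (hl : φ ∉ Lin h.EB) (hp : (orderOf φ).Prime) : GC F φ := by
  have h0 : 0 < finrank K V := by have := k.dim; omega
  have := nontrivial_of_dim h0
  have T := tySp k.sp h0
  rw [k.dim] at T
  rcases exists_gal h.ss hφ.1 hl hp with ⟨c, hc, g⟩ | ⟨h1, -⟩
  swap
  · refine (hl fun z hz => (h1 z hz).trans ?_).elim
    obtain ⟨c, rfl⟩ := P5.exists_smul (RingEquiv.refl (End K V)) hz
    exact (sc_star c).trans (by rw [k.sp.1]; rfl)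
  obtain ⟨A0, _, _, _, F0, ι, d⟩ := dn_field h.ss hφ g hc
  obtain ⟨q0, h3, h4, -, t, -⟩ := d.ty_field (n := 2 * 2) (q := Fintype.card K) boxTy hφ.1 g hc
  replace t := t T
  refine d.gc_field h.ss hφ g hc (uni_Sp k) t.jd (by omega) hp.two_le h3 h4 ?_
  have h5 : Nat.gcd 2 (Fintype.card K - 1) ≤ Nat.card (UC A0) := by
    by_cases h5 : (1 : A0) + 1 = 0
    · have h6 : (1 : h.EB) + 1 = 0 := by simpa only [map_add, map_one, map_zero] using congrArg ι h5
      have h7 : (2 : K) = 0 := by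
        refine (algebraMap K (End K V)).injective ?_
        rw [← one_add_one_eq_two, map_add, map_one, map_zero]
        exact h6
      have h8 : Fintype.card K % 2 = 0 := FiniteField.even_card_of_char_two (ringChar.eq_iff.2 ?_)
      · have := two_le_q K
        rw [(Nat.coprime_two_left.2 (Nat.odd_iff.2 (by omega)) : Nat.gcd 2 _ = 1)]
        exact Nat.card_pos
      · exact CharTwo.of_one_ne_zero_of_two_eq_zero one_ne_zero h7
    · have : Nontrivial (UC A0) := ⟨⟨1, ⟨-1, neg_mem (one_mem _), by simp⟩, fun h6 =>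
        h5 (eq_neg_iff_add_eq_zero.1 (congrArg (fun z => (z.1 : A0)) h6))⟩⟩
      exact (Nat.gcd_le_left _ two_pos).trans Finite.one_lt_card
  have h6 := (Nat.mul_le_mul_left _ h5).trans d.card
  have h7 : Fintype.card K = q0 * q0 ^ (orderOf φ - 1) := by
    rw [← pow_succ', Nat.sub_add_cancel hp.pos, ← h4, T.c0]
  have h8 := num (q := q0) (h3.trans (le_rho hp.two_le))
  rw [card_iso d.ss h3 t] at h6
  rw [← h7, show oS 2 (Fintype.card K) = _ from (card_S_Sp k).symm] at h8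
  refine Nat.le_of_mul_le_mul_left (le_trans ?_ ((Nat.mul_le_mul_left _ h6).trans h8))
    (Nat.gcd_pos_of_pos_left _ two_pos)
  exact (mul_left_comm _ _ _).trans_le (Nat.mul_le_mul_left _ (mul_comm _ _).le)

end CenS

/-- **[CenS]** -/
theorem cenS0 : BoxCenS := fun _ _ _ _ _ _ _ _ _ k _ _ _ _ _ h1 h2 h3 => (CenS.gc k h1 h2 h3).good

theorem cenS : AtS pCen := fun _ _ _ _ _ _ _ _ _ _ _ k _ c ⟨_, _, h1, h2, h3, h4⟩ => (CenS.gc k h1 h2 h3).gd c h4

end Cfsg.Agent.N2C.N4
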