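import Cfsg.Agent.N2.D4m.ExtA
import Cfsg.Agent.N2.D4m.Defs
import Cfsg.Agent.N2.Cl.Size

/-!
# N2 (S3519), class `pExt4`: the normalisers of `2⁴` in `L₄(q)`, `U₄(q)`, `PSp₄(q)` (helper22)

`Cfsg.Agent.N2C.N4.ext : At pExt4`.
-/

set_option autoImplicit false
set_option linter.unusedSectionVars false
set_option linter.unusedSimpArgs false

namespace Cfsg.Agent.N2C.Ext

open Cfsg.Agent.DS.Cl Cfsg.Agent.DS.Cl.Fwd Cfsg.Agent.SB.Cl Cfsg.Agent.TH.Cl.Ext
open scoped commutatorElement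

theorem nil_four {R : Type*} [CommRing R] {a b c d s t u : R}
    (h : (a + (b * s + c * t + d * u)) * (a + (b * s + c * -t + d * -u)) = 1) (hs : s * s = 0) (ht : t * t = s + s)
    (hu : u * u = -(s + s)) : (a * a - 1) ^ 4 = 0 := by
  have h1 : a * a - 1 = (2 * c ^ 2 - 2 * d ^ 2 - 2 * a * b) * s + 2 * c * d * t * u := by
    linear_combination h - b ^ 2 * hs + c ^ 2 * ht + d ^ 2 * hu
  have h2 : (a * a - 1) ^ 2 = s * ((2 * c ^ 2 - 2 * d ^ 2 - 2 * a * b) * (4 * c * d * t * u)) := by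
    rw [h1]
    linear_combination ((2 * c ^ 2 - 2 * d ^ 2 - 2 * a * b) ^ 2 - 16 * c ^ 2 * d ^ 2) * hs +
      4 * c ^ 2 * d ^ 2 * u * u * ht + 8 * c ^ 2 * d ^ 2 * s * hu
  rw [show 4 = 2 * 2 from rfl, pow_mul, h2, mul_pow, pow_two s, hs, zero_mul]

theorem eq_of_un {R : Type*} [CommRing R] {a b b' s y : R} (h : (a + (b * s + y)) * (a + (b * s - y)) = 1)
    (h' : (a + (b' * s + y)) * (a + (b' * s - y)) = 1) (hs : s * s = 0) (ha : a * a = 1) :
    b * s + b * s = b' * s + b' * s := by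
  linear_combination a * h - a * h' - a * (b ^ 2 - b' ^ 2) * hs - 2 * (b - b') * s * ha

variable {A : Type} [Ring A] [StarRing A] [Finite A]

namespace XC

variable {F : FR A} {H N : Subgroup (RingAut A)} {p : ℕ} (E : XC F H N p 2) (hN : Nat.card N = 16)
include E hN

/-- without a central fourth root of unity -/
theorem cenD (hI : TH.Cl.Irr2 H) (hi : ∀ i ∈ Subring.center A, Un i → i * i ≠ -1) {z : A} (hz : z ∈ Subring.center A)
    (hz' : star z ≠ z) : N4.CenD F H := by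
  have := Cyc.finAut (A := A)
  have := Fintype.ofFinite N
  obtain ⟨h, hh⟩ := E.exists_hf
  let M : Submonoid A :=
    { carrier := {u | Lf N u ∧ (u * u = 1 ∨ u * u = -1)}
      one_mem' := ⟨Lf.one, Or.inl (mul_one 1)⟩
      mul_mem' := fun {u v} hu hv => ⟨hu.1.mul hv.1, by
        rw [mul_assoc, ← mul_assoc v]
        rcases E.ca hv.1 hu.1 with e | e <;> rcases hu.2 with e1 | e1 <;> rcases hv.2 with e2 | e2 <;>
          simp [e, mul_assoc, e1, e2]⟩ }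
  have hs : ∀ x ∈ Subring.closure (M : Set A), star x ∈ Subring.closure (M : Set A) := fun x hx => by
    induction hx using Subring.closure_induction with
    | mem x hx => exact Subring.subset_closure ⟨hx.1.st, by rcases hx.2 with e | e <;> simp [← star_mul, e]⟩
    | zero => rw [star_zero]; exact Subring.zero_mem _
    | one => rw [star_one]; exact Subring.one_mem _
    | add x y _ _ hx hy => rw [star_add]; exact Subring.add_mem _ hx hy
    | neg x _ hx => rw [star_neg]; exact Subring.neg_mem _ hx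
    | mul x y _ _ hx hy => rw [star_mul]; exact Subring.mul_mem _ hy hx
  have hinv : Inv H (Subring.closure (M : Set A)) := fun γ hγ =>
    (Subring.closure_le (t := (Subring.closure (M : Set A)).comap (γ : A →+* A))).2 fun u hu =>
      Subring.subset_closure ⟨hu.1.map (E.c.le_SAut hγ) (E.min.nrm γ hγ), by
        rcases hu.2 with e | e <;> simp [← map_mul, e]⟩
  have hgen : Subring.closure ((Subring.center A : Set A) ∪ Subring.closure (M : Set A)) = ⊤ :=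
    eq_top_iff.2 fun x _ => E.σ.ind (P := (· ∈ _)) (fun c hc u hu => by
      obtain ⟨v, v1, v2, v3⟩ := E.norm hu
      obtain ⟨d, d1, -, rfl⟩ := (ad_eq_iff hu.1 v1).1 v2.symm
      exact mul_mem (Subring.subset_closure (Or.inl hc)) (mul_mem (Subring.subset_closure (Or.inl d1))
        (Subring.subset_closure (Or.inr (Subring.subset_closure ⟨⟨v1, v2 ▸ hu.2⟩, v3⟩))))) (fun _ _ => add_mem) x
  have h0 : ∑ ν : N, (ν : RingAut A) z = 2 ^ 4 • z := by
    rw [Finset.sum_congr rfl fun ν _ => F.PI_le_Lin (E.σ.le_PI ν.2) z hz, Finset.sum_const, Finset.card_univ,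
      ← Nat.card_eq_fintype_card, hN]
    rfl
  have h1 : Subring.closure (M : Set A) ≠ ⊤ := fun e => by
    have h2 := Subring.mem_closure_iff.1 (e.ge (Subring.mem_top z))
    have h3 : star (∑ ν : N, (ν : RingAut A) z) = ∑ ν : N, (ν : RingAut A) z := by
      rw [Submonoid.closure_eq] at h2
      clear hz hz' h0
      induction h2 using AddSubgroup.closure_induction with
      | mem u hu =>
        by_cases h4 : u ∈ Subring.center A
        · rcases E.pm h4 hu.1.1 (hu.2.resolve_right (hi u h4 hu.1.1)) with rfl | rfl <;> simp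
        obtain ⟨v, hv, h5⟩ : ∃ v, Lf N v ∧ v * u ≠ u * v := by
          by_contra! h5
          exact h4 (E.σ.cen_of h5)
        rw [hh.eq_zero (x := ∑ ν : N, (ν : RingAut A) u) (by
          rw [← Finset.sum_neg_distrib]
          refine (Fintype.sum_equiv (Equiv.mulRight (⟨_, hv.2⟩ : N)) _ _ fun ν => ?_).symm
          rw [Equiv.coe_mulRight, Subgroup.coe_mul, ra_mul, ad_apply hv.1, (E.ca hv hu.1).resolve_left h5, neg_mul,
            mul_assoc, hv.1.ms, mul_one, map_neg]), star_zero]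
      | zero => simp
      | add x y _ _ hx hy => simp only [map_add, Finset.sum_add_distrib, star_add, hx, hy]
      | neg x _ hx => simp only [map_neg, Finset.sum_neg_distrib, star_neg, hx]
    rw [h0, star_nsmul, nsmul_eq_mul, nsmul_eq_mul, Nat.cast_pow, Nat.cast_ofNat] at h3
    exact hz' (((IsUnit.of_mul_eq_one_right h hh.two).pow _).mul_left_cancel h3)
  obtain ⟨φ₀, h2, h3, h4⟩ := Cases.exists_aut E.c.ss E.c.prime E.c.char
    (ss_of_inv E.c.ss E.c.le_SAut hI.1.1 hI.1.2 hs hinv) hgen h1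
  obtain ⟨r, hr, h5⟩ := Nat.exists_prime_and_dvd (n := orderOf φ₀) (by rwa [Ne, orderOf_eq_one_iff])
  have h6 := orderOf_pow_orderOf_div (orderOf_pos φ₀).ne' h5
  set φ := φ₀ ^ (orderOf φ₀ / r)
  have hφ : φ ∈ SAut A := pow_mem h2 _
  have hf : φ ∈ DS.Cl.Fix (Subring.closure (M : Set A) : Set A) :=
    pow_mem (show φ₀ ∈ DS.Cl.Fix (Subring.closure (M : Set A) : Set A) from h4) _
  have hcomm : ∀ γ ∈ H, γ * φ = φ * γ := fun γ hγ => by
    rw [← commutatorElement_eq_one_iff_mul_comm]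
    refine eq_one_of_fix hgen (E.c.ss.commutator_SAut (Subgroup.commutator_mem_commutator (E.c.le_SAut hγ) hφ))
      fun x hx => ?_
    rw [commutatorElement_def, ra_mul, ra_mul, ra_mul, (inv_mem hf) x hx, hf _ (hinv _ (inv_mem hγ) x hx), ra_apply_inv]
  refine ⟨hI, φ, Cases.mem_Aut_of_norm E.c.ss (E.σ.le_PI.trans F.PI_le_Aut) (Cases.irr_of_alg E.σ.sp) hφ fun s hs => ?_,
    fun h => ?_, h6 ▸ hr, hcomm⟩
  · rwa [mul_assoc, hcomm s (E.le hs), inv_mul_cancel_left]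
  · rw [eq_one_of_fix hgen h hf, orderOf_one] at h6
    exact hr.one_lt.ne h6

theorem exists_w4 {i j a b u : A} (q : Pl N i j) (k : Pl (pp N i j) a b) (hu : Lf N u) :
    ∃ c ∈ Subring.center A, Un c ∧ ∃ s t, u = c * (w2 a b s * w2 i j t) := by
  have := E.σ.ss.nontrivial
  obtain ⟨h, hh⟩ := E.exists_hf
  obtain ⟨m1, a1, n1, b1, h1⟩ := E.split' le_rfl q.la q.lb (q.ne hh) hu
  obtain ⟨m2, a2, n2, b2, h2⟩ := E.split' pp_le k.la k.lb (k.ne hh) h1
  have k1 := E.card_pp le_rfl q.la q.lb (q.ne hh)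
  have k2 := E.card_pp pp_le k.la k.lb (k.ne hh)
  have h4 := ad_cen (cen_of_bot (by omega) h2)
  have h5 := (lf_w2 (k.mono pp_le) (⟨m2, a2⟩, ⟨n2, b2⟩)).mul (lf_w2 q (⟨m1, a1⟩, ⟨n1, b1⟩))
  rw [← mul_assoc (a ^ m2 * b ^ n2)] at h4
  have h6 := (ad_mul h5.1 hu.1).symm.trans h4
  obtain ⟨c, c1, c2, c3⟩ := (ad_eq_iff hu.1 h5.1).1 (by
    rw [← inv_eq_of_mul_eq_one_right h6, inv_eq_iff_mul_eq_one, ← pow_two, E.σ.exp _ h5.2])
  exact ⟨c, c1, c2, _, _, c3⟩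

theorem c5_of {i j a b : A} (q : Pl N i j) (jj : j * j = -1) (k : Pl (pp N i j) a b) (bb' : b * b = 1) :
    C5 N ![i * a, j * a, i * j * a, b, a * b] := by
  obtain ⟨a1, a2, a3⟩ := lf_pp.1 k.la
  obtain ⟨b1, b2, b3⟩ := lf_pp.1 k.lb
  have h1 : ∀ {x y z : A}, x * y = z → ∀ w, x * (y * w) = z * w := fun e w => by rw [← mul_assoc, e]
  refine ⟨fun m => ?_, fun m => ?_, fun m l e => ?_, ?_, fun u hu => ?_⟩
  · fin_cases m
    exacts [q.la.mul a1, q.lb.mul a1, (q.la.mul q.lb).mul a1, b1, a1.mul b1]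
  · fin_cases m <;> simp [mul_assoc, q.aa, jj, q.ba, k.aa, bb', k.ba, a2, a3, h1 q.aa, h1 jj, h1 q.ba, h1 k.aa, h1 k.ba,
      h1 a2, h1 a3]
  · fin_cases m <;> fin_cases l <;> first | exact absurd rfl e | simp [mul_assoc, q.aa, jj, q.ba, k.aa, bb', k.ba, a2, a3,
      b2, b3, h1 q.aa, h1 jj, h1 q.ba, h1 k.aa, h1 k.ba, h1 a2, h1 a3, h1 b2, h1 b3]
  · simp [mul_assoc, q.aa, jj, q.ba, k.aa, bb', k.ba, a2, a3, h1 q.aa, h1 jj, h1 q.ba, h1 k.aa, h1 k.ba, h1 a2, h1 a3]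
  obtain ⟨c, c1, c2, s, t, rfl⟩ := E.exists_w4 hN q k hu
  have h2 : w2 a b s * w2 i j t = 1 ∨ ∃ m l, w2 a b s * w2 i j t = bb ![i * a, j * a, i * j * a, b, a * b] m l ∨
      w2 a b s * w2 i j t = -bb ![i * a, j * a, i * j * a, b, a * b] m l := by
    obtain ⟨s, s'⟩ := s
    obtain ⟨t, t'⟩ := t
    fin_cases s <;> fin_cases s' <;> fin_cases t <;> fin_cases t'
    · simp [w2]
    all_goals right
    map_tacs [exists 2, 0; exists 1, 1; exists 1, 0; exists 0, 3; exists 2, 4; exists 1, 4; exists 2, 2; exists 1, 3;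
      exists 0, 1; exists 0, 0; exists 0, 2; exists 0, 4; exists 2, 1; exists 2, 3; exists 1, 2]
    all_goals simp [w2, bb, mul_assoc, q.aa, jj, q.ba, k.aa, bb', k.ba, a2, a3, b2, b3, h1 q.aa, h1 jj, h1 q.ba, h1 k.aa,
      h1 k.ba, h1 a2, h1 a3, h1 b2, h1 b3]
  rcases h2 with e | ⟨m, l, e | e⟩
  · exact ⟨c, c1, c2, Or.inl (by rw [e, mul_one])⟩
  · exact ⟨c, c1, c2, Or.inr ⟨m, l, by rw [e]⟩⟩
  · exact ⟨-c, neg_mem c1, c2.neg, Or.inr ⟨m, l, by rw [e, mul_neg, neg_mul]⟩⟩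

/-- with a central fourth root of unity, or in the symplectic case -/
theorem exists_c5 (h : (∃ i ∈ Subring.center A, Un i ∧ i * i = -1) ∨ ((∀ z ∈ Subring.center A, star z = z) ∧
    Nat.card (Subring.center A) ^ 8 < Nat.card (Lmax A))) : ∃ γ, C5 N γ := by
  have := E.σ.ss.nontrivial
  obtain ⟨h', hh⟩ := E.exists_hf
  obtain ⟨i, j, q, jj⟩ := E.exists_q E.nd_top (by omega)
  obtain ⟨a, b, k⟩ := E.exists_pl (E.nd_pp E.nd_top q.la q.lb (q.ne hh)) (E.pp_ne le_rfl q (by omega))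
  rcases k.bb with e | e
  · exact ⟨_, E.c5_of hN q jj k e⟩
  rcases h with ⟨z, z1, z2, z3⟩ | ⟨h1, h2⟩
  · have h1 : z * b * (z * b) = 1 := by rw [cen_mul_mul z1, z3, e, neg_mul_neg, one_mul]
    exact ⟨_, E.c5_of hN q jj (b := z * b) ⟨k.la, (Lf.cen z1 z2).mul k.lb, k.aa, Or.inl h1, by
      rw [mul_assoc, k.ba, mul_neg, ← mul_assoc, ← mul_assoc, cen_comm z1]⟩ h1⟩
  refine absurd ?_ h2.not_ge
  have h3 : ∀ x : A, ∃ c : (P2 → Subring.center A) × (P2 → Subring.center A),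
      x - star x = ∑ s, c.1 s * w2 a b s + ∑ s, c.2 s * w2 i j s := E.σ.ind (fun c hc u hu => by
      obtain ⟨d, d1, -, s, t, rfl⟩ := E.exists_w4 hN q k hu
      obtain ⟨a1, a2, a3⟩ := lf_pp.1 k.la
      obtain ⟨b1, b2, b3⟩ := lf_pp.1 k.lb
      have h4 : Commute (w2 i j t) (w2 a b s) := comm_w2 (comm_w2 a2 a3 _).symm (comm_w2 b2 b3 _).symm _
      have h5 := sq_w2 k (δ := 1) (by rw [e, pow_one]) s
      have h6 := sq_w2 q (δ := 1) (by rw [jj, pow_one]) t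
      have h7 := (lf_w2 (k.mono pp_le) s).mul (lf_w2 q t)
      have h8 : ∀ {w : A}, Un w → w * w = 1 → c * (d * w) - star (c * (d * w)) = 0 := fun {w} h h' => by
        rw [← mul_assoc, star_mul, h.star_eq h', h1 _ (mul_mem hc d1), cen_comm (mul_mem hc d1), sub_self]
      have h9 : ∀ {w : A}, Un w → w * w = -1 → c * (d * w) - star (c * (d * w)) = (c * d + c * d) * w := fun {w} h h' => by
        rw [← mul_assoc, star_mul, star_of_sq h h', h1 _ (mul_mem hc d1), cen_comm (mul_mem hc d1), mul_neg,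
          sub_neg_eq_add, add_mul]
      have h10 : w2 a b s * w2 i j t * (w2 a b s * w2 i j t) = (-1) ^ q2 1 s * (-1) ^ q2 1 t := by
        rw [h4.mul_mul_mul_comm, h5, h6]
      have h11 : ∀ s : P2, s ≠ (0, 0) → q2 1 s = 1 := by decide
      by_cases hs : s = (0, 0) <;> by_cases ht : t = (0, 0)
      · exact ⟨0, by rw [h8 h7.1 (by rw [h10, hs, ht]; simp [q2])]; simp⟩
      · refine ⟨(0, Pi.single t ⟨_, add_mem (mul_mem hc d1) (mul_mem hc d1)⟩), ?_⟩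
        rw [h9 h7.1 (by rw [h10, hs, h11 t ht]; simp [q2]), Finset.sum_eq_single t (f := fun s => _ * w2 i j s)
          (fun p _ hp => by simp [Pi.single_eq_of_ne hp]) (by simp), hs]
        simp [w2]
      · refine ⟨(Pi.single s ⟨_, add_mem (mul_mem hc d1) (mul_mem hc d1)⟩, 0), ?_⟩
        rw [h9 h7.1 (by rw [h10, ht, h11 s hs]; simp [q2]), Finset.sum_eq_single s (f := fun s => _ * w2 a b s)
          (fun p _ hp => by simp [Pi.single_eq_of_ne hp]) (by simp), ht]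
        simp [w2]
      · exact ⟨0, by rw [h8 h7.1 (by rw [h10, h11 s hs, h11 t ht]; simp)]; simp⟩) (by
    rintro x y ⟨c, hc⟩ ⟨d, hd⟩
    refine ⟨c + d, ?_⟩
    rw [star_add, add_sub_add_comm, hc, hd]
    simp only [Prod.fst_add, Prod.snd_add, Pi.add_apply, Subring.coe_add, add_mul, Finset.sum_add_distrib]
    abel)
  choose f hf using h3
  refine (Nat.card_le_card_of_injective (fun x : Lmax A => f x) fun x y e => Subtype.ext ?_).trans ?_
  · have h4 := hf x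
    rw [show f x = f y from e, ← hf y, show star (x : A) = -x from x.2, show star (y : A) = -y from y.2, sub_neg_eq_add,
      sub_neg_eq_add] at h4
    rw [← hh.dbl x, h4, hh.dbl]
  · rw [Nat.card_prod, Nat.card_fun, ← pow_add]
    simp

theorem not_dvd : ¬ 25 ∣ Nat.card ↥(H ⊓ F.S) := fun h => by
  have := Cyc.finAut (A := A)
  have : Fact (Nat.Prime 5) := ⟨Nat.prime_five⟩
  obtain ⟨P, hP⟩ := Sylow.exists_subgroup_card_pow_prime (G := ↥(H ⊓ F.S)) 5 (n := 2) h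
  obtain ⟨ν, hν, h1⟩ := N.bot_or_exists_ne_one.resolve_left E.σ.ne
  have h2 : P.map (H ⊓ F.S).subtype ≤ H ⊓ F.S := Subgroup.map_subtype_le P
  rw [← Subgroup.card_map_of_injective (H ⊓ F.S).subtype_injective] at hP
  generalize P.map (H ⊓ F.S).subtype = P at h2 hP
  have h3 := card_le_of_conj P ν ((N : Set (RingAut A)) \ {1}) fun γ hγ =>
    ⟨E.min.nrm γ (h2 hγ).1 ν hν, fun e => h1 (by simpa using e)⟩
  rw [Set.ncard_sdiff_singleton_of_mem (one_mem _), ← Nat.card_coe_set_eq, hP, SetLike.coe_sort_coe, hN] at h3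
  obtain ⟨j, -, h4⟩ := (Nat.dvd_prime_pow Nat.prime_five).1 (hP ▸ Subgroup.card_dvd_of_le (inf_le_left : cz P ν ≤ P))
  obtain ⟨x, hx⟩ := exists_prime_orderOf_dvd_card' (G := cz P ν) 5 (h4 ▸ dvd_pow_self 5 (by
    rintro rfl
    rw [h4] at h3
    omega))
  rw [← Subgroup.orderOf_coe] at hx
  have h5 := dvd_card_sub Nat.prime_five (hx ▸ pow_orderOf_eq_one (x : RingAut A)) (E.min.nrm _ (h2 x.2.1).1)
  have h6 := Subgroup.card_dvd_of_le (inf_le_left : N ⊓ Subgroup.centralizer {(x : RingAut A)} ≤ N)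
  have h7 : Nat.card ↥(N ⊓ Subgroup.centralizer {(x : RingAut A)}) ≠ 1 := fun e =>
    h1 (Subgroup.mem_bot.1 (Subgroup.card_eq_one.1 e ▸ mem_cz.2 ⟨hν, (mem_cz.1 x.2).2.symm⟩))
  have h8 := Subgroup.eq_of_le_of_card_ge (inf_le_left : N ⊓ Subgroup.centralizer {(x : RingAut A)} ≤ N) (by
    rw [hN] at h5 h6 ⊢
    have h9 := Nat.le_of_dvd (by norm_num) h6
    generalize Nat.card ↥(N ⊓ Subgroup.centralizer {(x : RingAut A)}) = n at h5 h6 h7 h9
    interval_cases n <;> simp_all [Nat.ModEq])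
  obtain ⟨g, hg, e⟩ := exists_of_PI (F.S_le_PI (h2 x.2.1).2)
  have h9 := orderOf_dvd_of_pow_eq_one (E.σ.exp _ (E.σ.cent hg fun μ hμ => e ▸ (mem_cz.1 (h8.ge hμ)).2.symm))
  rw [e, hx] at h9
  omega

variable {γ : Fin 5 → A} (c : C5 N γ)
include c

theorem card_le (hU : ∀ z ∈ Subring.center A, Un z → z * z = 1) : Nat.card ↥(H ⊓ F.S) ≤ 1920 := by
  have := Cyc.finAut (A := A)
  have := E.σ.ss.nontrivial
  obtain ⟨h, hh⟩ := E.exists_hf
  have h0 : ∀ k : Fin 5, k ≠ k + 1 ∧ k ≠ k + 2 := by decide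
  have h1 : ∀ (φ : ↥(H ⊓ F.S)) k, ∃ l, φ * ad (γ k) * (φ : RingAut A)⁻¹ = ad (γ l) := fun φ k => by
    have h2 := (c.lf k).map (E.c.le_SAut φ.2.1) (E.min.nrm _ φ.2.1)
    have h3 := congrArg (φ : RingAut A) (c.sq k)
    rw [map_mul, map_one] at h3
    rw [conj_ad _ (c.lf k).1]
    obtain ⟨d, d1, d2, e | ⟨m, l, e⟩⟩ := c.gen _ h2
    · exact absurd (cen_comm (e ▸ d1) _).symm (c.ne_comm hh (h0 k).1)
    have h4 : ∀ {l'}, l ≠ l' → (φ : RingAut A) (γ k) ≠ d * (γ l * γ l') := fun h e => by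
      rw [e, cen_mul_mul d1, hU d d1 d2, c.sq2 h, one_mul] at h3
      exact one_ne_zero (hh.eq_zero h3.symm)
    fin_cases m
    · exact ⟨l, (ad_eq_iff h2.1 (c.lf l).1).2 ⟨d, d1, d2, e⟩⟩
    exacts [absurd e (h4 (h0 l).1), absurd e (h4 (h0 l).2)]
  choose f hf using h1
  have h2 := E.card_le_N (X := H ⊓ F.S ⊓ Subgroup.centralizer N) (fun _ h => F.S_le_PI h.1.2)
    fun _ h ν hν => (h.2 ν hν).symm
  rw [← ((H ⊓ F.S ⊓ Subgroup.centralizer N).subgroupOf (H ⊓ F.S)).index_mul_card, TH.In.card_sub inf_le_left]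
  refine Nat.mul_le_mul (n₂ := 120) (le_trans (Nat.card_le_card_of_injective
    (fun z : _ ⧸ (H ⊓ F.S ⊓ Subgroup.centralizer N).subgroupOf (H ⊓ F.S) => (⟨f z.out, fun k l e =>
    c.ad_inj hh (mul_left_cancel (mul_right_cancel ((hf _ k).trans (e ▸ (hf _ l).symm))))⟩ : Fin 5 ↪ Fin 5))
    fun z z' e => ?_) (by simp [Nat.descFactorial])) (hN ▸ h2)
  rw [← z.out_eq', ← z'.out_eq', QuotientGroup.eq]
  refine ⟨(z.out⁻¹ * z'.out).2, fun ν hν => (c.comm_N (fun k => ?_) E.σ ν hν).symm⟩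
  have h4 : f z.out k = f z'.out k := DFunLike.congr_fun e k
  have h3 := (hf z.out k).trans (h4 ▸ (hf z'.out k).symm)
  change (z.out : RingAut A)⁻¹ * z'.out * _ = _ * ((z.out : RingAut A)⁻¹ * z'.out)
  calc _ = (z.out : RingAut A)⁻¹ * (z'.out * ad (γ k) * (z'.out : RingAut A)⁻¹) * z'.out := by group
    _ = _ := by rw [← h3]; group

/-- **the element of order five** -/
theorem five : ∃ g, Rl γ g (· + 1) ∧ 5 ∣ Nat.card ↥(H ⊓ F.S) ∧ ∀ z ∈ Subring.center A, Un z → ∀ n d : ℕ, z ^ 2 ^ n ≠ 1 →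
    z ^ 2 ^ (n + 1) = 1 → 4 * Cyc.cU g ≤ 2 ^ (n + 1) * d → d ^ 3 * Nat.card ↥(H ⊓ F.S) ≤ 1000 * Nat.card F.S → Gd F H := by
  have := Cyc.finAut (A := A)
  have := E.σ.ss.nontrivial
  have : Fact (Nat.Prime 5) := ⟨Nat.prime_five⟩
  obtain ⟨h, hh⟩ := E.exists_hf
  have x1 := c.rl_swap hh (i := 1) (j := 4) (k := 2) (l := 3) (by decide) (by decide)
  have x2 := c.rl_swap hh (i := 0) (j := 2) (k := 3) (l := 4) (by decide) (by decide)
  have x3 := c.rl_swap hh (i := 2) (j := 3) (k := 3) (l := 4) (by decide) (by decide)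
  have x4 := c.rl_swap hh (i := 1) (j := 2) (k := 3) (l := 4) (by decide) (by decide)
  have g1 := (((x1.mul x2).mul (x1.st (f' := fun k => -k) (by decide))).mul
    (x2.st (f' := fun k => 2 - k) (by decide))).congr (f' := (· + 1)) (by decide)
  have w1 := (((x3.mul x4).mul (x3.st (f' := ![0, 1, 4, 2, 3]) (by decide))).mul
    (x4.st (f' := ![0, 2, 1, 4, 3]) (by decide))).congr (f' := fun k => -k) (by decide)
  have g2 := E.σ.comm_mem x1.1 x2.1
  have w2 := E.σ.comm_mem x3.1 x4.1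
  generalize (_ : A) * _ * star _ * star _ = g at g1 g2
  generalize (_ : A) * _ * star _ * star _ = w at w1 w2
  have g3 := E.mem_H g2 (c.norm E.σ g1)
  have g4 : ad g ^ 5 = 1 := by
    rw [← ad_pow g1.1, show g ^ 5 = g * g * g * g * g by simp only [pow_succ, pow_zero, one_mul]]
    exact c.ad_one' E.σ (((((g1.mul g1).mul g1).mul g1).mul g1).congr (by decide))
  have g5 : ad g ≠ 1 := fun e => c.ne_comm hh (k := 0) (l := 1) (φ := 1) (by decide) (by
    have h1 := g1.2 0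
    rw [e] at h1
    exact congrArg₂ _ (congrArg _ h1) (congrArg _ h1.symm))
  have g6 : ad w * ad g * (ad w)⁻¹ = (ad g)⁻¹ := by
    rw [eq_inv_iff_mul_eq_one, ← ad_star w1.1, ← ad_mul w1.1 g1.1, ← ad_mul (w1.1.mul g1.1) w1.1.st,
      ← ad_mul ((w1.1.mul g1.1).mul w1.1.st) g1.1]
    exact c.ad_one' E.σ ((((w1.mul g1).mul (w1.st (f' := fun k => -k) (by decide))).mul g1).congr (by decide))
  refine ⟨g, g1, orderOf_eq_prime g4 g5 ▸ (H ⊓ F.S).orderOf_dvd_natCard ⟨g3, g2⟩, fun z z1 z2 n d z3 z4 h1 h2 => ?_⟩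
  obtain ⟨u, hu, e⟩ := g2
  have h3 : Un (u : A) := (F.comm_le_Iso hu).1
  have h4 := cn_mul_two hu (cj_eq_one_iff.1 (by rw [map_pow, e, g4])) (z := mkU z z2)
    (Cyc.mem_ZI (E.σ.mem_Iso z2) z1) (n := n) (fun e => z3 (congrArg Units.val e)) (Units.ext z4)
  have h5 : Cyc.cU (u : A) = Cyc.cU g := Nat.card_congr (Equiv.subtypeEquivRight fun x => and_congr_right fun _ => by
    rw [eq_comm, ← ad_fix h3, ad_val, e, ad_fix g1.1, eq_comm])
  have h6 : Cyc.el hu ∈ H.subgroupOf F.S := show DS.Cl.cj A u ∈ H from e ▸ g3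
  have h7 := fx_five h6 (w := ⟨ad w, w2⟩) (E.mem_H w2 (c.norm E.σ w1)) (fun k => g5 (e ▸ congrArg Subtype.val k))
    (Subtype.ext (show DS.Cl.cj A u ^ 5 = 1 from e ▸ g4))
    (Subtype.ext (show ad w * DS.Cl.cj A u * (ad w)⁻¹ = (DS.Cl.cj A u)⁻¹ from e ▸ g6)) (Cyc.card_sub F H ▸ E.not_dvd hN)
  have h8 : 4 * N2.cn (Cyc.el hu) ≤ d := Nat.le_of_mul_le_mul_left (by
    have := (h4.trans (Cyc.cO_le_cU F u)).trans_eq h5
    nlinarith) (show 0 < 2 ^ (n + 1) by positivity)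
  refine N2.good_of_le h6 le_rfl (Nat.le_of_mul_le_mul_left (le_trans ?_ h2) (show 0 < 1000 by norm_num))
  rw [Cyc.card_sub, ← mul_assoc, show 1000 = 10 ^ 3 from rfl, ← mul_pow, mul_comm 10]
  exact Nat.mul_le_mul_right _ (Nat.pow_le_pow_left (h7.trans h8) 3)

/-- symplectic groups -/
theorem cU_le_B (hs : ∀ z ∈ Subring.center A, star z = z) {q : ℕ} (hz : Nat.card (Subring.center A) = q) (sc : Sc A q)
    (hq : 3 ≤ q) {g : A} (hg : Rl γ g (· + 1)) : Cyc.cU g ≤ 2 * q ^ 2 := by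
  obtain ⟨h, hh⟩ := E.exists_hf
  obtain ⟨⟨t0, t1, t2⟩, t3⟩ := c.table
  have hc := c.isCyc E.σ hN hg
  by_cases h5 : 5 = p
  swap
  · obtain ⟨ρ, -, h1⟩ := E.exists_inv Nat.prime_five h5
    obtain ⟨ι, e, rfl, e1, e2, e3⟩ := sc
    have h2 : sm γ 1 * sm γ 1 * (sm γ 2 * sm γ 2) * ρ = 1 := by
      rw [t1, t2, ← mul_eq_one_comm.1 h1, Nat.cast_ofNat]
      congr 1
      simp only [mul_sub, add_mul, mul_add, t0]
      rw [show (5 : A) = 1 + 1 + 1 + 1 + 1 by norm_num]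
      noncomm_ring
    refine (Cyc.cU_le_unit hg.1 hc (cen_comm hh.cen g).symm (by rw [hh.st, ← mul_two, hh.two]) (hg.comm_sm 1) (by
      rw [c.st_sm1, sub_neg_eq_add, ← two_mul]
      exact (IsUnit.of_mul_eq_one_right h hh.two).mul (IsUnit.of_mul_eq_one _ (by simpa only [mul_assoc] using h2))) e
      (fun i => (cen_comm (e1 i) g).symm) e2 e3 (by omega) (ν := 2)
      (by simpa only [hz, ← pow_mul] using c.cA_le E.σ hN hg)).trans (by nlinarith)
  have h0 : (5 : A) = 0 := by simpa [← h5] using E.c.char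
  rw [h0] at t0 t1 t2
  rw [neg_zero, zero_add] at t1
  rw [neg_zero, zero_sub] at t2
  choose a ha using fun x : {x : A // x * star x = 1 ∧ x * g = g * x} => c.cen_g E.σ hN hg x.2.2
  simp only [Fin.sum_univ_three] at ha
  let ι : Subring.center A → Cyc.Cn hc := fun z => Cyc.Cn.mk hc z (cen_comm z.2 g).symm
  let s : Fin 3 → Cyc.Cn hc := fun m => Cyc.Cn.mk hc _ (hg.comm_sm m)
  have h1 : ∀ x, (ι (a x).1 + (ι ((a x).2 0) * s 0 + ι ((a x).2 1) * s 1 + ι ((a x).2 2) * s 2)) *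
      (ι (a x).1 + (ι ((a x).2 0) * s 0 + ι ((a x).2 1) * -s 1 + ι ((a x).2 2) * -s 2)) = 1 := fun x => Cyc.Cn.val_inj (by
    have h2 := x.2.1
    rw [ha x, star_add, star_add, star_add, star_mul, star_mul, star_mul, c.st_sm0, c.st_sm1, c.st_sm2,
      hs _ (a x).1.2, hs _ ((a x).2 0).2, hs _ ((a x).2 1).2, hs _ ((a x).2 2).2, cen_comm ((a x).2 0).2 (sm γ 0),
      cen_comm ((a x).2 1).2 (-sm γ 1), cen_comm ((a x).2 2).2 (-sm γ 2)] at h2
    exact h2)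
  have h2 : ∀ x, ((a x).1 : A) * (a x).1 = 1 := fun x => by
    have := E.σ.ss.nontrivial
    have h3 : (((a x).1 : A) * (a x).1 - 1) ^ 4 = 0 := congrArg Cyc.Cn.val
      (nil_four (h1 x) (Cyc.Cn.val_inj t0) (Cyc.Cn.val_inj t1) (Cyc.Cn.val_inj t2))
    have h4 := sub_mem (mul_mem (a x).1.2 (a x).1.2) (one_mem _)
    by_contra h6
    exact ((E.σ.ss.isUnit_of_cen h4 (hs _ h4) (sub_ne_zero.2 h6)).pow 4).ne_zero h3
  have h3 : ∀ x, ((a x).1 : A) = 1 ∨ ((a x).1 : A) = -1 := fun x =>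
    E.pm (a x).1.2 (by rw [Un, hs _ (a x).1.2, h2]) (h2 x)
  refine (Nat.card_le_card_of_injective (fun x => (((a x).1 : A) = 1, (a x).2 1, (a x).2 2)) fun x y e => ?_).trans
    (by simp [hz, pow_two])
  obtain ⟨e1, e2, e3⟩ : ((((a x).1 : A) = 1) ↔ ((a y).1 : A) = 1) ∧ (a x).2 1 = (a y).2 1 ∧ (a x).2 2 = (a y).2 2 := by
    simpa using e
  have e0 : (a x).1 = (a y).1 := Subtype.ext (by
    by_cases k : ((a x).1 : A) = 1
    · rw [k, e1.1 k]
    · rw [(h3 x).resolve_left k, (h3 y).resolve_left (mt e1.2 k)])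
  have h4 := h1 x
  have h6 := h1 y
  rw [e0, e2, e3] at h4
  have h7 : ((a x).2 0 : A) * sm γ 0 + (a x).2 0 * sm γ 0 = (a y).2 0 * sm γ 0 + (a y).2 0 * sm γ 0 :=
    congrArg Cyc.Cn.val (eq_of_un (y := ι ((a y).2 1) * s 1 + ι ((a y).2 2) * s 2) (a := ι (a y).1) (s := s 0)
      (b := ι ((a x).2 0)) (b' := ι ((a y).2 0))
      (by linear_combination h4) (by linear_combination h6) (Cyc.Cn.val_inj t0) (Cyc.Cn.val_inj (h2 y)))
  refine Subtype.ext ?_
  rw [ha x, ha y, e0, e2, e3, ← hh.dbl ((a x).2 0 * sm γ 0), h7, hh.dbl]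

omit hN c in
theorem dvd_four {m : ℕ} (hm : ∀ z ∈ Subring.center A, Un z → z ^ m = 1) {z : A} (z1 : z ∈ Subring.center A) (z2 : Un z)
    (z3 : z * z = -1) : 4 ∣ m ∧ z ^ 2 ^ 1 ≠ 1 ∧ z ^ 2 ^ (1 + 1) = 1 := by
  have := E.σ.ss.nontrivial
  obtain ⟨h, hh⟩ := E.exists_hf
  have h1 : z ^ 2 ^ 1 ≠ 1 := fun e => one_ne_zero (hh.eq_zero (e.symm.trans ((pow_two z).trans z3)))
  have h2 : z ^ 2 ^ (1 + 1) = 1 := by rw [pow_succ 2, pow_mul, pow_one, pow_two z, z3, neg_one_sq]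
  exact ⟨(orderOf_eq_prime_pow h1 h2 ▸ orderOf_dvd_of_pow_eq_one (hm z z1 z2) : 2 ^ (1 + 1) ∣ m), h1, h2⟩

end XC

theorem exists_xc4 {F : FR A} {H : Subgroup (RingAut A)} {p : ℕ} (c : Ctx F H p) (h : TH.Cl.ExD F H)
    (hn : Nat.card A = Nat.card (Subring.center A) ^ 4 ^ 2) : ∃ N, XC F H N p 2 ∧ Nat.card N = 16 := by
  obtain ⟨N, r, E⟩ := exists_xc c h
  obtain ⟨k, hk⟩ := E.exists_k (E.card_N hn)
  obtain rfl : r = 2 := (Nat.prime_dvd_prime_iff_eq E.σ.prime Nat.prime_two).1 (E.σ.prime.dvd_of_dvd_pow (n := 2)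
    (hk ▸ dvd_pow_self r (by rintro rfl; simp at hk) : r ∣ 4))
  exact ⟨N, E, E.card_N hn⟩

end Cfsg.Agent.N2C.Ext

namespace Cfsg.Agent.N2C.N4

open Cfsg.Agent.N2C.Ext Cfsg.Agent.DS.Cl Cfsg.Agent.DS.Cl.Fwd Cfsg.Agent.TH.Cl.Ext Module

theorem extL : AtL pExt4 := fun K _ _ F H p k hq c h => by
  obtain ⟨h1, h2⟩ := card_L (n := 4) (by omega) K
  obtain ⟨N, E, hN⟩ := exists_xc4 c h.1 h2
  obtain ⟨ε, hε, -⟩ := SB.C2.L_eps (SB.C2.prL_bij (n := 4) (K := K))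
  have := c.ss.nontrivial
  obtain ⟨z, z1, z2, z3⟩ : ∃ i ∈ Subring.center (LR (Fin 4) K), Un i ∧ i * i = -1 := by
    by_contra! h3
    exact h.2 (E.cenD hN h.1.1 h3 hε.cen fun e => hε.ne_zero (by rw [← hε.idem, ← hε.sm, e]))
  obtain ⟨γ, c5⟩ := E.exists_c5 hN (Or.inl ⟨z, z1, z2, z3⟩)
  obtain ⟨g, g1, -, g2⟩ := E.five hN c5
  obtain ⟨h3, h4, h5⟩ := E.dvd_four (pow_of_ZI F fun _ => Cyc.ZI_pow_L) z1 z2 z3
  have h6 : Cyc.cU g ≤ Fintype.card K ^ 4 := (Nat.pow_le_pow_iff_left two_ne_zero).1 ((cU_sq_le hε).trans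
    ((c5.cA_le E.σ hN g1).trans_eq (by rw [h1, ← pow_mul, ← pow_mul])))
  refine g2 z z1 z2 1 _ h4 h5 (Nat.mul_le_mul_left 4 h6) ((Nat.mul_le_mul_left _ (E.card_B (k := 2) hN)).trans ?_)
  have h7 := Cyc.oGL_ge (Cyc.two_le_q K) (n := 4) (by omega)
  rw [← Cyc.card_S_L k] at h7
  have h8 := Nat.mul_le_mul_right ((Fintype.card K - 1) * Nat.card F.S) (Nat.gcd_le_left (Fintype.card K - 1) four_pos)
  obtain ⟨t, ht⟩ := Nat.exists_eq_add_of_le' (show 5 ≤ Fintype.card K by omega)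
  rw [ht] at h7 h8 ⊢
  rw [show (t + 5) ^ 2 - (t + 5) - 1 = t ^ 2 + 9 * t + 19 by
    rw [show (t + 5) ^ 2 = t ^ 2 + 9 * t + 19 + 1 + (t + 5) by ring]; omega] at h7
  refine Nat.le_of_mul_le_mul_left ?_ (show 0 < (t + 5) * (4 * (t + 4)) by positivity)
  have h9 : 65536 * (t + 4) ≤ 1000 * ((t ^ 2 + 9 * t + 19) * (t + 5) ^ 2) := le_trans (by generalize t ^ 2 = x; omega)
    (Nat.mul_le_mul_left _ (Nat.mul_le_mul_left _ (Nat.pow_le_pow_left (Nat.le_add_left 5 t) 2)))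
  calc _ = (t + 5) ^ 13 * (65536 * (t + 4)) := by generalize t + 5 = x; ring
    _ ≤ (t + 5) ^ 13 * (1000 * ((t ^ 2 + 9 * t + 19) * (t + 5) ^ 2)) := Nat.mul_le_mul_left _ h9
    _ = 1000 * ((t ^ 2 + 9 * t + 19) * (t + 5) ^ (4 ^ 2 - 1)) := by generalize t + 5 = x; ring
    _ ≤ 1000 * ((t + 5) * (4 * ((t + 4) * Nat.card F.S))) :=
        Nat.mul_le_mul_left _ (h7.trans (Nat.mul_le_mul_left _ h8))
    _ = _ := by ring

theorem extU : AtU pExt4 := fun K V _ _ _ _ _ f F q H p k hn hq h0 c h => by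
  have : Nontrivial V := nontrivial_of_finrank_pos (R := K) (by omega)
  have h1 := (card_cen f).trans k.card
  have := c.ss.nontrivial
  obtain ⟨N, E, hN⟩ := exists_xc4 c h.1 (hn ▸ SB.C2.card_EB f)
  obtain ⟨z, z1, z2, z3⟩ : ∃ i ∈ Subring.center f.EB, Un i ∧ i * i = -1 := by
    by_contra! h3
    obtain ⟨θ, hθ⟩ := k.u.2
    exact h.2 (E.cenD hN h.1.1 h3 (f.smul_mem_center θ) fun e => (Cyc.sc_unit hθ).ne_zero (by
      rw [← Cyc.sc_star, e, sub_self]))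
  obtain ⟨γ, c5⟩ := E.exists_c5 hN (Or.inl ⟨z, z1, z2, z3⟩)
  obtain ⟨g, g1, g0, g2⟩ := E.five hN c5
  obtain ⟨h3, h4, h5⟩ := E.dvd_four (pow_of_ZI F fun _ => Cyc.ZI_pow_U k) z1 z2 z3
  obtain ⟨ι, e, rfl, e1, e2, e3⟩ := sc_U k
  obtain ⟨h', hh⟩ := E.exists_hf
  have h6 := Cyc.cU_le_unit g1.1 (c5.isCyc E.σ hN g1) (cen_comm hh.cen g).symm (by rw [hh.st, ← mul_two, hh.two])
    (cen_comm z1 g).symm (by
      rw [star_of_sq z2 z3, sub_neg_eq_add, ← two_mul]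
      exact (IsUnit.of_mul_eq_one_right h' hh.two).mul z2.isUnit) e (fun i => (cen_comm (e1 i) g).symm) e2 e3 (by omega)
    (ν := 4) ((c5.cA_le E.σ hN g1).trans_eq (by rw [h1, ← pow_mul, ← pow_mul]))
  refine g2 z z1 z2 1 _ h4 h5 (Nat.mul_le_mul_left 4 h6) ((Nat.mul_le_mul_left _ (E.card_B (k := 2) hN)).trans ?_)
  have h7 := Cyc.oGU_ge (n := 4) (show 2 ≤ Nat.card ι by omega) (by omega)
  rw [← hn, ← Cyc.card_S_U k, hn, mul_assoc, mul_left_comm (Nat.gcd _ _)] at h7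
  have h8 := (Nat.le_of_mul_le_mul_left h7 (Nat.succ_pos _)).trans
    (Nat.mul_le_mul_right (Nat.card F.S) (Nat.gcd_le_left (Nat.card ι + 1) four_pos))
  have h9 : 7 ≤ Nat.card ι := by
    have : Nat.card ι ≠ 3 := fun e => (h0 e).1 g0
    omega
  have h10 := pw_le (m := 12) (c := 49 * 65536) (f := 48000) (e := 3) (by norm_num) h9 (by norm_num)
  have h11 : 48 * Nat.card ι ^ 2 ≤ 49 * (Nat.card ι ^ 2 - 1) := by
    have := Nat.pow_le_pow_left h9 2
    omega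
  refine Nat.le_of_mul_le_mul_left ?_ (show 0 < 49 * 4 by norm_num)
  calc _ = (Nat.card ι + 1) ^ 12 * (49 * 65536) := by generalize Nat.card ι + 1 = x; ring
    _ ≤ 1000 * (48 * Nat.card ι ^ 2 * Nat.card ι ^ 13) := h10.trans_eq (by ring)
    _ ≤ 1000 * (49 * (Nat.card ι ^ 2 - 1) * Nat.card ι ^ 13) := by gcongr
    _ ≤ 1000 * (49 * (4 * Nat.card F.S)) := by
        rw [mul_assoc 49]
        exact Nat.mul_le_mul_left _ (Nat.mul_le_mul_left _ h8)
    _ = _ := by ring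

theorem extS : AtS pExt4 := fun K V _ _ _ _ _ f F H p k hq c h => by
  have hn := k.dim
  have : Nontrivial V := nontrivial_of_finrank_pos (R := K) (by omega)
  have h1 := card_cen f
  have hs := SB.C2.star_cen_eq f k.sp.1
  obtain ⟨N, E, hN⟩ := exists_xc4 c h.1 (by simpa [hn] using SB.C2.card_EB f)
  obtain ⟨γ, c5⟩ := E.exists_c5 hN (Or.inr ⟨hs, by
    rw [← k.sp.2.2, Size.card_L_Sp k.sp, h1, hn]
    exact Nat.pow_lt_pow_right (by omega) (by decide)⟩)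
  obtain ⟨g, g1, -, g2⟩ := E.five hN c5
  obtain ⟨h', hh⟩ := E.exists_hf
  have := c.ss.nontrivial
  have h2 := E.cU_le_B hN c5 hs h1 (sc_B k.sp.1) (by omega) g1
  refine g2 (-1) neg_one_cen Un.one.neg 0 (4 * Fintype.card K ^ 2) (fun e => one_ne_zero (hh.eq_zero (by simpa using e.symm)))
    (by simp) (by omega) ((Nat.mul_le_mul_left _ (E.card_le hN c5 fun z z1 z2 => by rw [← z2.ms, hs z z1])).trans ?_)
  have h3 := S_ge_Sp k
  have h4 := E.card_ne 2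
  have h5 := Nat.mul_le_mul_left (Fintype.card K ^ 6) (Nat.pow_le_pow_left (show 5 ≤ Fintype.card K by omega) 4)
  refine Nat.le_of_mul_le_mul_left ?_ (show 0 < 3 by norm_num)
  calc _ = Fintype.card K ^ 6 * 368640 := by ring
    _ ≤ 1000 * (Fintype.card K ^ 6 * 5 ^ 4) := by rw [mul_left_comm]; exact Nat.mul_le_mul_left _ (by norm_num)
    _ ≤ 1000 * (3 * Nat.card F.S) := Nat.mul_le_mul_left _ (h5.trans ((pow_add _ 6 4).ge.trans h3))
    _ = _ := by ring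

/-- **class `pExt4`** -/
theorem ext : At pExt4 := ⟨extL, extU, extS⟩

end Cfsg.Agent.N2C.N4
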