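import Cfsg.Agent.N2.Cl.Ext.Main
import Cfsg.Agent.N2.D4m.Up

/-!
# N2 (S3519), class `pExt4`: five anticommuting lifts, the element of order five (helper22)
-/

set_option autoImplicit false
set_option linter.unusedSectionVars false

namespace Cfsg.Agent.N2C.Ext

open Cfsg.Agent.DS.Cl Cfsg.Agent.DS.Cl.Fwd Cfsg.Agent.SB.Cl Cfsg.Agent.TH.Cl.Ext

section groups

open Subgroup

variable {T : Type*} [Group T] [Finite T]

/-- a Sylow subgroup of order five of `B` which is inverted in `B` -/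
theorem fx_five {B : Subgroup T} {a w : T} (ha : a ∈ B) (hw : w ∈ B) (h1 : a ≠ 1) (h5 : a ^ 5 = 1)
    (e : w * a * w⁻¹ = a⁻¹) (hB : ¬ 25 ∣ Nat.card B) : FP3.fx B a * 10 ≤ 4 * N2.cn a := by
  have : Fact (Nat.Prime 5) := ⟨Nat.prime_five⟩
  have h2 : Nat.card (zpowers a) = 5 := (Nat.card_zpowers a).trans (orderOf_eq_prime h5 h1)
  have hR := zpowers_le.2 ha
  have h3 := N2.fs_sylow Nat.prime_five hR (IsPGroup.of_card (n := 1) h2) fun h => hB (by
    rw [← ((zpowers a).subgroupOf B).index_mul_card, Nat.card_congr (subgroupOfEquivOfLe hR).toEquiv, h2]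
    exact Nat.mul_dvd_mul_right h 5)
  have h4 : zpowers a ≤ normalizer (zpowers a : Set T) ⊓ B := le_inf le_normalizer hR
  have h6 : w ∈ normalizer (zpowers a : Set T) ⊓ B := ⟨mem_normalizer_fintype (by
    rintro _ ⟨i, rfl⟩
    exact ⟨-i, by simp only [← conj_zpow, e, inv_zpow, zpow_neg]⟩), hw⟩
  have h7 : ¬ Nat.card ↥(normalizer (zpowers a : Set T) ⊓ B) ≤ 5 := fun h => h1 (by
    obtain ⟨i, rfl⟩ := (eq_of_le_of_card_ge h4 (h2 ▸ h)).ge h6
    rw [← (Commute.self_zpow a i).eq, mul_inv_cancel_right, eq_inv_iff_mul_eq_one, ← pow_two] at e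
    exact (pow_eq_one_iff_of_coprime (show Nat.Coprime 2 5 by norm_num)).1 ⟨e, h5⟩)
  have h8 := h2 ▸ card_dvd_of_le h4
  refine le_trans (Nat.mul_le_mul (N2.fx_le_fs B le_rfl) (by omega)) (h3.le.trans (N4.card_norm_le ?_))
  refine le_trans (Set.ncard_le_ncard (t := (zpowers a : Set T) \ {1}) fun y hy => ⟨hy.1, fun e => h1 ?_⟩) ?_
  · exact isConj_one_left.1 ((show y = 1 from e) ▸ hy.2)
  · rw [Set.ncard_sdiff_singleton_of_mem (one_mem _), ← Nat.card_coe_set_eq]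
    exact (congrArg (· - 1) h2).le

end groups

variable {A : Type} [Ring A] [StarRing A] [Finite A]

/-- dividing by a central `2`-group -/
theorem cn_mul_two {F : FR A} {u z : Aˣ} (hu : u ∈ Cyc.I0 F) (h5 : ((u ^ 5 : Aˣ) : A) ∈ Subring.center A) (hz : z ∈ Cyc.ZI F)
    {n : ℕ} (h1 : ¬ z ^ 2 ^ n = 1) (h2 : z ^ 2 ^ (n + 1) = 1) : N2.cn (Cyc.el hu) * 2 ^ (n + 1) ≤ Cyc.cO F u := by
  let C : Subgroup Aˣ :=
    { carrier := {z | z ∈ Cyc.ZI F ∧ z ^ 5 = 1}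
      one_mem' := ⟨one_mem _, one_pow _⟩
      mul_mem' := fun {a b} ha hb => ⟨mul_mem ha.1 hb.1, by
        rw [Commute.mul_pow (Units.ext (Cyc.ZI_comm ha.1 b)), ha.2, hb.2, one_mul]⟩
      inv_mem' := fun ha => ⟨inv_mem ha.1, by rw [inv_pow, ha.2, inv_one]⟩ }
  have h3 := Cyc.cn_mul_le hu (k := Nat.card C) (Nat.card_le_card_of_injective (fun x => ⟨x.1, x.2.1, by
    obtain ⟨v, -, e⟩ := x.2.2
    have h4 : (x.1 * u) ^ 5 = u ^ 5 := by
      rw [show x.1 * u = v * u * v⁻¹ by rw [e, mul_inv_cancel_right], conj_pow, mul_inv_eq_iff_eq_mul]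
      exact Units.ext (cen_comm h5 v)
    rwa [Commute.mul_pow (Units.ext (Cyc.ZI_comm x.2.1 u)), mul_eq_right] at h4⟩)
    fun _ _ e => Subtype.ext (Subtype.mk.inj e))
  have h4 := card_mul_le_of_disj (C := C) (fun _ h => h.1) (Subgroup.zpowers_le.2 hz) fun ν hν h =>
    (pow_eq_one_iff_of_coprime (Nat.Coprime.pow_right (n + 1) (show Nat.Coprime 5 2 by norm_num))).1 ⟨h.2, by
      obtain ⟨i, rfl⟩ := hν
      rw [← zpow_natCast, ← zpow_mul, mul_comm, zpow_mul, zpow_natCast, h2, one_zpow]⟩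
  rw [Nat.card_zpowers, orderOf_eq_prime_pow h1 h2] at h4
  refine Nat.le_of_mul_le_mul_left ?_ (Nat.card_pos (α := Cyc.ZI F))
  calc _ = N2.cn (Cyc.el hu) * Nat.card (Cyc.ZI F) * 2 ^ (n + 1) := by ring
    _ ≤ Nat.card C * Cyc.cO F u * 2 ^ (n + 1) := Nat.mul_le_mul_right _ h3
    _ = Nat.card C * 2 ^ (n + 1) * Cyc.cO F u := by ring
    _ ≤ _ := Nat.mul_le_mul_right _ h4

/-- linear groups -/
theorem cU_sq_le {ε g : A} (hε : Eps ε) : Cyc.cU g ^ 2 ≤ Cyc.cA g := by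
  have h1 : ∀ {ε x y : A}, Eps ε → Un x → Un y → ε * x = ε * y → x = y := fun {ε x y} hε hx hy e => by
    have h2 : ε * star x = ε * star y := by
      rw [← mul_one (ε * star x), ← hy.ms, ← hε.comm, mul_assoc, ← mul_assoc ε, ← e, ← mul_assoc, ← mul_assoc,
        hε.comm, mul_assoc ε, hx.sm, mul_one]
    have h3 := congrArg star h2
    rw [star_mul, star_mul, star_star, star_star, hε.st.comm, hε.st.comm] at h3
    rw [hε.split x, e, h3, ← hε.split]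
  rw [pow_two, Cyc.cU, ← Nat.card_prod]
  refine Nat.card_le_card_of_injective (fun x => ⟨ε * x.1 + star ε * x.2, by
    rw [add_mul, mul_add, mul_assoc, mul_assoc, x.1.2.2, x.2.2.2, ← mul_assoc, ← mul_assoc, ← mul_assoc, ← mul_assoc,
      hε.comm, hε.st.comm]⟩) fun x y e => ?_
  have h2 := congrArg (ε * ·) (Subtype.mk.inj e)
  have h3 := congrArg (star ε * ·) (Subtype.mk.inj e)
  simp only [mul_add, ← mul_assoc, hε.idem, hε.ms, hε.sm, hε.st.idem, zero_mul, add_zero, zero_add] at h2 h3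
  exact Prod.ext (Subtype.ext (h1 hε x.1.2.1 y.1.2.1 h2)) (Subtype.ext (h1 hε.st x.2.2.1 y.2.2.1 h3))

/-- the fifteen products -/
def bb (γ : Fin 5 → A) (m : Fin 3) (k : Fin 5) : A := ![γ k, γ k * γ (k + 1), γ k * γ (k + 2)] m

/-- the orbit sums -/
def sm (γ : Fin 5 → A) (m : Fin 3) : A := ∑ k, bb γ m k

/-- five anticommuting lifts -/
structure C5 (N : Subgroup (RingAut A)) (γ : Fin 5 → A) : Prop where
  lf : ∀ k, Lf N (γ k)
  sq : ∀ k, γ k * γ k = 1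
  anti : ∀ k l, k ≠ l → γ k * γ l = -(γ l * γ k)
  prod : γ 0 * γ 1 * γ 2 * γ 3 = γ 4
  gen : ∀ u, Lf N u → ∃ c ∈ Subring.center A, Un c ∧ (u = c ∨ ∃ m k, u = c * bb γ m k)

/-- `x` induces `f` -/
def Rl (γ : Fin 5 → A) (x : A) (f : Fin 5 → Fin 5) : Prop := Un x ∧ ∀ k, ad x (γ k) = γ (f k)

section rl

variable {γ : Fin 5 → A} {x y : A} {f f' : Fin 5 → Fin 5}

theorem Rl.mul (h : Rl γ x f) (h' : Rl γ y f') : Rl γ (x * y) (f ∘ f') :=
  ⟨h.1.mul h'.1, fun k => by rw [ad_mul h.1 h'.1, ra_mul, h'.2, h.2]; rfl⟩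

theorem Rl.st (h : Rl γ x f) (e : ∀ k, f (f' k) = k) : Rl γ (star x) f' :=
  ⟨h.1.st, fun k => by rw [ad_star h.1, ← congrArg γ (e k), ← h.2, ra_inv_apply]⟩

theorem Rl.congr (h : Rl γ x f) (e : ∀ k, f k = f' k) : Rl γ x f' := funext e ▸ h

theorem Rl.ad_bb (h : Rl γ x (· + 1)) (m : Fin 3) (k : Fin 5) : ad x (bb γ m k) = bb γ m (k + 1) := by
  fin_cases m <;> simp [bb, h.2, add_right_comm]

theorem Rl.comm_sm (h : Rl γ x (· + 1)) (m : Fin 3) : sm γ m * x = x * sm γ m := by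
  rw [eq_comm, ← ad_fix h.1, sm, map_sum]
  exact Fintype.sum_equiv (Equiv.addRight 1) _ _ (h.ad_bb m)

end rl

namespace C5

variable {N : Subgroup (RingAut A)} {γ : Fin 5 → A} (c : C5 N γ)
include c

theorem st (k : Fin 5) : star (γ k) = γ k := (c.lf k).1.star_eq (c.sq k)

theorem lf_bb (m : Fin 3) (k : Fin 5) : Lf N (bb γ m k) := by
  fin_cases m
  exacts [c.lf k, (c.lf k).mul (c.lf _), (c.lf k).mul (c.lf _)]

theorem sq2 {k l : Fin 5} (h : k ≠ l) : γ k * γ l * (γ k * γ l) = -1 := by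
  rw [mul_assoc, ← mul_assoc (γ l), c.anti l k h.symm, neg_mul, mul_assoc, c.sq, mul_one, mul_neg, c.sq]

theorem st_sm0 : star (sm γ 0) = sm γ 0 := by simp [sm, bb, c.st]

theorem st_sm1 : star (sm γ 1) = -sm γ 1 := by
  rw [sm, star_sum, ← Finset.sum_neg_distrib]
  exact Finset.sum_congr rfl fun k _ => star_of_sq (c.lf_bb 1 k).1 (c.sq2 (by revert k; decide))

theorem st_sm2 : star (sm γ 2) = -sm γ 2 := by
  rw [sm, star_sum, ← Finset.sum_neg_distrib]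
  exact Finset.sum_congr rfl fun k _ => star_of_sq (c.lf_bb 2 k).1 (c.sq2 (by revert k; decide))

theorem table : (sm γ 0 * sm γ 0 = 5 ∧ sm γ 1 * sm γ 1 = -5 + (sm γ 0 + sm γ 0) ∧ sm γ 2 * sm γ 2 = -5 - (sm γ 0 + sm γ 0)) ∧
    ∀ m m', sm γ m * sm γ m' = sm γ m' * sm γ m := by
  have h1 : ∀ k x, γ k * (γ k * x) = x := fun k x => by rw [← mul_assoc, c.sq, one_mul]
  have h2 : ∀ k l, k ≠ l → ∀ x, γ k * (γ l * x) = -(γ l * (γ k * x)) := fun k l h x => by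
    rw [← mul_assoc, c.anti k l h, neg_mul, mul_assoc]
  have e0 : sm γ 0 = γ 0 + γ 1 + γ 2 + γ 3 + γ 4 := Fin.sum_univ_five _
  have e1 : sm γ 1 = γ 0 * γ 1 + γ 1 * γ 2 + γ 2 * γ 3 + γ 3 * γ 4 + γ 4 * γ 0 := Fin.sum_univ_five _
  have e2 : sm γ 2 = γ 0 * γ 2 + γ 1 * γ 3 + γ 2 * γ 4 + γ 3 * γ 0 + γ 4 * γ 1 := Fin.sum_univ_five _
  have key : (sm γ 0 * sm γ 0 = 1 + 1 + 1 + 1 + 1 ∧ sm γ 1 * sm γ 1 = -(1 + 1 + 1 + 1 + 1) + (sm γ 0 + sm γ 0) ∧
      sm γ 2 * sm γ 2 = -(1 + 1 + 1 + 1 + 1) - (sm γ 0 + sm γ 0)) ∧ sm γ 0 * sm γ 1 = sm γ 1 * sm γ 0 ∧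
      sm γ 0 * sm γ 2 = sm γ 2 * sm γ 0 ∧ sm γ 1 * sm γ 2 = sm γ 2 * sm γ 1 := by
    rw [e0, e1, e2, ← c.prod]
    simp only [mul_add, add_mul, mul_assoc, mul_neg, neg_mul, neg_neg, mul_one, h1, c.sq, h2 1 0 (by decide),
      h2 2 0 (by decide), h2 3 0 (by decide), h2 2 1 (by decide), h2 3 1 (by decide), h2 3 2 (by decide),
      c.anti 1 0 (by decide), c.anti 2 0 (by decide), c.anti 3 0 (by decide), c.anti 2 1 (by decide),
      c.anti 3 1 (by decide), c.anti 3 2 (by decide)]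
    refine ⟨⟨?_, ?_, ?_⟩, ?_, ?_, ?_⟩ <;> abel
  rw [show (5 : A) = 1 + 1 + 1 + 1 + 1 by norm_num]
  refine ⟨key.1, fun m m' => ?_⟩
  fin_cases m <;> fin_cases m'
  exacts [rfl, key.2.1, key.2.2.1, key.2.1.symm, rfl, key.2.2.2, key.2.2.1.symm, key.2.2.2.symm, rfl]

variable {h : A} (hh : Hf h)
include hh

theorem rl_swap {i j k l : Fin 5} (h1 : i ≠ j) (h2 : k ≠ l) :
    Rl γ (h * ((γ i - γ j) * (γ k - γ l))) (Equiv.swap i j ∘ Equiv.swap k l) := by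
  have a1 : ∀ {i j}, i ≠ j → (γ i - γ j) * (γ i - γ j) = 1 + 1 := fun {i j} e => by
    rw [mul_sub, sub_mul, sub_mul, c.sq, c.sq, c.anti j i e.symm]
    abel
  have a2 : ∀ {i j}, i ≠ j → ∀ m, (γ i - γ j) * γ m = -(γ (Equiv.swap i j m) * (γ i - γ j)) := fun {i j} e m => by
    rw [mul_sub, sub_mul]
    by_cases e1 : m = i
    · rw [e1, Equiv.swap_apply_left, c.sq, c.sq, neg_sub]
    by_cases e2 : m = j
    · rw [e2, Equiv.swap_apply_right, c.sq, c.sq, neg_sub]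
    · rw [Equiv.swap_apply_of_ne_of_ne e1 e2, c.anti m i e1, c.anti m j e2]
      abel
  have a3 : Un (h * ((γ i - γ j) * (γ k - γ l))) := by
    rw [Un, star_mul, star_mul, hh.st, star_sub, star_sub, c.st, c.st, c.st, c.st, cen_comm hh.cen, mul_assoc, hh.out,
      mul_assoc, ← mul_assoc (γ k - γ l), a1 h2, add_mul 1 1, one_mul, mul_add, hh.dbl, a1 h1, hh.dbl]
  refine ⟨a3, fun m => ?_⟩
  rw [ad_apply a3, mul_assoc h, mul_assoc (γ i - γ j), a2 h2, mul_neg, ← mul_assoc (γ i - γ j), a2 h1, neg_mul, neg_neg,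
    mul_assoc (γ _), ← hh.out, mul_assoc, a3.ms, mul_one]
  rfl

theorem ne_comm [Nontrivial A] {k l : Fin 5} (e : k ≠ l) {φ : RingAut A} : φ (γ k) * φ (γ l) ≠ φ (γ l) * φ (γ k) := fun h1 => by
  rw [← map_mul, ← map_mul, φ.injective.eq_iff] at h1
  exact ((c.lf l).mul (c.lf k)).1.isUnit.ne_zero (hh.eq_zero (h1.symm.trans (c.anti k l e)))

theorem ad_inj [Nontrivial A] {k l : Fin 5} (e : ad (γ k) = ad (γ l)) : k = l := by
  by_contra h1
  exact c.ne_comm hh h1 (φ := 1) ((ad_fix (c.lf k).1).1 (e ▸ (ad_fix (c.lf l).1).2 rfl))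

omit hh

theorem comm_N {χ : RingAut A} (h : ∀ k, Commute χ (ad (γ k))) {F : FR A} {r : ℕ} (σ : Sit F N r) :
    ∀ ν ∈ N, χ * ν = ν * χ := fun ν hν => by
  obtain ⟨u, hu, rfl⟩ := σ.exists_lf hν
  obtain ⟨d, d1, d2, rfl | ⟨m, k, rfl⟩⟩ := c.gen u hu
  · rw [ad_cen d1, mul_one, one_mul]
  · rw [ad_mul d2 (c.lf_bb m k).1, ad_cen d1, one_mul]
    fin_cases m
    · exact h k
    all_goals exact (ad_mul (c.lf k).1 (c.lf _).1).symm ▸ (h k).mul_right (h _)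

variable {F : FR A} {r : ℕ} (σ : Sit F N r) {x y : A} {f : Fin 5 → Fin 5}
include σ

theorem norm (h : Rl γ x f) : ∀ ν ∈ N, ad x * ν * (ad x)⁻¹ ∈ N := fun ν hν => by
  obtain ⟨u, hu, rfl⟩ := σ.exists_lf hν
  obtain ⟨d, d1, d2, rfl | ⟨m, k, rfl⟩⟩ := c.gen u hu
  · rw [ad_cen d1, mul_one, mul_inv_cancel]
    exact N.one_mem
  · rw [ad_mul d2 (c.lf_bb m k).1, ad_cen d1, one_mul, conj_ad _ (c.lf_bb m k).1]
    fin_cases m
    · exact (h.2 k).symm ▸ (c.lf _).2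
    all_goals exact ((map_mul _ _ _).trans (congrArg₂ _ (h.2 k) (h.2 _))).symm ▸ ((c.lf _).mul (c.lf _)).2

theorem ad_one' (h : Rl γ x id) : ad x = 1 := (ad_eq_one_iff h.1).2 (σ.cen_of fun u hu => by
  obtain ⟨d, d1, -, rfl | ⟨m, k, rfl⟩⟩ := c.gen u hu
  · exact (cen_comm d1 x).symm
  have h1 : ∀ k, Commute (γ k) x := fun k => ((ad_fix h.1).1 (h.2 k)).symm
  refine (show Commute d x from (cen_comm d1 x).symm).mul_left ?_
  fin_cases m
  exacts [h1 k, (h1 k).mul_left (h1 _), (h1 k).mul_left (h1 _)])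

/-- **the centraliser** -/
theorem cen_g (hN : Nat.card N = 16) {g : A} (hg : Rl γ g (· + 1)) (hx : x * g = g * x) :
    ∃ a : Subring.center A × (Fin 3 → Subring.center A), x = a.1 + ∑ m, a.2 m * sm γ m := by
  let Φ : Subring.center A × (Fin 3 × Fin 5 → Subring.center A) → A := fun a => a.1 + ∑ p, a.2 p * bb γ p.1 p.2
  have h1 : Function.Surjective Φ := σ.ind (fun d d1 u hu => by
      obtain ⟨e, e1, -, rfl | ⟨m, k, rfl⟩⟩ := c.gen u hu
      · exact ⟨(⟨_, mul_mem d1 e1⟩, 0), by simp [Φ]⟩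
      · refine ⟨(0, Pi.single (m, k) ⟨_, mul_mem d1 e1⟩), ?_⟩
        simp only [Φ]
        rw [Finset.sum_eq_single (m, k) (fun p _ hp => by rw [Pi.single_eq_of_ne hp]; simp) (by simp), Pi.single_eq_same]
        simp [mul_assoc]) (by
    rintro _ _ ⟨a, rfl⟩ ⟨b, rfl⟩
    refine ⟨a + b, ?_⟩
    simp only [Φ, Prod.fst_add, Prod.snd_add, Pi.add_apply, Subring.coe_add, add_mul, Finset.sum_add_distrib]
    abel)
  have h2 := (h1.bijective_of_nat_card_le (by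
    rw [σ.card_eq, hN, Nat.card_prod, Nat.card_fun, ← pow_succ']; simp)).1
  obtain ⟨a, rfl⟩ := h1 x
  have h3 : ∀ z : Subring.center A, ad g z = z := fun z => (ad_fix hg.1).2 (cen_comm z.2 g)
  have h4 : Φ (a.1, fun p => a.2 (p.1, p.2 + 1)) = Φ a := (ad g).injective (by
    rw [(ad_fix hg.1).2 hx.symm]
    simp only [Φ, map_add, map_sum, map_mul, h3, hg.ad_bb]
    exact congrArg _ (Fintype.sum_equiv ((Equiv.refl _).prodCongr (Equiv.addRight 1)) _ _ fun _ => rfl))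
  have h5 : ∀ m k, a.2 (m, k + 1) = a.2 (m, k) := fun m k => congrFun (congrArg Prod.snd (h2 h4)) (m, k)
  refine ⟨(a.1, fun m => a.2 (m, 0)), congrArg ((a.1 : A) + ·) ?_⟩
  rw [Fintype.sum_prod_type]
  refine Finset.sum_congr rfl fun m _ => ?_
  rw [sm, Finset.mul_sum]
  refine Finset.sum_congr rfl fun k _ => congrArg (fun z : Subring.center A => z * bb γ m k) ?_
  fin_cases k
  exacts [rfl, h5 m 0, (h5 m 1).trans (h5 m 0), (h5 m 2).trans ((h5 m 1).trans (h5 m 0)), (h5 m 4).symm]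

theorem isCyc (hN : Nat.card N = 16) {g : A} (hg : Rl γ g (· + 1)) : Cyc.IsCyc g := fun x y hx hy => by
  obtain ⟨a, rfl⟩ := c.cen_g σ hN hg hx
  obtain ⟨b, rfl⟩ := c.cen_g σ hN hg hy
  have h1 : ∀ (z : Subring.center A) (v : A), Commute (z : A) v := fun z v => (cen_comm z.2 v).symm
  exact (h1 _ _).add_left ((h1 _ _).symm.add_right (Commute.sum_left _ _ _ fun m _ => Commute.sum_right _ _ _ fun m' _ =>
    (h1 _ _).mul_left ((h1 _ _).symm.mul_right (c.table.2 m m'))))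

theorem cA_le (hN : Nat.card N = 16) {g : A} (hg : Rl γ g (· + 1)) : Cyc.cA g ≤ Nat.card (Subring.center A) ^ 4 := by
  choose a ha using fun x : {x : A // x * g = g * x} => c.cen_g σ hN hg x.2
  refine (Nat.card_le_card_of_injective a fun x y e => Subtype.ext (by rw [ha x, ha y, e])).trans ?_
  rw [Nat.card_prod, Nat.card_fun, ← pow_succ']
  simp

end C5

end Cfsg.Agent.N2C.Ext
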