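import Cfsg.Agent.N2.D4m.Defs
import Cfsg.Agent.N2.C1.L
import Cfsg.Agent.N2.C1.U
import Cfsg.Agent.N2.Cl.Cyc.Ord

/-!
# N2, dimension four: the classes `pNS`, `pFix` (helper60)
-/

set_option autoImplicit false
set_option linter.unusedSectionVars false

namespace Cfsg.Agent.N2C.N4

open Cfsg Cfsg.Agent.DS.Cl Cfsg.Agent.DS.Cl.Fwd Module Submodule
open Cfsg.Agent.TH.Cl (KL KU KSp)
open Cfsg.Agent.TH.Cl.Cases (ns_max L_eq_LR tv_U)
open Cfsg.Agent.TH.Cl.Big (b_swap_zero det_qr)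
open Cfsg.Agent.SB.Tor (qr ap_qr tau_self)
open Cfsg.Agent.N2.C1

namespace FxD

variable {K V : Type} [Field K] [Fintype K] [AddCommGroup V] [Module K V] [Finite V] {h : HF K V} {F : FR h.EB}
  {q : ℕ} {H : Subgroup (RingAut h.EB)} {W : Submodule K V}

/-- a scalar of norm one which is not `1`, `-1` -/
theorem exists_mu (k : KU h F q) (hq : 2 ≤ q) : ∃ μ : K, μ * h.τ μ = 1 ∧ μ ≠ 1 ∧ μ ≠ -1 := by
  by_contra hcon
  push Not at hcon
  have := Cyc.nontrivial_of_dim (K := K) (V := V) (by have := k.dim; omega)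
  have h1 : Nat.card (Cyc.ZI F) ≤ Nat.card Bool := by
    classical
    refine Nat.card_le_card_of_injective (fun z => decide (z = 1)) fun z z' e => ?_
    have key : ∀ z : Cyc.ZI F, z ≠ 1 → z.1 = Cyc.scU h (-1) := fun z hz => by
      obtain ⟨c, h2, h3⟩ := Cyc.exists_sc_ZI z.2
      rw [h2, show c = -1 from Units.ext (hcon c h3 fun h4 => hz (Subtype.ext (by
        rw [h2, show c = 1 from Units.ext h4, map_one]; rfl)))]
    by_cases h2 : z = 1
    · rw [h2, eq_comm]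
      simpa [h2] using e
    · exact Subtype.ext ((key z h2).trans (key z' (by simpa [h2] using e)).symm)
  have h2 := Cyc.card_ZI_U k
  rw [Nat.card_eq_fintype_card (α := Bool), Fintype.card_bool] at h1
  omega

/-- `diag (μ, μ⁻¹, 1, …, 1)` -/
theorem exists_diag (k : KU h F q) (hq : 2 ≤ q) {x y : V} (hx : h.b x x ≠ 0) (hy : h.b y y ≠ 0) (hxy : h.b y x = 0) :
    ∃ μ κ κ' : K, μ ≠ 0 ∧ μ ≠ 1 ∧ μ ≠ -1 ∧ κ * h.b x x = 1 - μ ∧ κ' * h.b y y = 1 - μ⁻¹ ∧
      ∃ d ∈ (⁅F.Iso, F.Iso⁆ : Subgroup h.EBˣ), ∀ v, h.ap d v = v - (κ * h.b v x) • x - (κ' * h.b v y) • y := by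
  obtain ⟨μ, h1, h2, h3⟩ := exists_mu k hq
  have h0 : μ ≠ 0 := left_ne_zero_of_mul_eq_one h1
  have key : ∀ (ν : K) (v : V), ν * h.τ ν = 1 → h.b v v ≠ 0 → ∃ u ∈ F.Iso, (u : h.EB) = qr h ((1 - ν) / h.b v v) v :=
    fun ν v a1 a2 => tv_U k.u k.L (by
      rw [map_div₀, map_sub, map_one, tau_self k.u.1]
      field_simp
      linear_combination -a1)
  obtain ⟨r, hr, hr'⟩ := key μ x h1 hx
  obtain ⟨s, hs, hs'⟩ := key μ⁻¹ y (by rw [map_inv₀, ← mul_inv, h1, inv_one]) hy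
  refine ⟨μ, _, _, h0, h2, h3, div_mul_cancel₀ _ hx, div_mul_cancel₀ _ hy, r * s, k.mem_comm (mul_mem hr hs) ?_,
    fun v => ?_⟩
  · change LinearMap.det (h.ap r * h.ap s) = 1
    rw [map_mul, hr', hs', det_qr, det_qr, div_mul_cancel₀ _ hx, div_mul_cancel₀ _ hy, sub_sub_cancel, sub_sub_cancel,
      mul_inv_cancel₀ h0]
  · rw [Units.val_mul, h.ap_mul, hr', hs', ap_qr, ap_qr, h.sub_left, h.smul_left, hxy, mul_zero, sub_zero, sub_right_comm]

theorem eq_one_of_nl {T : End K V} {Y : Submodule K V} (n : Nl (T - 1) Y) {w : V} (hw : w ∈ Y) (h0 : w ≠ 0) {c : K}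
    (e : T w = c • w) : c = 1 := by
  obtain ⟨N, hN⟩ := n
  have h1 : ∀ m : ℕ, ((T - 1) ^ m) w = (c - 1) ^ m • w := fun m => by
    induction m with
    | zero => simp
    | succ m ih => rw [pow_succ', End.mul_apply, ih, map_smul, LinearMap.sub_apply, e, End.one_apply, pow_succ,
        mul_smul, sub_smul, one_smul]
  have h2 := hN w hw
  rw [h1, smul_eq_zero, or_iff_left h0] at h2
  exact sub_eq_zero.1 (eq_zero_of_pow_eq_zero h2)

/-- a non-singular point of `U₄(q)` -/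
theorem gd_pt (k : KU h F q) (hn : finrank K V = 4) (hq : 3 ≤ q) (f : Fx F H W) (h1 : finrank K W = 1) : Gd F H := by
  have d0 := f.nd.dim
  obtain ⟨x, hx, hxx⟩ := u_aniso k.u f.nd f.pos
  obtain ⟨y, hy, hyy⟩ := u_val k.u f.nd.perp (by omega) x
  have hyx : h.b y x = 0 := hy x hx
  have hy0 : h.b y y ≠ 0 := hyy ▸ neg_ne_zero.2 hxx
  have hs := b_add_self hyx hyy
  obtain ⟨I, ι, a1, a2, a3⟩ := orb_one (F := F) f.nd hx hy hxx hs (u_eich k hs)
  obtain ⟨μ, κ, κ', m0, m1, m2, e1, e2, d, hd, hd'⟩ := exists_diag k (by omega) hxx hy0 hyx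
  have o : K ∙ y ≤ pp h (K ∙ x) := (span_singleton_le_iff_mem _ _).2 (mem_pp_one.2 hyx)
  have nP : ND h (K ∙ x ⊔ K ∙ y) := (nd_one hxx).sup (nd_one hy0) (le_pp_comm o)
  have dP := (nd_one hxx).sup_dim o
  have d1 := nP.dim
  rw [finrank_span_singleton (ne_of_b hxx), finrank_span_singleton (ne_of_b hy0)] at dP
  obtain ⟨u, hu, r⟩ := u_rg k nP.perp (by omega)
  have px : x ∈ K ∙ x ⊔ K ∙ y := mem_sup_left (mem_span_singleton_self x)
  have py : y ∈ K ∙ x ⊔ K ∙ y := mem_sup_right (mem_span_singleton_self y)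
  have gx : h.ap (d * u : h.EBˣ) x = μ • x := by
    rw [Units.val_mul, h.ap_mul, r.fix x (le_pp_pp px), hd', e1, b_swap_zero hyx, mul_zero, zero_smul, sub_zero,
      sub_smul, one_smul, sub_sub_cancel]
  have gy : h.ap (d * u : h.EBˣ) y = μ⁻¹ • y := by
    rw [Units.val_mul, h.ap_mul, r.fix y (le_pp_pp py), hd', e2, hyx, mul_zero, zero_smul, sub_zero,
      sub_smul, one_smul, sub_sub_cancel]
  have iu := r.sb.iv.of_sub_one
  have gw : ∀ w ∈ pp h (K ∙ x ⊔ K ∙ y), h.ap (d * u : h.EBˣ) w = h.ap u w := fun w hw => by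
    rw [Units.val_mul, h.ap_mul, hd', iu w hw x px, iu w hw y py, mul_zero, mul_zero, zero_smul, zero_smul, sub_zero,
      sub_zero]
  have pt : ∀ {Z : Submodule K V} {z : V}, finrank K Z = 1 → z ∈ Z → z ≠ 0 → Z = K ∙ z := fun dZ hz z0 =>
    (eq_of_le_of_finrank_le ((span_singleton_le_iff_mem _ _).2 hz) (by rw [finrank_span_singleton z0, dZ])).symm
  refine f.gd (J := Fin 3) (mul_mem hd hu) (fun v hv => ?_)
    ![K ∙ x, K ∙ y, LinearMap.ker (h.ap u - 1) ⊓ pp h (K ∙ x ⊔ K ∙ y)] (fun Z _ dZ i => ?_) ι a1 a2 (le_trans ?_ a3)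
  · obtain ⟨c, rfl⟩ := mem_span_singleton.1 ((pt h1 hx (ne_of_b hxx)).le hv)
    rw [map_smul, gx]
    exact W.smul_mem _ (W.smul_mem _ hx)
  · rw [h1] at dZ
    obtain ⟨z, hz, z0⟩ := exists_mem_ne (X := Z) (by omega)
    obtain ⟨c, hc⟩ := mem_span_singleton.1 ((pt dZ hz z0).le (i z hz))
    obtain ⟨_, hv, w, hw, rfl⟩ := nP.split z
    obtain ⟨_, hv1, _, hv2, rfl⟩ := mem_sup.1 hv
    obtain ⟨a, rfl⟩ := mem_span_singleton.1 hv1
    obtain ⟨b, rfl⟩ := mem_span_singleton.1 hv2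
    rw [map_add, map_add, map_smul, map_smul, gx, gy, gw w hw] at hc
    have b1 := congrArg (h.b · x) hc
    have b2 := congrArg (h.b · y) hc
    simp only [h.add_left, h.smul_left, hyx, b_swap_zero hyx, hw x px, hw y py, iu w hw x px, iu w hw y py, mul_zero,
      add_zero, zero_add, ← mul_assoc, mul_left_inj' hxx, mul_left_inj' hy0] at b1 b2
    have b3 : h.ap u w = c • w := by
      rw [smul_add, smul_add, smul_smul, smul_smul, smul_smul, smul_smul, b1, b2, add_right_inj] at hc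
      exact hc.symm
    by_cases w0 : w = 0
    · subst w0
      by_cases a0 : a = 0
      · subst a0
        rw [zero_smul, zero_add, add_zero] at hz z0
        exact ⟨1, Or.inl ((pt dZ hz z0).trans (span_singleton_smul_eq (left_ne_zero_of_smul z0).isUnit y))⟩
      · have b0 : b = 0 := by
          by_contra b0
          have c1 : c = μ := mul_right_cancel₀ a0 (b1.trans (mul_comm _ _))
          have c2 : c = μ⁻¹ := mul_right_cancel₀ b0 (b2.trans (mul_comm _ _))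
          exact (mul_self_eq_one_iff.1 (by rw [← mul_inv_cancel₀ m0, ← c2, c1])).elim m1 m2
        subst b0
        rw [zero_smul, add_zero, add_zero] at hz z0
        exact ⟨0, Or.inl ((pt dZ hz z0).trans (span_singleton_smul_eq (left_ne_zero_of_smul z0).isUnit x))⟩
    · obtain rfl := eq_one_of_nl r.sb.nl hw w0 b3
      have a0 : a = 0 := by
        by_contra a0
        exact m1 (mul_left_cancel₀ a0 (by rw [← b1, mul_comm]))
      have b0 : b = 0 := by
        by_contra b0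
        exact m1 (inv_eq_one.1 (mul_left_cancel₀ b0 (by rw [← b2, mul_comm])))
      subst a0 b0
      rw [zero_smul, zero_smul, zero_add, zero_add] at hz
      refine ⟨2, Or.inl (eq_of_le_of_finrank_le ?_ (r.sb.ker.trans dZ.ge))⟩
      rw [pt dZ hz w0, span_singleton_le_iff_mem]
      exact ⟨sub_eq_zero.2 (b3.trans (one_smul _ _)), hw⟩
  · rw [hn, Nat.card_eq_fintype_card (α := K), k.card, Nat.card_eq_fintype_card, Fintype.card_fin]
    exact le_trans (by norm_num) (Nat.pow_le_pow_left (Nat.pow_le_pow_left hq 2) 2)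

end FxD

/-- **[NS]** -/
theorem ns : At pNS :=
  ⟨fun _ _ _ F _ _ _ _ _ h => (ns_max (L_eq_LR F) h).elim,
    fun _ _ _ _ _ _ _ _ _ _ _ _ k _ _ _ _ h => (ns_max k.L h).elim,
    fun _ _ _ _ _ _ _ _ _ _ _ k _ _ h => (ns_max k.sp.2.2 h).elim⟩

theorem fixL : AtL pFix := fun K _ _ F H p k _ c h => fixL3 K 4 F H p k (by omega) c h

theorem fixU : AtU pFix := fun K _ _ _ _ _ _ _ _ _ _ _ k hn hq _ c hD => by
  obtain ⟨W, f⟩ := exists_fx c hD
  by_cases h2 : 2 ≤ finrank K W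
  · exact gd_U k f (Or.inl h2)
  · exact FxD.gd_pt k hn hq f (by have := f.pos; omega)

theorem fixS : AtS pFix := AtS.of_on fixSp2

/-- **[Fix]** -/
theorem fix : At pFix := ⟨fixL, fixU, fixS⟩

end Cfsg.Agent.N2C.N4
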