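import Cfsg.Agent.N2.D4m.Defs
import Cfsg.Agent.N2.Cl.FldSp.Main

/-!
# N2 (S3519), `PSp₄(q)`, `q ≥ 4`: the class `pFld` (helper47)
-/

set_option autoImplicit false
set_option linter.unusedSectionVars false

namespace Cfsg.Agent.N2C.N4

open Cfsg.Agent.DS.Cl Cfsg.Agent.DS.Cl.Fwd Cfsg.Agent.SB.Cl Module
open Cfsg.Agent.TH.Cl (KSp)
open Cfsg.Agent.TH.Cl.FSO (FE SO)
open Cfsg.Agent.N2C.Fld (TR Pair Dat red)
open Cfsg.Agent.N2C.FldSp

namespace FldS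

theorem num2 {q i c : ℕ} (hq : 4 ≤ q) (hi : 2 * i ≤ 2) (c0 : 0 < c) (hc : c ≤ q ^ i + 1) : ¬ q ^ 2 - 1 ∣ 2 * c := fun h => by
  have h1 := Nat.le_of_dvd (by omega) h
  have h2 : q ^ i ≤ q ^ 1 := Nat.pow_le_pow_right (by omega) (by omega)
  have h3 : 4 * q ≤ q * q := Nat.mul_le_mul_right _ hq
  rw [pow_one] at h2
  rw [pow_two] at h1
  omega

theorem gen2 {K L : Type} [Field K] [Fintype K] [Field L] [Finite L] [Algebra K L] (hq : 4 ≤ Fintype.card K)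
    (hk : finrank K L = 2) : ∃ g : L, g ≠ 0 ∧ Algebra.adjoin K {((g, g⁻¹) : L × L) ^ 2} = ⊤ := by
  obtain ⟨g, g0, hg⟩ := exists_gen (K := K) (L := L)
  rw [hk] at hg
  refine ⟨g, g0, ?_⟩
  rw [Prod.pow_mk, inv_pow]
  refine adjoin_pair (eq_one_of (pow_ne_zero 2 g0) fun i i0 hi e => ?_) fun θ e => ?_
  · rw [← pow_mul, hg] at e
    exact num2 hq (hk ▸ hi) (Nat.sub_pos_of_lt (Nat.one_lt_pow i0.ne' (by omega))) (by omega) e
  have h1 : ∀ θ : L ≃ₐ[K] L, θ (g ^ 2) = (g ^ 2)⁻¹ → ∀ i, 2 * i ≤ finrank K L →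
      (∀ x, θ x = x ^ Fintype.card K ^ i) → False := fun θ e i hi h1 =>
    num2 hq (hk ▸ hi) (Nat.succ_pos _) le_rfl ((hg _).1 (by
      rw [pow_mul, pow_succ, ← h1, e, inv_mul_cancel₀ (pow_ne_zero 2 g0)]))
  obtain ⟨i, hi, h2 | h2⟩ := gal_half θ
  · exact h1 θ e i hi h2
  · exact h1 θ⁻¹ (θ.symm_apply_eq.2 (by rw [map_inv₀, e, inv_inv])) i hi h2

variable {K V : Type} [Field K] [Fintype K] [AddCommGroup V] [Module K V] [Finite V] {h : HF K V} {F : FR h.EB}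
  (o : KSp h F 2) (hq : 4 ≤ Fintype.card K)
include o hq

theorem ex_u {L : Type} [Field L] [Finite L] [Algebra K L] (m : MC h (L × L)) (hρ : ∀ x y, m.ρ (x, y) = (y, x))
    (hL : 2 * finrank K L = finrank K V) : ∃ u ∈ (⁅F.Iso, F.Iso⁆ : Subgroup h.EBˣ), (∀ y, m.j y * u = u * m.j y) ∧
      ∀ x, (u : h.EB) ^ 2 * x = x * (u : h.EB) ^ 2 → x ∈ m.j.range := by
  obtain ⟨g, g0, hg⟩ := gen2 (L := L) hq (by have := o.dim; omega)
  exact exists_u o m (by rw [hρ, Prod.mk_mul_mk, mul_inv_cancel₀ g0, inv_mul_cancel₀ g0]; rfl) hg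

variable [Nontrivial V] {H : Subgroup (RingAut h.EB)} {p : ℕ} (c : Ctx F H p)
include c

theorem pair {ε : h.EB} (P : Pair F H ε) : Gd F H := by
  obtain ⟨L, _, _, _, _, _, m, h1, h2, h3⟩ := exists_split (E := K) o.sp.1 P.idem P.add (map_smul (h.ap ε))
  obtain ⟨u, hu, h4, h5⟩ := ex_u o hq m h2 h1
  have h6 : m.j (1, 0) = ε := h.ap_ext fun v => by simpa using h3 1 v
  exact P.gd c hu (h6 ▸ (h4 _).symm) (m.tr_split h2) h5

theorem fld {E : Type} [Field E] [Fintype E] [DecidableEq E] [Algebra K E] [Module E V] [IsScalarTower K E V] {f : FE h E}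
    {l : h.EB} (d : Dat f F H l) : Gd F H := by
  have s := TH.Cl.FSO.KSp.so o
  have b1 := finrank_mul_finrank K E V
  rw [o.dim] at b1
  have b2 : finrank K E = 2 :=
    (Nat.prime_dvd_prime_iff_eq d.prime Nat.prime_two).1 ((d.prime.dvd_mul.1 (Dvd.intro _ b1)).elim id id)
  obtain ⟨ε, h1, h2, h3⟩ : ∃ ε : h.EB, ε * ε = ε ∧ ε + star ε = 1 ∧ ∀ (z : E) v, h.ap ε (z • v) = z • h.ap ε v := by
    rcases d.kind with ⟨-, θ, hθ⟩ | hσ
    · exact eps_herm f s (fun e => hθ (by rw [e]; rfl)) (m := 1) (by rw [b2] at b1; omega)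
    · exact eps_alt f hσ fun x => by rw [f.β_self s d.mem d.L, hσ, map_neg, map_one]; ring
  obtain ⟨L, _, _, _, _, _, m, a1, a2, a3⟩ := exists_split o.sp.1 h1 h2 h3
  obtain ⟨u, hu, a4, a5⟩ := ex_u o hq m a2 a1
  have a6 : ∀ z, m.j (algebraMap E L z, 0) = f.ι z * ε := fun z => h.ap_ext fun v => by rw [a3, h.ap_mul, f.ap_ι]
  have a7 : ∀ z, f.ι z * ε = ε * f.ι z := fun z => h.ap_ext fun v => by rw [h.ap_mul, h.ap_mul, f.ap_ι, f.ap_ι, h3]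
  refine d.gd s c hu (f.mem_C.2 fun z => ?_) (m.tr_split a2) (b2 ▸ a5)
  have a8 : f.ι z = m.j ((algebraMap E L z, 0) + m.ρ (algebraMap E L (f.σ z), 0)) := by
    rw [map_add, ← m.star_j, a6, a6, a7 (f.σ z), star_mul, f.star_ι, f.σ_σ, ← mul_add, h2, mul_one]
  rw [a8, a4]

end FldS

/-- **[N4-Fld]**, symplectic groups -/
theorem fldS : AtS pFld := fun K V _ _ _ _ _ h F H p o hq c hF => by
  have : Nontrivial V := Module.nontrivial_of_finrank_pos (R := K) (by rw [o.dim]; omega)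
  rcases red (TH.Cl.FSO.KSp.so o) c hF with ⟨ε, P⟩ | ⟨E, _, _, _, _, _, _, f, l, d⟩
  · exact FldS.pair o hq c P
  · exact FldS.fld o hq c d

end Cfsg.Agent.N2C.N4
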