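import Cfsg.Agent.N2.D4m.FldL
import Cfsg.Agent.N2.D4m.FldS
import Cfsg.Agent.N2.D4m.FixD
import Cfsg.Agent.N2.Cl.FldLU.ExU

/-!
# N2 (S3519), dimension four: the class `pFld` (helper47)
-/

set_option autoImplicit false

namespace Cfsg.Agent.N2C.N4

open Cfsg.Agent.DS.Cl Cfsg.Agent.DS.Cl.Fwd Cfsg.Agent.SB.C2 Cfsg.Agent.SB.Fld Cfsg.Agent.TH.Cl.Fld Module
open Cfsg.Agent.N2C.FldLU

/-- **[N4-Fld]**, unitary groups -/
theorem fldU : AtU pFld := by
  intro K V _ _ _ _ _ h F q H p k hn hq _ c hF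
  obtain ⟨hε, θ, hθ⟩ := k.u
  have u := luU h hθ
  have : Nontrivial V := Module.nontrivial_of_finrank_pos (R := K) (by omega)
  have a1 := card_C0 hθ
  have a2 : Nat.card (C0 h.EB) = q := Nat.pow_left_injective two_ne_zero
    (a1.symm.trans (Nat.card_eq_fintype_card.trans k.card))
  refine FldC.crit4 (e := q + 1) c hF u.θ_cen u.θ_unit (fun W r hW => hn ▸ ext_U hε hθ a1 hW.isF hW.le hW.sym) (by omega)
    q.succ_pos (by omega) (fun h2 _ => ?_) fun g hg => k.mem_comm (pow_mem (mem_Iso_max k.L hg) _) ?_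
  · obtain ⟨μ, b1, b2, b3⟩ := FxD.exists_mu k (by omega)
    have b4 : μ ^ 4 = 1 := by rwa [Cyc.tau_pow k.u k.card, ← a2, h2, ← pow_succ'] at b1
    refine ⟨h.eb (μ • 1), h.smul_mem_center μ, ?_, fun e => ?_, ?_⟩
    · rw [star_smul_one]
      exact (smul_mul_smul_comm μ (1 : End K V) _ 1).trans (by rw [b1, one_mul, one_smul]; rfl)
    · have b5 : μ ^ 2 = 1 := smul_left_injective K (one_ne_zero (α := End K V))
        (((smul_pow μ (1 : End K V) 2).trans (by rw [one_pow])).symm.trans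
          ((show (μ • (1 : End K V)) ^ 2 = 1 from e).trans (one_smul K _).symm))
      exact (mul_self_eq_one_iff.1 ((sq μ).symm.trans b5)).elim b2 b3
    · exact (smul_pow μ (1 : End K V) 4).trans (by rw [b4, one_pow, one_smul]; rfl)
  · rw [Units.val_pow_eq_pow_val]
    exact (map_pow LinearMap.det (h.ap g) _).trans (Cyc.det_pow_U k (mem_Iso_max k.L hg))

/-- **[N4-Fld]** -/
theorem fld : At pFld := ⟨fldL, fldU, fldS⟩

end Cfsg.Agent.N2C.N4
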