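import Cfsg.Agent.N2.Cl.FldLU.Crit

/-!
# N2 (S3519), `L₄(q)`, `U₄(q)`, `q ≥ 3`: the criterion for the class `pFld` (helper47, after `FldLU/Crit`)
-/

set_option autoImplicit false

namespace Cfsg.Agent.N2C.N4.FldC

open Cfsg.Agent.DS.Cl Cfsg.Agent.DS.Cl.Fwd Cfsg.Agent.SB.C2 Cfsg.Agent.SB.Fld Cfsg.Agent.TH.Cl.Fld
open Cfsg.Agent.N2C.FldLU
open scoped commutatorElement

theorem num4 {q r d e m o : ℕ} (hq : 3 ≤ q) (hr : r.Prime) (h1 : r ∣ 4) (h2 : d ∣ 4) (h3 : d < 4) (e0 : 0 < e)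
    (he : e ≤ q + 1) (m0 : 0 < m) (hm : m ≤ q ^ d + 1) (ho : q ^ 4 ≤ o + 1) (hd : o ∣ e * r * m) :
    q = 3 ∧ e = 4 ∧ r = 2 ∧ d = 2 ∧ o = 80 ∧ m = 10 := by
  obtain rfl : r = 2 := (Nat.prime_dvd_prime_iff_eq hr Nat.prime_two).1 (hr.dvd_of_dvd_pow (show r ∣ 2 ^ 2 from h1))
  have a1 := Nat.le_of_dvd (Nat.mul_pos (Nat.mul_pos e0 two_pos) m0) hd
  have a2 : d ≤ 2 := by
    by_contra a2
    obtain rfl : d = 3 := by omega
    omega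
  have a3 : q ^ d ≤ q ^ 2 := Nat.pow_le_pow_right (by omega) a2
  have a4 : e * 2 * m ≤ (q + 1) * 2 * (q ^ 2 + 1) := Nat.mul_le_mul (Nat.mul_le_mul_right 2 he) (by omega)
  obtain rfl : q = 3 := by
    by_contra a5
    obtain ⟨k, rfl⟩ : ∃ k, q = k + 4 := ⟨q - 4, by omega⟩
    have a6 : (k + 4) ^ 4 = (k + 4 + 1) * 2 * ((k + 4) ^ 2 + 1) + 1 + (k + 1) * (k + 4 + 1) * ((k + 4) ^ 2 + 1) := by ring
    have a7 : 0 < (k + 1) * (k + 4 + 1) * ((k + 4) ^ 2 + 1) := by positivity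
    omega
  have a5 : e * m ≤ 4 * m := Nat.mul_le_mul_right m he
  have a6 : e * m ≤ e * 10 := Nat.mul_le_mul_left e (by omega)
  rw [mul_right_comm] at a1
  obtain rfl : m = 10 := by omega
  obtain rfl : e = 4 := by omega
  refine ⟨rfl, rfl, rfl, ?_, by omega, rfl⟩
  interval_cases d <;> omega

variable {A : Type} [Ring A] [StarRing A] [Finite A] [Nontrivial A] {W Y : Subring A} {θ : A} {r e : ℕ}

/-- the generator -/
theorem gen4 (hθ : θ ∈ Subring.center A) (hu : IsUnit (θ - star θ)) (hW : SymF W r) (h : Ext θ W Y 4)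
    (h2 : 3 ≤ Nat.card (C0 A)) (e0 : 0 < e) (he : e ≤ Nat.card (C0 A) + 1)
    (hω : Nat.card (C0 A) = 3 → e = 4 → ∃ ω ∈ Subring.center A, ω * star ω = 1 ∧ ω ^ 2 ≠ 1 ∧ ω ^ 4 = 1) :
    ∃ t ∈ Zt Y θ, t * star t = 1 ∧ ∀ x, star x = x → t ^ (e * r) * x = x * t ^ (e * r) → x ∈ Y := by
  have hq := qd_of hθ hu h.isF h.sym (hW.le.trans h.le)
  obtain ⟨⟨t, t1, t2, t3⟩, hp⟩ := tor hq
  refine ⟨t, t1, t2, fun x x1 x2 => ?_⟩
  have inj : ∀ {a b : ℕ}, Nat.card (C0 A) ^ a = Nat.card (C0 A) ^ b → a = b := fun e =>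
    Nat.pow_right_injective (two_le_card (C0 A)) e
  let X : Subring A := Y ⊓ Subring.centralizer {x}
  have mX : ∀ {y}, y ∈ Y → y * x = x * y → y ∈ X := fun hy e => ⟨hy, by rintro _ rfl; exact e.symm⟩
  have X0 : C0 A ≤ X := fun y hy => mX (h.le (hW.le hy)) (cen_comm hy.1 x).symm
  by_cases hX : X = Y
  · exact hq.mem_of_sym (h.cent x fun y hy => ((hX.ge hy).2 x rfl).symm) x1
  exfalso
  obtain ⟨i, hi⟩ := exists_card_pow h.isF (inf_le_left : X ≤ Y)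
  obtain ⟨d, hd⟩ := exists_card_pow (isF_of_le h.isF inf_le_left) X0
  obtain ⟨j, hj⟩ := exists_card_pow h.isF h.le
  have a1 : 4 = d * i := inj (by rw [← h.card, hi, hd, pow_mul])
  have a2 : 4 = r * j := inj (by rw [← h.card, hj, hW.card, pow_mul])
  have a3 : d < 4 := lt_of_le_of_ne (Nat.le_of_dvd (by omega) ⟨i, a1⟩) fun e =>
    hX (eq_of_le_of_card inf_le_left (by rw [h.card, hd, e]))
  have uni : ∀ {u : A}, u * star u = 1 → ∀ k, u ^ k * star (u ^ k) = 1 := fun {u} e k => by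
    rw [star_pow, ← Commute.mul_pow (e.trans (mul_eq_one_comm.1 e).symm), e, one_pow]
  have key : ∀ v ∈ Zt Y θ, v * star v = 1 → v * x = x * v → ∃ m, 0 < m ∧ m ≤ Nat.card (C0 A) ^ d + 1 ∧ v ^ m = 1 :=
    fun v v1 v2 v3 => hd ▸ hp X inf_le_left v v1 v2 (mX (hq.trace_mem v1) (by
      have v4 := congrArg star v3
      rw [star_mul, star_mul, x1] at v4
      rw [add_mul, mul_add, v3, v4]))
  obtain ⟨m, m0, m1, m2⟩ := key _ (pow_mem t1 _) (uni t2 _) x2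
  obtain ⟨k, k0, -, k2⟩ := hp Y le_rfl t t1 t2 (hq.trace_mem t1)
  have o0 : 0 < orderOf t := (isOfFinOrder_iff_pow_eq_one.2 ⟨k, k0, k2⟩).orderOf_pos
  obtain ⟨b1, rfl, rfl, rfl, b5, rfl⟩ := num4 h2 hW.prime ⟨j, a2⟩ ⟨i, a1⟩ a3 e0 he m0 m1
    (h.card ▸ t3 _ o0 (pow_orderOf_eq_one t)) (orderOf_dvd_of_pow_eq_one (by rw [pow_mul, m2]))
  obtain ⟨ω, w1, w2, w3, w4⟩ := hω b1 rfl
  have w5 := h.cent ω fun y _ => cen_comm w1 y
  have w6 : Commute ω (t ^ (4 * 2)) := (cen_comm w1 _).symm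
  obtain ⟨l, l0, l1, l2⟩ := key _ (mul_mem w5 (pow_mem t1 (4 * 2)))
    (by rw [star_mul, mul_assoc, ← mul_assoc (t ^ _), uni t2, one_mul, w2])
    (by rw [mul_assoc, x2, ← mul_assoc, ← cen_comm w1, mul_assoc])
  have l3 : (ω * t ^ (4 * 2)) ^ (4 * l) = 1 := by rw [mul_comm 4 l, pow_mul, l2, one_pow]
  rw [w6.mul_pow, pow_mul, w4, one_pow, one_mul, ← pow_mul] at l3
  have l4 := orderOf_dvd_of_pow_eq_one l3
  rw [b1] at l1
  have l5 : (ω * t ^ (4 * 2)) ^ 10 = 1 := by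
    obtain rfl | rfl : l = 5 ∨ l = 10 := by rw [b5] at l4; omega
    · rw [show 10 = 5 * 2 from rfl, pow_mul, l2, one_pow]
    · exact l2
  rw [w6.mul_pow, m2, mul_one, show 10 = 4 * 2 + 2 from rfl, pow_add, pow_mul, w4, one_pow, one_mul] at l5
  exact w3 l5

omit [Nontrivial A] in
/-- **the criterion** -/
theorem crit4 {F : FR A} {H : Subgroup (RingAut A)} {p : ℕ} (c : Ctx F H p) (hF : TH.Cl.FldD H) (hθ : θ ∈ Subring.center A)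
    (hu : IsUnit (θ - star θ)) (h : ∀ W r, SymF W r → ∃ Y, Ext θ W Y 4) (h2 : 3 ≤ Nat.card (C0 A)) (e0 : 0 < e)
    (he : e ≤ Nat.card (C0 A) + 1)
    (hω : Nat.card (C0 A) = 3 → e = 4 → ∃ ω ∈ Subring.center A, ω * star ω = 1 ∧ ω ^ 2 ≠ 1 ∧ ω ^ 4 = 1)
    (hI : ∀ u : Aˣ, (u : A) * star (u : A) = 1 → u ^ e ∈ (⁅F.Iso, F.Iso⁆ : Subgroup Aˣ)) : Gd F H := by
  have := c.ss.nontrivial
  obtain ⟨W, r, hW, hH, hS, hr⟩ := Fld.red_LU c hθ hu hF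
  obtain ⟨Y, h⟩ := h W r hW
  obtain ⟨t, t1, t2, t3⟩ := gen4 hθ hu hW h h2 e0 he hω
  have hq := qd_of hθ hu h.isF h.sym (hW.le.trans h.le)
  refine Fld.gd_one c hH hS (hI (mkU t t2) t2) (fun x hx => ?_) hr fun s hs h1 w hw =>
    mem_of_pow h.isF h.le (t3 _ (by rw [← F.Aut_le_SAut (F.S_le_Aut hs), hW.sym w hw]) ?_)
      (by rw [← map_pow, pow_card hW.isF hw])
  · rw [Units.val_pow_eq_pow_val]
    exact hq.mul_comm _ (pow_mem t1 e) _ (le_Zt (h.le hx))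
  · have a1 := h1 w hw
    rwa [Units.val_pow_eq_pow_val, ← pow_mul] at a1

end Cfsg.Agent.N2C.N4.FldC
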