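import Cfsg.Agent.N2.D4m.Defs
import Cfsg.Agent.N2.D4m.FldC
import Cfsg.Agent.N2.Cl.FldLU.ExL

/-!
# N2 (S3519), `L₄(q)`, `q ≥ 3`: the class `pFld` (helper47)
-/

set_option autoImplicit false

namespace Cfsg.Agent.N2C.N4

open Cfsg.Agent.DS.Cl Cfsg.Agent.DS.Cl.Fwd Cfsg.Agent.SB.C2 Cfsg.Agent.SB.Fld Cfsg.Agent.TH.Cl.Fld Module
open Cfsg.Agent.N2C.FldLU

/-- **[N4-Fld]**, linear groups -/
theorem fldL : AtL pFld := by
  intro K _ _ F H p k hq c hF
  have h := luL (n := 4) (K := K)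
  have : Finite (LR (Fin 4) K) := inferInstanceAs (Finite (_ × _))
  have := c.ss.nontrivial
  have h1 := (ext_L h (isF_C0 c.ss) le_rfl fun _ hx => hx.2).1
  rw [Nat.card_eq_fintype_card (α := K)] at h1
  refine FldC.crit4 (e := Fintype.card K - 1) c hF h.θ_cen h.θ_unit
    (fun W r hW => by simpa using (ext_L h hW.isF hW.le hW.sym).2) (by omega) (by omega) (by omega) (by omega) fun u hu =>
      k.mem_comm (pow_mem (mem_Iso_max (F.L_eq h.c_cen h.c_add) hu) _) ?_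
  rw [Units.val_pow_eq_pow_val, map_pow, map_pow]
  exact FiniteField.pow_card_sub_one_eq_one _ (LinearMap.isUnit_det _ (u.isUnit.map (prL 4 K))).ne_zero

end Cfsg.Agent.N2C.N4
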