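import Cfsg.Agent.N2.D4m.Fr1L
import Cfsg.Agent.N2.D4m.Min

/-!
# N2, dimension four: frames of four points, unitary groups (helper60)

The element is `diag (α, β) ⊥ (e₃ ↦ e₄ ↦ c e₃)`; it fixes at most `q + 1` frames.
-/

set_option autoImplicit false
set_option linter.unusedSectionVars false

namespace Cfsg.Agent.N2C.N4

open Cfsg Cfsg.Agent.DS.Cl Cfsg.Agent.DS.Cl.Fwd Module Submodule
open Cfsg.Agent.TH.Cl (KU)
open Cfsg.Agent.TH.Cl.Big (iso_b exists_norm)
open Cfsg.Agent.SB.Tor (isoU isoU_ms tau_self ap_inv_ap)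
open Cfsg.Agent.SB.Fld (prU)
open Cfsg.Agent.N2.C1

namespace Fr1

section core

variable {K : Type} [Field K] (τ : K →+* K)

/-- the parameters -/
structure Par (α β c : K) : Prop where
  na : α * τ α = 1
  nb : β * τ β = 1
  nc : c * τ c = 1
  det : α * β * c = -1
  ab : α * α ≠ β * β
  tr : α * α + α * β + β * β ≠ 0
  ca : α * α ≠ c
  cb : β * β ≠ c

/-- the candidates -/
def G (t : K) : Fin 4 → Fin 4 → K := ![![1, 0, 0, 0], ![0, 1, 0, 0], ![0, 0, 1, t], ![0, 0, -τ t, 1]]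

variable {τ}

theorem par_of {ρ : K} (h1 : ρ * τ ρ = 1) (h2 : ρ ^ 2 ≠ 1) (h3 : ρ ^ 3 ≠ 1) : ∃ α β c, Par τ α β c := by
  have h0 : ρ ≠ 0 := left_ne_zero_of_mul_eq_one h1
  by_cases h4 : ρ ^ 3 = -1
  · refine ⟨ρ * ρ, ρ, 1, by rw [map_mul]; linear_combination (ρ * τ ρ + 1) * h1, h1, by simp, by linear_combination h4,
      fun e => h2 (mul_left_cancel₀ (mul_ne_zero h0 h0) (by linear_combination e)),
      fun e => h3 (mul_left_cancel₀ (mul_ne_zero h0 h0) (by linear_combination (ρ - 1) * e)),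
      fun e => h2 (by linear_combination (ρ - 1) * (ρ * h4 - e)), fun e => h2 (by linear_combination e)⟩
  · refine ⟨ρ, 1, -ρ⁻¹, h1, by simp, by rw [map_neg, map_inv₀, neg_mul_neg, ← mul_inv, h1, inv_one], by field_simp,
      fun e => h2 (by linear_combination e), fun e => h3 (by linear_combination (ρ - 1) * e),
      fun e => h4 (by linear_combination ρ * e - mul_inv_cancel₀ h0),
      fun e => h2 (by linear_combination (ρ - 1) * (ρ * e - mul_inv_cancel₀ h0))⟩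

theorem invol {π : Fin 4 → Fin 4} (hπ : Function.Injective π) {i j : Fin 4} (hij : i ≠ j) (hi : π i = i) (hj : π j = j)
    (k : Fin 4) : π (π k) = k := by
  by_cases h : π k = k
  · rw [h, h]
  have a1 := @hπ k i
  have a2 := @hπ k j
  have a3 := @hπ (π k) i
  have a4 := @hπ (π k) j
  have a5 := @hπ (π k) k
  have a6 : k ≠ i := fun e => h (e ▸ hi)
  have a7 : k ≠ j := fun e => h (e ▸ hj)
  rw [hi] at a1 a3
  rw [hj] at a2 a4
  omega

/-- the frames which are fixed -/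
theorem core {α β c t₀ : K} (P : Par τ α β c) (h₀ : ∀ t, c * t ^ 2 = 1 → t = t₀ ∨ t = -t₀)
    {x : Fin 4 → Fin 4 → K} {π : Fin 4 → Fin 4} {η : Fin 4 → K} (hπ : Function.Injective π)
    (hη : ∀ i, η i * τ (η i) = 1) (ho : ∀ i j, i ≠ j → ∑ l, x i l * τ (x j l) = 0)
    (h0 : ∀ i, α * x i 0 = η i * x (π i) 0) (h1 : ∀ i, β * x i 1 = η i * x (π i) 1)
    (h2 : ∀ i, c * x i 3 = η i * x (π i) 2) (h3 : ∀ i, x i 2 = η i * x (π i) 3)
    (ht : α + β = ∑ i, if π i = i then η i else 0) {i : Fin 4} (hi : x i 2 ≠ 0) :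
    ∃ t, (t = t₀ ∨ τ t = -c * t) ∧ ∀ j, ∃ m s, ∀ l, x j l = s * G τ t m l := by
  have pp : ∀ k, π (π k) = k := by
    by_cases a1 : ∃ i, π i = i
    · obtain ⟨i, a1⟩ := a1
      by_cases a2 : ∃ j, j ≠ i ∧ π j = j
      · obtain ⟨j, a2, a3⟩ := a2
        exact invol hπ a2 a3 a1
      · rw [Finset.sum_eq_single i (fun j _ a3 => if_neg fun a4 => a2 ⟨j, a3, a4⟩) (by simp), if_pos a1] at ht
        have a3 := hη i
        rw [← ht, map_add] at a3
        exact absurd (by linear_combination α * β * a3 - (α * β + β * β) * P.na - (α * β + α * α) * P.nb) P.tr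
    · rw [Finset.sum_eq_zero fun j _ => if_neg fun a4 => a1 ⟨j, a4⟩] at ht
      exact absurd (by linear_combination (α - β) * ht) P.ab
  have tri : ∀ j, (x j 1 = 0 ∧ x j 2 = 0 ∧ x j 3 = 0) ∨ (x j 0 = 0 ∧ x j 2 = 0 ∧ x j 3 = 0) ∨ (x j 0 = 0 ∧ x j 1 = 0) := by
    intro j
    have a0 := h0 (π j)
    have a1 := h1 (π j)
    have a2 := h2 (π j)
    have a3 := h3 (π j)
    rw [pp] at a0 a1 a2 a3
    have b0 : η j * η (π j) ≠ α * α → x j 0 = 0 := fun e => (mul_eq_zero.1 (show (η j * η (π j) - α * α) * x j 0 = 0 by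
      linear_combination -α * h0 j - η j * a0)).resolve_left (sub_ne_zero.2 e)
    have b1 : η j * η (π j) ≠ β * β → x j 1 = 0 := fun e => (mul_eq_zero.1 (show (η j * η (π j) - β * β) * x j 1 = 0 by
      linear_combination -β * h1 j - η j * a1)).resolve_left (sub_ne_zero.2 e)
    have b2 : η j * η (π j) ≠ c → x j 2 = 0 := fun e => (mul_eq_zero.1 (show (η j * η (π j) - c) * x j 2 = 0 by
      linear_combination -c * h3 j - η j * a2)).resolve_left (sub_ne_zero.2 e)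
    have b3 : η j * η (π j) ≠ c → x j 3 = 0 := fun e => (mul_eq_zero.1 (show (η j * η (π j) - c) * x j 3 = 0 by
      linear_combination -h2 j - η j * a3)).resolve_left (sub_ne_zero.2 e)
    by_cases e1 : η j * η (π j) = α * α
    · exact Or.inl ⟨b1 (e1 ▸ P.ab), b2 (e1 ▸ P.ca), b3 (e1 ▸ P.ca)⟩
    by_cases e2 : η j * η (π j) = β * β
    · exact Or.inr (Or.inl ⟨b0 e1, b2 (e2 ▸ P.cb), b3 (e2 ▸ P.cb)⟩)
    · exact Or.inr (Or.inr ⟨b0 e1, b1 e2⟩)
  obtain ⟨i0, i1⟩ : x i 0 = 0 ∧ x i 1 = 0 := ((tri i).resolve_left fun e => hi e.2.1).resolve_left fun e => hi e.2.1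
  obtain ⟨t, i3⟩ : ∃ t, x i 3 = x i 2 * t := ⟨x i 3 / x i 2, by field_simp⟩
  have hi' : τ (x i 2) ≠ 0 := (map_ne_zero τ).2 hi
  have or : ∀ j, j ≠ i → x j 2 = -(x j 3 * τ t) := fun j hj => by
    have a1 := ho j i hj
    rw [Fin.sum_univ_four, i0, i1, i3, map_zero, map_mul] at a1
    exact mul_left_cancel₀ hi' (by linear_combination a1)
  have key : ∀ t', (∀ s, ∃ m s', G τ t' m 0 = 0 ∧ G τ t' m 1 = 0 ∧ s = s' * G τ t' m 2 ∧ s * t = s' * G τ t' m 3) →
      (∀ s, ∃ m s', G τ t' m 0 = 0 ∧ G τ t' m 1 = 0 ∧ -(s * τ t) = s' * G τ t' m 2 ∧ s = s' * G τ t' m 3) →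
      ∀ j, ∃ m s, ∀ l, x j l = s * G τ t' m l := fun t' a1 a2 j => by
    rcases tri j with ⟨e1, e2, e3⟩ | ⟨e1, e2, e3⟩ | ⟨e1, e2⟩
    · exact ⟨0, x j 0, fun l => by fin_cases l <;> simp [G, e1, e2, e3]⟩
    · exact ⟨1, x j 1, fun l => by fin_cases l <;> simp [G, e1, e2, e3]⟩
    by_cases hj : j = i
    · obtain ⟨m, s, c0, c1, c2, c3⟩ := a1 (x i 2)
      exact ⟨m, s, fun l => by fin_cases l <;> simp [hj, i0, i1, i3, c0, c1, ← c2, ← c3]⟩
    · obtain ⟨m, s, c0, c1, c2, c3⟩ := a2 (x j 3)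
      exact ⟨m, s, fun l => by fin_cases l <;> simp [e1, e2, or j hj, c0, c1, ← c2, ← c3]⟩
  have k1 := key t (fun s => ⟨2, s, rfl, rfl, (mul_one s).symm, rfl⟩) fun s => ⟨3, s, rfl, rfl, (mul_neg _ _).symm,
    (mul_one s).symm⟩
  have η0 : η i ≠ 0 := left_ne_zero_of_mul_eq_one (hη i)
  have a2 := h2 i
  have a3 := h3 i
  by_cases hπi : π i = i
  · rw [hπi, i3] at a2 a3
    have a4 : η i * t = 1 := mul_left_cancel₀ hi (by linear_combination -a3)
    have a5 : c * t = η i := mul_left_cancel₀ hi (by linear_combination a2)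
    have a6 : t * τ t = 1 := by
      have a7 := congrArg τ a4
      rw [map_mul, map_one] at a7
      linear_combination -(t * τ t) * hη i + τ (η i) * τ t * a4 + a7
    rcases h₀ t (by linear_combination t * a5 + a4) with e | e
    · exact ⟨t, Or.inl e, k1⟩
    · refine ⟨t₀, Or.inl rfl, key t₀ (fun s => ⟨3, s * t, rfl, rfl, ?_, (mul_one _).symm⟩)
        fun s => ⟨2, -(s * τ t), rfl, rfl, (mul_one _).symm, ?_⟩⟩
      · change s = s * t * -τ t₀
        rw [← map_neg, ← e]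
        linear_combination -s * a6
      · change s = -(s * τ t) * t₀
        linear_combination -s * a6 + s * τ t * e
  · refine ⟨t, Or.inr (mul_left_cancel₀ hi ?_), k1⟩
    rw [or _ hπi, i3] at a2
    linear_combination a2 + τ t * a3

end core

variable {K V : Type} [Field K] [Fintype K] [AddCommGroup V] [Module K V] [Finite V] {h : HF K V} {F : FR h.EB} {q : ℕ}

theorem exists_par (k : KU h F q) (hq : 3 ≤ q) : ∃ α β c, Par h.τ α β c := by
  obtain ⟨ρ, hρ⟩ := IsCyclic.exists_ofOrder_eq_natCard (α := rootsOfUnity (q + 1) K)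
  rw [ClassicalGeometry.GUBasic.card_rootsOfUnity_eq k.card] at hρ
  have key : ∀ m, m ≠ 0 → m < q + 1 → ((ρ : Kˣ) : K) ^ m ≠ 1 := fun m a1 a2 e =>
    pow_ne_one_of_lt_orderOf a1 (hρ ▸ a2) (Subtype.ext (Units.ext e))
  exact par_of (ρ := (ρ : Kˣ)) (by rw [Cyc.tau_pow k.u k.card, ← pow_succ']; exact congrArg Units.val ρ.2)
    (key 2 (by omega) (by omega)) (key 3 (by omega) (by omega))

theorem card_T (k : KU h F q) (hq : 3 ≤ q) (c t₀ : K) : {t | t = t₀ ∨ h.τ t = -c * t}.ncard ≤ q + 1 := by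
  have h1 : (Polynomial.X ^ q + Polynomial.C c * Polynomial.X : Polynomial K).natDegree = q := by
    rw [Polynomial.natDegree_add_eq_left_of_natDegree_lt, Polynomial.natDegree_X_pow]
    rw [Polynomial.natDegree_X_pow]
    exact lt_of_le_of_lt ((Polynomial.natDegree_C_mul_le _ _).trans Polynomial.natDegree_X_le) (by omega)
  refine (Set.ncard_insert_le t₀ {t | h.τ t = -c * t}).trans (Nat.succ_le_succ (le_trans (Set.ncard_le_ncard
    (fun t ht => ?_)) (h1 ▸ Polynomial.ncard_rootSet_le _ K)))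
  rw [Polynomial.mem_rootSet_of_ne fun e => by rw [e, Polynomial.natDegree_zero] at h1; omega]
  have h2 : t ^ q = -c * t := (Cyc.tau_pow k.u k.card t).symm.trans ht
  simp [h2]

/-- an orthonormal basis adapted to the frame -/
theorem exists_onb (k : KU h F q) (hn : finrank K V = 4) {D : Finset h.EB} (hD : Fr D) (h2 : D.card ≠ 2)
    (hk : ∀ d ∈ D, ∀ d' ∈ D, SB.Cl.rk h d = SB.Cl.rk h d') : ∃ (ε : Fin 4 ≃ D) (b : Basis (Fin 4) K V),
      (∀ i v, h.ap (ε i) v = b.repr v i • b i) ∧ ∀ v w, h.b v w = ∑ l, b.repr v l * h.τ (b.repr w l) := by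
  have : Module.Finite K V := Module.Finite.of_finite
  obtain ⟨ε, b, -, hb⟩ := exists_b (prU h) hn hD h2 hk
  replace hb : ∀ i x, h.ap (ε i) (b x) = if i = x.2 then b x else 0 := hb
  have h1 : ∀ x y, x ≠ y → h.b (b x) (b y) = 0 := fun x y e => by
    have h3 := h.b_star (ε x.2) (b x) (b y)
    rw [hD.symm _ (ε _).2, hb, hb, if_pos rfl, if_neg fun e' => e (Prod.ext (Subsingleton.elim _ _) e'),
      h.zero_right] at h3
    exact h3.symm
  have h3 : ∀ x, h.b (b x) (b x) ≠ 0 := fun x e => b.ne_zero x (h.nondeg _ fun v =>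
    LinearMap.congr_fun (show h.lin (b x) = 0 from b.ext fun y => (em (y = x)).elim (fun e' => e' ▸ e) (h1 y x)) v)
  choose s hs using fun x => exists_norm k.u (h3 x) (map_one h.τ)
  have h4 : ∀ x, IsUnit (s x) := fun x => IsUnit.mk0 _ fun e => by
    have h5 := hs x
    rw [e, zero_smul, h.zero_left] at h5
    exact zero_ne_one h5
  obtain ⟨b', hb'⟩ : ∃ b' : Basis (Fin 4) K V, ∀ i, b' i = s (0, i) • b (0, i) :=
    ⟨(b.isUnitSMul h4).reindex (Equiv.uniqueProd _ _), fun i => by rw [Basis.reindex_apply, Basis.isUnitSMul_apply]; rfl⟩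
  have h5 : ∀ i j, h.b (b' i) (b' j) = if i = j then 1 else 0 := fun i j => by
    rw [hb', hb']
    split_ifs with e
    · rw [e, hs]
    · rw [h.smul_left, h.smul_right, h1 _ _ fun e' => e (congrArg Prod.snd e'), mul_zero, mul_zero]
  refine ⟨ε, b', fun i v => LinearMap.congr_fun (show h.ap (ε i) = (b'.coord i).smulRight (b' i) from b'.ext fun j => ?_) v,
    fun v w => ?_⟩
  · rw [LinearMap.smulRight_apply, Basis.coord_apply, Basis.repr_self, Finsupp.single_apply, hb' j, map_smul, hb]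
    split_ifs with e e' e'
    · rw [e, hb', one_smul]
    · exact absurd e.symm e'
    · exact absurd e'.symm e
    · rw [smul_zero, zero_smul]
  · conv_lhs => rw [← b'.sum_repr v, ← b'.sum_repr w]
    simp only [Fin.sum_univ_four, h.add_left, h.add_right, h.smul_left, h.smul_right, h5]
    simp [mul_comm]

end Fr1

open Fr1

/-- **[Fr]**, `U₄(q)` -/
theorem frU : AtU pFr := by
  rintro K V _ _ _ _ _ h F q H p k hn hq - c ⟨-, -, D, hD, hI, ht⟩
  by_cases h2 : D.card = 2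
  · exact fr2U k hn (by omega) c hD hI h2 ht
  have : Module.Finite K V := Module.Finite.of_finite
  have := Cyc.nontrivial_of_dim (K := K) (V := V) (by omega)
  obtain ⟨ε, b, hE, hf⟩ := exists_onb k hn hD h2 fun d hd e he => by
    obtain ⟨γ, hγ, rfl⟩ := ht e he d hd
    exact FrSp.rk_map (c.le_SAut hγ) e
  obtain ⟨α, β, z, P⟩ := exists_par k hq
  obtain ⟨t₀, h₀⟩ : ∃ t₀ : K, ∀ t, z * t ^ 2 = 1 → t = t₀ ∨ t = -t₀ := by
    by_cases h3 : ∃ t₀, z * t₀ ^ 2 = 1
    · obtain ⟨t₀, h3⟩ := h3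
      exact ⟨t₀, fun t h4 => sq_eq_sq_iff_eq_or_eq_neg.1
        (mul_left_cancel₀ (left_ne_zero_of_mul_eq_one h3) (h4.trans h3.symm))⟩
    · exact ⟨0, fun t h4 => absurd ⟨t, h4⟩ h3⟩
  obtain ⟨A, dA, tA, hA⟩ : ∃ A : End K V, LinearMap.det A = 1 ∧ LinearMap.trace K V A = α + β ∧
      ∀ v, b.repr (A v) 0 = α * b.repr v 0 ∧ b.repr (A v) 1 = β * b.repr v 1 ∧ b.repr (A v) 2 = z * b.repr v 3 ∧
        b.repr (A v) 3 = b.repr v 2 := by
    refine ⟨Matrix.toLin b b !![α, 0, 0, 0; 0, β, 0, 0; 0, 0, 0, z; 0, 0, 1, 0], ?_, ?_, fun v => ?_⟩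
    · rw [LinearMap.det_toLin, Matrix.det_succ_row_zero]
      simp [Fin.sum_univ_four, Matrix.det_fin_three, Fin.succAbove]
      linear_combination -P.det
    · rw [LinearMap.trace_eq_matrix_trace K b, LinearMap.toMatrix_toLin]
      simp [Matrix.trace, Fin.sum_univ_four]
    · simp [Matrix.toLin_apply, Matrix.mulVec, dotProduct, Fin.sum_univ_four]
  obtain ⟨a, ha, rfl⟩ : ∃ a ∈ F.Iso, h.ap (a : h.EBˣ) = A :=
    ⟨isoU h (h.eb A) fun v w => by
      rw [h.ap_eb, hf, hf, Fin.sum_univ_four, Fin.sum_univ_four, (hA v).1, (hA v).2.1, (hA v).2.2.1, (hA v).2.2.2,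
        (hA w).1, (hA w).2.1, (hA w).2.2.1, (hA w).2.2.2, map_mul, map_mul, map_mul]
      linear_combination (b.repr v 0 * h.τ (b.repr w 0)) * P.na + (b.repr v 1 * h.τ (b.repr w 1)) * P.nb +
        (b.repr v 3 * h.τ (b.repr w 3)) * P.nc, mem_Iso_max k.L (isoU_ms _ _ _), rfl⟩
  have hs : ∀ i, SI (ε i : h.EB) := fun i => ⟨hD.idem _ (ε i).2, hD.symm _ (ε i).2⟩
  have hmem : ∀ γ ∈ F.S, (∀ i, ∃ j, γ (ε i) = ε j) → γ ∈ H := fun γ hγ h3 =>
    c.mem_of_inv hI (FrSp.not_inv c hD) hγ fun x hx => by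
      obtain ⟨i, hi⟩ := ε.surjective ⟨x, hx⟩
      obtain ⟨j, hj⟩ := h3 i
      rw [show x = ε i from congrArg Subtype.val hi.symm, hj]
      exact (ε j).2
  have hu := TH.Cl.cj_mem_S (k.mem_comm ha dA)
  have hb : ∀ i, h.b (b i) (b i) = 1 := fun i => by rw [hf]; simp [Finsupp.single_apply]
  refine gd_of_count (fun s => Set.range fun i => rg h (s (ε i))) (fun s h3 t h4 e => hmem _ (mul_mem (inv_mem h3) h4)
    fun i => ?_) hu (hmem _ hu fun i => ⟨Equiv.swap 2 3 i, cj_eq_of_mul (h.ap_ext fun v => b.ext_elem fun l => ?_)⟩)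
    (Y := (fun t => Set.range fun m => K ∙ b.equivFun.symm (G h.τ t m)) '' {t | t = t₀ ∨ h.τ t = -z * t})
    (Set.toFinite _) (fun s h3 h4 => ?_) ((Set.ncard_image_le (Set.toFinite _)).trans (card_T k hq z t₀))
    (minU k hn (by omega) c.mi.ne_top le_rfl)
  · obtain ⟨j, hj⟩ := e.ge ⟨i, rfl⟩
    exact ⟨j, (congrArg (s⁻¹ ·) (((hs j).map (F.S_le_Aut h3)).rg_inj ((hs i).map (F.S_le_Aut h4)) hj)).symm.trans
      (ra_inv_apply s _)⟩
  · obtain ⟨a0, a1, a2, a3⟩ := hA v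
    obtain ⟨b0, b1, b2, b3⟩ := hA (b i)
    rw [h.ap_mul, h.ap_mul, hE, hE, map_smul]
    fin_cases i <;> fin_cases l <;> simp_all [Equiv.swap_apply_def, mul_comm]
  obtain ⟨u, hu', rfl⟩ := F.S_le_PI h3
  rw [← map_inv, ← map_mul, ← map_mul] at h4
  obtain ⟨g, hg⟩ : ∃ g, g = u⁻¹ * a * u := ⟨_, rfl⟩
  have hg' : g ∈ F.Iso := hg ▸ mul_mem (mul_mem (inv_mem hu') ha) hu'
  choose π hπ using fun i => ε.surjective ⟨_, hI _ (hg ▸ h4) _ (ε i).2⟩
  replace hπ : ∀ i, (ε (π i) : h.EB) = cj h.EB g (ε i) := fun i => congrArg Subtype.val (hπ i)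
  have hb' : ∀ i, h.ap (ε i) (b i) = b i := fun i => by rw [hE]; simp
  obtain ⟨η, e1⟩ : ∃ η : Fin 4 → K, ∀ i, h.ap g (b i) = η i • b (π i) := ⟨_, fun i => by
    rw [← hE, hπ, ← h.ap_mul, cj_mul_eq, h.ap_mul, hb']⟩
  have e2 : ∀ i l, b.repr (h.ap a (h.ap u (b i))) l = η i * b.repr (h.ap u (b (π i))) l := fun i l => by
    rw [← h.ap_mul, ← Units.val_mul, show a * u = u * g by rw [hg]; group, Units.val_mul, h.ap_mul, e1, map_smul,
      map_smul, Finsupp.smul_apply, smul_eq_mul]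
  obtain ⟨i, hi⟩ : ∃ i, b.repr (h.ap u (b i)) 2 ≠ 0 := by
    by_contra! h5
    have h6 := LinearMap.congr_fun (show (b.coord 2).comp (h.ap u) = 0 from b.ext h5) (h.ap (u⁻¹ : h.EBˣ) (b 2))
    rw [LinearMap.comp_apply, ← h.ap_mul, Units.mul_inv, h.ap_one] at h6
    simp at h6
  obtain ⟨t, h5, h6⟩ := core P h₀ (x := fun i l => b.repr (h.ap u (b i)) l) (π := π) (η := η)
    (fun i j e => ε.injective (Subtype.ext ((cj _ g).injective (by rw [← hπ, ← hπ, e]))))
    (fun i => by rw [← hb i, ← iso_b hg', e1, h.smul_left, h.smul_right, hb, mul_one])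
    (fun i j e => by rw [← hf, iso_b hu', hf]; simp [Finsupp.single_apply, e])
    (fun i => (hA _).1.symm.trans (e2 i 0)) (fun i => (hA _).2.1.symm.trans (e2 i 1))
    (fun i => (hA _).2.2.1.symm.trans (e2 i 2)) (fun i => (hA _).2.2.2.symm.trans (e2 i 3)) (by
      rw [← tA, show a = u * g * u⁻¹ by rw [hg]; group]
      refine (LinearMap.trace_conj K (h.ap g) u).trans ((LinearMap.trace_eq_matrix_trace K b _).trans
        (Finset.sum_congr rfl fun i _ => ?_))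
      rw [Matrix.diag_apply, LinearMap.toMatrix_apply, e1]
      simp [Finsupp.single_apply]) hi
  have e3 : ∀ i, rg h (cj h.EB u (ε i)) = K ∙ h.ap u (b i) := fun i => le_antisymm (by
      rintro _ ⟨w, rfl⟩
      rw [cj_apply, h.ap_mul, h.ap_mul, hE, map_smul]
      exact smul_mem _ _ (mem_span_singleton_self _))
    ((span_singleton_le_iff_mem _ _).2 ⟨h.ap u (b i), by rw [← h.ap_mul, cj_mul_eq, h.ap_mul, hb']⟩)
  refine ⟨t, h5, (Set.eq_of_subset_of_ncard_le ?_ ?_).symm⟩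
  · rintro _ ⟨j, rfl⟩
    obtain ⟨m, r, e⟩ := h6 j
    have e4 : h.ap u (b j) = r • b.equivFun.symm (G h.τ t m) := b.ext_elem fun l => by
      rw [e, map_smul, Finsupp.smul_apply, ← b.equivFun_apply, LinearEquiv.apply_symm_apply, smul_eq_mul]
    refine ⟨m, ((e3 j).trans (e4 ▸ span_singleton_smul_eq (IsUnit.mk0 r fun e5 => ?_) _)).symm⟩
    have e6 := iso_b hu' (b j) (b j)
    rw [hb, e4, e5, zero_smul, h.zero_left] at e6
    exact zero_ne_one e6
  · rw [Set.ncard_range_of_injective fun i j e => ε.injective (Subtype.ext ((cj _ u).injective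
      (((hs i).map (F.S_le_Aut h3)).rg_inj ((hs j).map (F.S_le_Aut h3)) e))), ← Set.ncard_univ]
    exact (congrArg _ Set.image_univ.symm).trans_le (Set.ncard_image_le (Set.toFinite _))

/-- **[Fr]** -/
theorem fr : At pFr := ⟨frL, frU, frS⟩

end Cfsg.Agent.N2C.N4
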