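import Cfsg.Agent.N2.D4m.Fr2

/-!
# N2, dimension four: frames of four points, linear groups (helper60)
-/

set_option autoImplicit false
set_option linter.unusedSectionVars false

namespace Cfsg.Agent.N2C.N4

open Cfsg Cfsg.Agent.DS.Cl Cfsg.Agent.DS.Cl.Fwd Module Submodule
open Cfsg.Agent.TH.Cl (KL)
open Cfsg.Agent.SB.Fld (prL)
open Cfsg.Agent.N2 (cn)
open FrL

namespace Fr1

/-- a frame with blocks of equal rank and not two blocks consists of four points -/
theorem exists_b {A K V : Type} [Ring A] [StarRing A] [Field K] [AddCommGroup V] [Module K V] [Module.Finite K V]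
    (π : A →+* End K V) (hn : finrank K V = 4) {D : Finset A} (hD : Fr D) (h2 : D.card ≠ 2)
    (hk : ∀ d ∈ D, ∀ d' ∈ D, finrank K (LinearMap.range (π d)) = finrank K (LinearMap.range (π d'))) :
    ∃ (ε : Fin 4 ≃ D) (b : Basis (Fin 1 × Fin 4) K V), (∀ i, finrank K (LinearMap.range (π (ε i))) = 1) ∧
      ∀ i x, π (ε i) (b x) = if i = x.2 then b x else 0 := by
  classical
  obtain ⟨t, ht, h3, ⟨ε⟩⟩ : ∃ t, 2 ≤ t ∧ t ≠ 2 ∧ Nonempty (Fin t ≃ D) := ⟨D.card, hD.two, h2, ⟨D.equivFin.symm⟩⟩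
  obtain ⟨k, h4⟩ : ∃ k, ∀ i, finrank K (LinearMap.range (π (ε i))) = k :=
    ⟨_, fun i => hk _ (ε i).2 _ (ε ⟨0, by omega⟩).2⟩
  obtain ⟨b, hb⟩ := exists_basis (E := fun i => π (ε i)) (fun i => by rw [← map_mul, hD.idem _ (ε i).2])
    (fun i j h => by
      rw [← map_mul, hD.orth _ (ε i).2 _ (ε j).2 fun e => h (ε.injective (Subtype.ext e)), map_zero])
    (by rw [← map_sum, ε.sum_comp fun d => (d : A), Finset.sum_coe_sort D fun d => d, hD.sum, map_one]) h4
  have h1 := finrank_eq_card_basis b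
  rw [hn, Fintype.card_prod, Fintype.card_fin, Fintype.card_fin] at h1
  obtain ⟨rfl, rfl⟩ : k = 1 ∧ t = 4 := by
    have := Nat.le_of_dvd four_pos (Dvd.intro_left k h1.symm)
    interval_cases t <;> omega
  exact ⟨ε, b, h4, hb⟩

variable {n : ℕ} {K : Type} [Field K] [Fintype K]

/-- the centraliser of a cyclic element is not a field -/
theorem cn_le_pred (a : GG n K) {v : Fin n → K}
    (h : span K (Set.range fun m : ℕ => ((a : End K (Fin n → K)) ^ m) v) = ⊤) {f g : End K (Fin n → K)}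
    (hf : f * a = a * f) (h0 : f ≠ 0) (hg : g ≠ 0) (hfg : f * g = 0) : cn a + 2 ≤ Fintype.card K ^ n := by
  have h1 : ∀ z z' : End K (Fin n → K), z * a = a * z → z' * a = a * z' → z v = z' v → z = z' := fun z z' hz hz' e =>
    LinearMap.ext_on_range h fun m => by
      rw [← End.mul_apply, ← End.mul_apply, (Commute.pow_right hz m).eq, (Commute.pow_right hz' m).eq, End.mul_apply,
        End.mul_apply, e]
  have h2 : ∀ z : Subgroup.centralizer ({a} : Set (GG n K)), (z.1 : End K (Fin n → K)) * a = a * z.1 := fun z =>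
    congrArg Units.val (Subgroup.mem_centralizer_singleton_iff.1 z.2)
  have h3 : ∀ z : GG n K, (z : End K (Fin n → K)) * g ≠ 0 := fun z e => hg ((Units.mul_right_eq_zero z).1 e)
  have := finite_GG (n := n) (K := K)
  rw [cn, add_assoc _ 1 1 |>.symm.trans rfl, ← Finite.card_option, ← Finite.card_option,
    show Fintype.card K ^ n = Nat.card (Fin n → K) by rw [Nat.card_fun, Nat.card_fin, Nat.card_eq_fintype_card]]
  refine Nat.card_le_card_of_injective (fun o => (o.elim 0 fun o' => o'.elim f fun z => z.1.1) v) ?_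
  rintro (_ | _ | z) (_ | _ | z') e
  · rfl
  · exact absurd (h1 _ _ (by simp) hf e).symm h0
  · exact absurd (by rw [← h1 0 _ (by simp) (h2 z') e, zero_mul]) (h3 z'.1)
  · exact absurd (h1 _ _ hf (by simp) e) h0
  · rfl
  · exact absurd (h1 _ _ hf (h2 z') e ▸ hfg) (h3 z'.1)
  · exact absurd (by rw [h1 _ 0 (h2 z) (by simp) e, zero_mul]) (h3 z.1)
  · exact absurd (h1 _ _ (h2 z) hf e ▸ hfg) (h3 z.1)
  · rw [show z = z' from Subtype.ext (Units.ext (h1 _ _ (h2 z) (h2 z') e))]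

theorem num {q : ℕ} (hq : 4 ≤ q) : (q ^ 4 - 1) ^ 3 * (Nat.factorial 4 * gN q 1 ^ 4) ≤ (q - 1) ^ 3 * gN q 4 := by
  obtain ⟨r, rfl⟩ : ∃ r, q = r + 1 := ⟨q - 1, by omega⟩
  obtain ⟨s, rfl⟩ : ∃ s, r = s + 3 := ⟨r - 3, by omega⟩
  have e : ∀ m, ∀ c, (s + 3 + 1) ^ m = c + 1 → (s + 3 + 1) ^ m - 1 = c := fun m c h => by omega
  rw [gN_succ, gN_succ, gN_succ, gN_succ, gN_succ, gN_zero, e 4 ((s + 3) * (s + 5) * (s ^ 2 + 8 * s + 17)) (by ring),
    e 3 ((s + 3) * (s ^ 2 + 9 * s + 21)) (by ring), e 2 ((s + 3) * (s + 5)) (by ring), e 1 (s + 3) (by ring),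
    Nat.add_sub_cancel]
  have h1 : 24 * (s + 5) * (s ^ 2 + 8 * s + 17) ^ 2 ≤ (s + 4) ^ 6 * (s ^ 2 + 9 * s + 21) := by
    ring_nf
    omega
  calc _ = (s + 3) ^ 7 * (s + 5) ^ 2 * (s ^ 2 + 8 * s + 17) * (24 * (s + 5) * (s ^ 2 + 8 * s + 17) ^ 2) := by
        rw [show Nat.factorial 4 = 24 from rfl]; ring
    _ ≤ _ := Nat.mul_le_mul_left _ h1
    _ = _ := by ring

end Fr1

open Fr1

/-- **[Fr]**, `L₄(q)` -/
theorem frL : AtL pFr := by
  rintro K _ _ F H p kl hq c ⟨-, -, D, hD, hI, ht⟩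
  by_cases h2 : D.card = 2
  · exact fr2L kl c hD hI h2 ht
  classical
  have := finite_GG (n := 4) (K := K)
  obtain ⟨ε, b, h4, hb⟩ := exists_b (prL 4 K) (finrank_fin_fun K) hD h2 fun d hd e he => by
    obtain ⟨γ, -, rfl⟩ := ht e he d hd
    exact rank_map (by omega) γ (hD.idem e he) (hD.symm e he) (hD.symm _ hd)
  let σ : Equiv.Perm (Fin 1 × Fin 4) := (Equiv.refl _).prodCongr (Equiv.addRight 1)
  have h1 : ∀ x, (σ x).2 = Equiv.addRight (1 : Fin 4) x.2 := fun _ => rfl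
  have h3 := span_mon b (σ := σ) (x := (0, 0)) (h := fun y => ⟨y.2, by revert y; decide⟩)
  obtain ⟨w, hw⟩ := exists_mon b σ 1
  have key : ∀ m, cn (mon b σ w) ≤ m → m ^ 3 * (Nat.factorial 4 * gN (Fintype.card K) 1 ^ 4) ≤
      (Fintype.card K - 1) ^ 3 * gN (Fintype.card K) 4 → Gd F H := fun m a1 a2 =>
    gd_of_GL kl (fun g hg => (mem_st hD ε g).trans ⟨c.mem_of_inv hI (FrSp.not_inv c hD) (mem_S kl hg), hI _⟩)
      (fun z => (exists_mon b σ z).elim fun w hw => ⟨_, mon_mem hb h1 w, Units.ext hw⟩) (mon_mem hb h1 w) (Units.ext hw) a1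
      ((Nat.mul_le_mul_left _ (card_st hb h4)).trans (card_GG (n := 4) (K := K) ▸ a2))
  by_cases h5 : 4 ≤ Fintype.card K
  · exact key _ (cn_le_of_cyclic _ (b.ne_zero _) (h3 w)) (num h5)
  have h6 : Fintype.card K = 3 := by omega
  refine key 79 ?_ (by rw [h6]; decide)
  obtain ⟨a, ha⟩ : ∃ a : End K (Fin 4 → K), a = mon b σ w := ⟨_, rfl⟩
  have a1 : ∀ j, a (b (0, j)) = (w (0, j + 1) : K) • b (0, j + 1) := fun j => ha ▸ mon_apply b σ w _
  have a2 : ∀ s r : K, a * a + s • a + r • 1 ≠ 0 := fun s r e => by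
    have a3 := congrArg (fun f : End K (Fin 4 → K) => b.repr (f (b (0, 0))) (0, 2)) e
    simp [a1] at a3
  have a3 : a * a * (a * a) = (∏ j, (w (0, j) : K)) • 1 := b.ext fun ⟨i, j⟩ => by
    obtain rfl : i = 0 := Subsingleton.elim _ _
    simp only [End.mul_apply, a1, map_smul, smul_smul, LinearMap.smul_apply, End.one_apply, Fin.prod_univ_four]
    fin_cases j <;> simp only [Fin.reduceFinMk, Fin.reduceAdd, Fin.isValue] <;> congr 1 <;> ring
  have a4 := FiniteField.pow_card_sub_one_eq_one (∏ j, (w (0, j) : K))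
    (Finset.prod_ne_zero_iff.2 fun j _ => (w _).ne_zero)
  have a5 : (3 : K) = 0 := by simpa [h6] using FiniteField.cast_card_eq_zero K
  have a6 : ∀ s r r' : K, r + r' = s * s → s * (r' - r) = 0 → r * r' = -∏ j, (w (0, j) : K) →
      cn (mon b σ w) ≤ 79 := fun s r r' e1 e2 e3 => by
    have a7 := cn_le_pred _ (h3 w) (f := a * a + s • a + r • 1) (g := a * a + (-s) • a + r' • 1)
      (by rw [← ha]; simp [add_mul, mul_add, mul_assoc]) (a2 _ _) (a2 _ _) (by
        calc _ = a * a * (a * a) + (r + r' - s * s) • (a * a) + (s * (r' - r)) • a + (r * r') • (1 : End K (Fin 4 → K)) := by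
              simp only [add_mul, mul_add, smul_mul_assoc, mul_smul_comm, mul_one, one_mul, mul_assoc]
              module
          _ = 0 := by rw [a3, e1, e2, e3, sub_self, zero_smul, zero_smul, add_zero, add_zero, ← add_smul,
            add_neg_cancel, zero_smul])
    rw [h6] at a7
    omega
  rw [h6] at a4
  rcases sq_eq_one_iff.1 a4 with e | e
  · exact a6 0 1 (-1) (by ring) (by ring) (by rw [e, one_mul])
  · exact a6 1 (-1) (-1) (by linear_combination -a5) (by ring) (by rw [e]; ring)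

end Cfsg.Agent.N2C.N4
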