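import Cfsg.Agent.N2.D4m.FixD
import Cfsg.Agent.N2.Cl.FrSp.Many
import Cfsg.Agent.N2.Cl.FrL.Main

/-!
# N2, dimension four: frames with two blocks (helper60)

The element is (no eigenvalue `1`, `-1`) ⊥ (Jordan block); its trace is not zero, so it does not interchange two blocks.
-/

set_option autoImplicit false
set_option linter.unusedSectionVars false

namespace Cfsg.Agent.N2C.N4

open Cfsg Cfsg.Agent.DS.Cl Cfsg.Agent.DS.Cl.Fwd Module Submodule
open Cfsg.Agent.TH.Cl (KL KU KSp)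
open Cfsg.Agent.TH.Cl.Big (b_swap_zero)
open Cfsg.Agent.SB.Fld (prL)
open Cfsg.Agent.N2.C1

namespace Fr2

section ring

variable {A : Type} [Ring A] [StarRing A] [Finite A] {F : FR A} {H : Subgroup (RingAut A)} {p : ℕ} {D : Finset A}

omit [Finite A] in
theorem exists_pair (hD : Fr D) (h2 : D.card = 2) : ∃ e, ∀ x, x ∈ D ↔ x = e ∨ x = 1 - e := by
  classical
  obtain ⟨e, e', hne, rfl⟩ := Finset.card_eq_two.1 h2
  have h1 := hD.sum
  rw [Finset.sum_pair hne] at h1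
  exact ⟨e, fun x => by rw [Finset.mem_insert, Finset.mem_singleton, eq_sub_of_add_eq' h1]⟩

/-- **two blocks**: the element fixes only one conjugate -/
theorem gd_two (c : Ctx F H p) (hD : Fr D) (hI : Inv H D) {e : A} (he : ∀ x, x ∈ D ↔ x = e ∨ x = 1 - e) {g : Aˣ}
    (hg : g ∈ (⁅F.Iso, F.Iso⁆ : Subgroup Aˣ)) (hge : (g : A) * e = e * g)
    (h1 : ∀ a ∈ F.Iso, (g : A) * cj A a e = cj A a e * g → cj A a e = e ∨ cj A a e = 1 - e)
    (h2 : ∀ a ∈ F.Iso, (g : A) * cj A a e ≠ (1 - cj A a e) * g) : Gd F H := by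
  have := SB.Cl.finiteRingAut (A := A)
  have hmem : ∀ γ ∈ F.S, (γ e = e ∨ γ e = 1 - e) → γ ∈ H := fun γ hγ h3 =>
    c.mem_of_inv hI (FrSp.not_inv c hD) hγ fun x hx => by
      rw [Finset.mem_coe, he] at hx ⊢
      rcases hx with rfl | rfl
      · exact h3
      · rw [map_sub, map_one]
        exact h3.elim (fun h6 => Or.inr (by rw [h6])) fun h6 => Or.inl (by rw [h6, sub_sub_cancel])
  have hu := TH.Cl.cj_mem_S hg
  refine N2.good_of_one (a := ⟨_, hu⟩) (hmem _ hu (Or.inl (cj_eq_self.2 hge))) (N2.fx_le_one fun t ht => ?_)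
  obtain ⟨a, ha, hat⟩ := F.S_le_PI t.2
  refine hmem t.1 t.2 ?_
  rw [← hat]
  rcases (he _).1 (hI _ ht e ((he e).2 (Or.inl rfl))) with h6 | h6
  · have h7 : cj A g (t.1 e) = t.1 e := (ra_apply_inv t.1 _).symm.trans (congrArg t.1 h6)
    rw [← hat] at h7
    exact h1 a ha (cj_eq_self.1 h7)
  · have h7 : cj A g (t.1 e) = 1 - t.1 e :=
      (ra_apply_inv t.1 _).symm.trans ((congrArg t.1 h6).trans (by rw [map_sub, map_one]))
    rw [← hat] at h7
    exact absurd (by rw [← h7, cj_mul_eq]) (h2 a ha)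

end ring

section lin

variable {K V : Type} [Field K] [AddCommGroup V] [Module K V] [FiniteDimensional K V]

theorem trace_swap {g E : End K V} (hE : E * E = E) (h : g * E = (1 - E) * g) : LinearMap.trace K V g = 0 := by
  have h1 : LinearMap.trace K V (g * E) = 0 := by
    rw [← hE, ← mul_assoc, LinearMap.trace_mul_comm, h, ← mul_assoc, mul_sub, mul_one, hE, sub_self, zero_mul, map_zero]
  have h2 : g = g * E + E * g := by rw [h, sub_mul, one_mul, sub_add_cancel]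
  rw [h2, map_add, LinearMap.trace_mul_comm K E, h1, add_zero]

theorem det_add_one (d : finrank K V = 2) (a : End K V) :
    LinearMap.det (a + 1) = LinearMap.det a + LinearMap.trace K V a + 1 := by
  let b := Module.finBasisOfFinrankEq K V d
  rw [← LinearMap.det_toMatrix b, ← LinearMap.det_toMatrix b, LinearMap.trace_eq_matrix_trace K b, map_add,
    LinearMap.toMatrix_one, Matrix.det_fin_two, Matrix.det_fin_two, Matrix.trace_fin_two]
  simp
  ring

theorem exists_elt [Finite K] {W Y : Submodule K V} (c : IsCompl W Y) (dW : finrank K W = 2) (dY : finrank K Y = 2) :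
    ∃ g : End K V, LinearMap.det g = 1 ∧ LinearMap.trace K V g ≠ 0 ∧ Iv g W ∧ Iv g Y ∧
      ∀ Z Z', IsCompl Z Z' → Iv g Z → Iv g Z' → finrank K Z = 2 → (Z = W ∧ Z' = Y) ∨ (Z' = W ∧ Z = Y) := by
  obtain ⟨a, da, ha⟩ := exists_free (K := K) (U := W) dW.ge
  obtain ⟨b, db, b1, b2⟩ := exists_jordan (K := K) (U := Y)
  obtain ⟨g, dg, tg, gw, gy⟩ : ∃ g : End K V, LinearMap.det g = LinearMap.det a * LinearMap.det b ∧
      LinearMap.trace K V g = LinearMap.trace K W a + LinearMap.trace K Y b ∧ (∀ w : W, g w = a w) ∧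
      ∀ y : Y, g y = b y := by
    refine ⟨(W.prodEquivOfIsCompl Y c).conj (a.prodMap b), ?_, ?_, fun w => ?_, fun y => ?_⟩
    · rw [← LinearMap.det_prodMap, ← LinearMap.det_conj _ (W.prodEquivOfIsCompl Y c)]
      rfl
    · rw [LinearMap.trace_conj', LinearMap.trace_prodMap']
    · simp [LinearEquiv.conj_apply]
    · simp [LinearEquiv.conj_apply]
  have i1 : Iv g W := fun v hv => gw ⟨v, hv⟩ ▸ (a ⟨v, hv⟩).2
  have i2 : Iv g Y := fun v hv => gy ⟨v, hv⟩ ▸ (b ⟨v, hv⟩).2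
  have s := sb_of_res gy b1 b2
  have p : Pm (g - 1) Y W := ⟨c.symm.sup_eq_top, s.iv, i1.sub_one, s.nl, fun v hv e => congrArg Subtype.val
    (ha 1 ⟨v, hv⟩ (by rw [one_smul]; exact Subtype.ext ((gw ⟨v, hv⟩).symm.trans (sub_eq_zero.1 e))))⟩
  refine ⟨g, by rw [dg, da, db, mul_one], fun h0 => ?_, i1, i2, fun Z Z' c' hZ hZ' d => ?_⟩
  · have t1 := (LinearMap.isNilpotent_trace_of_isNilpotent ⟨_, b1⟩).eq_zero
    rw [map_sub, LinearMap.trace_one, dY, sub_eq_zero] at t1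
    have t2 := det_add_one dW a
    rw [tg, t1] at h0
    have t3 : LinearMap.det (a + 1) = 0 := by
      rw [t2, da]
      push_cast at h0
      linear_combination h0
    refine LinearMap.det_eq_zero_iff_ker_ne_bot.1 t3 (eq_bot_iff.2 fun v hv => ha (-1) v ?_)
    rw [neg_one_smul]
    exact eq_neg_of_add_eq_zero_left hv
  · have h3 : cyc (g - 1) (0 : V) = ⊥ := by rw [cyc_of_zero (map_zero _), span_zero_singleton]
    have d1 := finrank_add_eq_of_isCompl c
    have d2 := finrank_add_eq_of_isCompl c'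
    obtain ⟨y, hy⟩ := p.uni s (x₀ := 0) (j := 0) (by rw [h3, bot_sup_eq]) (zero_add _).symm (by rw [h3, finrank_bot])
      (by omega) hZ.sub_one hZ'.sub_one c' (by omega) (by omega)
    rw [show (y : V) = 0 from y.2.1, add_zero, h3, bot_sup_eq] at hy
    rcases hy with rfl | rfl
    · exact Or.inl ⟨rfl, p.other hZ'.sub_one c'⟩
    · exact Or.inr ⟨rfl, p.other hZ.sub_one c'.symm⟩

end lin

end Fr2

open Fr2

/-- **two blocks**, `L₄(q)` -/
theorem fr2L {K : Type} [Field K] [Fintype K] {F : FR (LR (Fin 4) K)} {H : Subgroup (RingAut (LR (Fin 4) K))} {p : ℕ}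
    (k : KL F) (c : Ctx F H p) {D : Finset (LR (Fin 4) K)} (hD : Fr D) (hI : Inv H D) (h2 : D.card = 2)
    (ht : ∀ e ∈ D, ∀ e' ∈ D, ∃ γ ∈ H, γ e = e') : Gd F H := by
  have hψ : ∀ x y : LR (Fin 4) K, SI x → SI y → prL 4 K x = prL 4 K y → x = y := fun x y hx hy e =>
    sub_eq_zero.1 (TH.Cl.prL_sep _ (by rw [map_sub, e, sub_self]) (by rw [star_sub, hx.symm, hy.symm, map_sub, e, sub_self]))
  have hi : ∀ x : LR (Fin 4) K, SI x → prL 4 K x * prL 4 K x = prL 4 K x := fun x hx => by rw [← map_mul, hx.idem]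
  obtain ⟨e, hD'⟩ := exists_pair hD h2
  have m1 := (hD' e).2 (Or.inl rfl)
  have he : SI e := ⟨hD.idem e m1, hD.symm e m1⟩
  have c' := idem_compl (hi e he)
  have d := finrank_add_eq_of_isCompl c'
  obtain ⟨γ, -, hγ⟩ := ht e m1 _ ((hD' _).2 (Or.inr rfl))
  have d' := FrL.rank_map (by omega) γ he.idem he.symm (hγ ▸ he.compl.symm)
  rw [hγ, map_sub, map_one, (range_one_sub (hi e he)).1] at d'
  rw [finrank_fin_fun] at d
  obtain ⟨g, dg, tg, i1, i2, hg⟩ := exists_elt c' (by omega) (by omega)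
  obtain ⟨u, hu, rfl⟩ := k.exists_lift dg
  refine gd_two c hD hI hD' hu (TH.Cl.Big.comm_of_pi TH.Cl.prL_sep (FR.comm_le_Iso hu) he.symm
    (comm_of_iv (hi e he) i1 i2)) (fun a ha hc => ?_) fun a ha hc => tg (trace_swap (hi _ (he.map (FR.cj_mem_Aut ha)))
      (by rw [← map_mul, hc, map_mul, map_sub, map_one]))
  have hs := he.map (FR.cj_mem_Aut ha)
  obtain ⟨j1, j2⟩ := iv_of_comm (g := prL 4 K u) (E := prL 4 K (cj _ a e)) (by rw [← map_mul, hc, map_mul])
  rcases hg _ _ (idem_compl (hi _ hs)) j1 j2 ((finrank_cj _ a e).trans (by omega)) with ⟨a1, a2⟩ | ⟨a1, a2⟩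
  · exact Or.inl (hψ _ _ hs he (idem_ext (hi e he) (hi _ hs) a1 a2))
  · refine Or.inr (hψ _ _ hs he.compl (idem_ext (hi _ he.compl) (hi _ hs) ?_ ?_)) <;> rw [map_sub, map_one]
    · exact a2.trans (range_one_sub (hi _ he)).1.symm
    · exact a1.trans (range_one_sub (hi _ he)).2.symm

/-- **two blocks**, `U₄(q)` -/
theorem fr2U {K V : Type} [Field K] [Fintype K] [AddCommGroup V] [Module K V] [Finite V] {h : HF K V} {F : FR h.EB}
    {q : ℕ} {H : Subgroup (RingAut h.EB)} {p : ℕ} (k : KU h F q) (hn : finrank K V = 4) (hq : 2 ≤ q) (c : Ctx F H p)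
    {D : Finset h.EB} (hD : Fr D) (hI : Inv H D) (h2 : D.card = 2) (ht : ∀ e ∈ D, ∀ e' ∈ D, ∃ γ ∈ H, γ e = e') :
    Gd F H := by
  have : Module.Finite K V := Module.Finite.of_finite
  have := Cyc.nontrivial_of_dim (K := K) (V := V) (by omega)
  obtain ⟨e, hD'⟩ := exists_pair hD h2
  have m1 := (hD' e).2 (Or.inl rfl)
  have he : SI e := ⟨hD.idem e m1, hD.symm e m1⟩
  obtain ⟨γ, hγ', hγ⟩ := ht e m1 _ ((hD' _).2 (Or.inr rfl))
  have d' : finrank K (rg h (γ e)) = finrank K (rg h e) := FrSp.rk_map (c.le_SAut hγ') e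
  rw [hγ, ← he.pp_rg] at d'
  obtain ⟨W, hW⟩ : ∃ W, W = rg h e := ⟨_, rfl⟩
  have n : ND h W := hW ▸ he.nd
  have d := n.dim
  rw [← hW] at d'
  obtain ⟨x, hx, hxx⟩ := u_aniso k.u n (by omega)
  have hle := (span_singleton_le_iff_mem x W).2 hx
  have d1 := (nd_one hxx).rel_dim hle
  rw [finrank_span_singleton (ne_of_b hxx)] at d1
  obtain ⟨y, hy, hyy⟩ := u_aniso k.u (n.rel_nd (nd_one hxx) hle) (by omega)
  have hyx := mem_pp_one.1 hy.2
  have dP := (nd_one hxx).sup_dim ((span_singleton_le_iff_mem y _).2 hy.2)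
  rw [finrank_span_singleton (ne_of_b hxx), finrank_span_singleton (ne_of_b hyy)] at dP
  have hP : K ∙ x ⊔ K ∙ y = W :=
    eq_of_le_of_finrank_le (sup_le hle ((span_singleton_le_iff_mem y W).2 hy.1)) (by omega)
  obtain ⟨μ, κ, κ', m0, m1, m2, e1, e2, g, hg, hg'⟩ := FxD.exists_diag k hq hxx hyy hyx
  obtain ⟨z, hz, z0, hzz⟩ := u_iso k.u n.perp (by omega)
  obtain ⟨ν, hν, u, hu, hu'⟩ := u_tv k hzz
  have r := rg_two n.perp (by omega) hν hz z0 hzz hu'
  have g1 : ∀ v ∈ pp h W, h.ap g v = v := fun v hv => by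
    rw [hg', hv x hx, hv y hy.1, mul_zero, mul_zero, zero_smul, zero_smul, sub_zero, sub_zero]
  have g2 : Ij (h.ap g - 1) W := fun v hv e0 => by
    obtain ⟨_, hv1, _, hv2, rfl⟩ := mem_sup.1 (hP.ge hv)
    obtain ⟨a, rfl⟩ := mem_span_singleton.1 hv1
    obtain ⟨b, rfl⟩ := mem_span_singleton.1 hv2
    rw [LinearMap.sub_apply, End.one_apply, sub_eq_zero, hg', sub_sub, sub_eq_self] at e0
    have b1 := congrArg (h.b · x) e0
    have b2 := congrArg (h.b · y) e0
    simp only [h.add_left, h.smul_left, hyx, b_swap_zero hyx, mul_zero, add_zero, zero_add, h.zero_left] at b1 b2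
    have a0 : a = 0 := (mul_eq_zero.1 (show a * ((1 - μ) * h.b x x) = 0 by rw [← e1]; linear_combination b1)).resolve_right
      (mul_ne_zero (sub_ne_zero.2 m1.symm) hxx)
    have b0 : b = 0 := (mul_eq_zero.1 (show b * ((1 - μ⁻¹) * h.b y y) = 0 by rw [← e2]; linear_combination b2)).resolve_right
      (mul_ne_zero (sub_ne_zero.2 fun e3 => m1 (inv_eq_one.1 e3.symm)) hyy)
    rw [a0, b0, zero_smul, zero_smul, add_zero]
  have e3 : ∀ v ∈ W, h.ap (g * u : h.EBˣ) v = h.ap g v := fun v hv => by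
    rw [Units.val_mul, h.ap_mul, r.fix v (le_pp_pp hv)]
  have i1 : Iv (h.ap (g * u : h.EBˣ)) W := fun v hv => e3 v hv ▸ iv_of_fix (FR.comm_le_Iso hg) n g1 v hv
  have s : Sb (h.ap (g * u : h.EBˣ) - 1) (pp h W) := r.sb.congr one_ne_zero fun v hv => by
    rw [one_smul, LinearMap.sub_apply, LinearMap.sub_apply, Units.val_mul, h.ap_mul, g1 _ (r.sb.iv.of_sub_one v hv)]
  have pm : Pm (h.ap (g * u : h.EBˣ) - 1) (pp h W) W := ⟨n.compl.symm.sup_eq_top, s.iv, i1.sub_one', s.nl,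
    fun v hv e => g2 v hv (by rwa [LinearMap.sub_apply, e3 v hv] at e)⟩
  have h3 : cyc (h.ap (g * u : h.EBˣ) - 1) (0 : V) = ⊥ := by rw [cyc_of_zero (map_zero _), span_zero_singleton]
  have hI' := FR.comm_le_Iso (mul_mem hg hu)
  refine gd_two c hD hI hD' (mul_mem hg hu) ((he.iv_iff hI').2 (hW ▸ i1)) (fun a ha hc => ?_) fun a ha hc => ?_
  · have hs := he.map (FR.cj_mem_Aut ha)
    have i := (hs.iv_iff hI').1 hc
    have d2 := finrank_rg_cj a e
    have d3 := hs.nd.dim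
    rw [← hW] at d2
    obtain ⟨w, hw⟩ := pm.uni s (x₀ := 0) (j := 0) (by rw [h3, bot_sup_eq]) (zero_add _).symm (by rw [h3, finrank_bot])
      (by omega) i.sub_one' (iv_pp hI' i).sub_one' hs.nd.compl (by omega) (by omega)
    rw [show (w : V) = 0 from w.2.1, add_zero, h3, bot_sup_eq, hW, hs.pp_rg] at hw
    exact hw.imp (hs.rg_inj he) fun e4 => eq_sub_of_add_eq' (sub_eq_iff_eq_add.1 (hs.compl.rg_inj he e4)).symm
  · have t0 := trace_swap (g := h.ap (g * u : h.EBˣ)) (E := h.ap (cj h.EB a e)) (he.map (FR.cj_mem_Aut ha)).idem hc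
    have t1 : h.ap (g * u : h.EBˣ) = 1 - κ • h.ro x x - κ' • h.ro y y - ν • h.ro z z := LinearMap.ext fun v => by
      rw [Units.val_mul, h.ap_mul, hu', map_sub, map_smul, g1 z hz, hg']
      simp only [LinearMap.sub_apply, LinearMap.smul_apply, End.one_apply, h.ro_apply, mul_smul]
    have t2 : ∀ v, LinearMap.trace K V (h.ro v v) = h.b v v := fun v => LinearMap.trace_smulRight _ _
    rw [t1, map_sub, map_sub, map_sub, map_smul, map_smul, map_smul, t2, t2, t2, hzz, LinearMap.trace_one, hn, smul_zero,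
      smul_eq_mul, smul_eq_mul, e1, e2] at t0
    have t3 : (μ + 1) ^ 2 = 0 := by
      push_cast at t0
      linear_combination μ * t0 - mul_inv_cancel₀ m0
    exact m2 (eq_neg_of_add_eq_zero_left (pow_eq_zero_iff two_ne_zero |>.1 t3))

/-- **[Fr]**, `PSp₄(q)` -/
theorem frS : AtS pFr := fun _ _ _ _ _ _ _ _ _ _ _ k hq c ⟨_, _, _, hD, hI, ht⟩ => FrSp.fr k (Or.inr hq) c hD hI ht

end Cfsg.Agent.N2C.N4
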