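import Cfsg.Agent.N2.D4m.ResB
import Cfsg.Agent.H827.FourListB
import Cfsg.Agent.H921.SporCore
import Cfsg.Agent.H900.N4.UThree
import Cfsg.Agent.H541.IrrElement
import Cfsg.Agent.S5746

/-!
# N2, dimension four, class S: the linear and the unitary groups (helper85)
-/

set_option autoImplicit false
set_option linter.unusedSectionVars false

namespace Cfsg.Agent.N2C.N4

open Cfsg Cfsg.Geo Subgroup Module Matrix Cfsg.Agent.DS.Cl Cfsg.Agent.DS.Cl.Fwd Cfsg.Agent.H915.LD
open Cfsg.Agent.N2C.Cyc Cfsg.Agent.N2C.RX Cfsg.Agent.N2C.RX.R0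
open Cfsg.Agent.N2C.Res (Rep repL repH)
open Cfsg.Agent.TH.Cl (KL KU KSp)
open Cfsg.Agent.N2 (Cf)

namespace Rs

section core

variable {F : Type} [Field F] [Fintype F] {P : Subgroup (GL (Fin 4) F)}

theorem not_g24 (hC : Core P) (h : H912.Bd.IsG2 4 (H915.LD.Soc P)) : False := by
  obtain ⟨K, i1, i2, hK, ⟨e⟩⟩ := h
  obtain ⟨H, -, ⟨eH⟩, -⟩ := S5746.result hK
  have h7 : H921.Spor.Orb 7 6 (Cfsg.Lie.chevG2.group K) := (H921.Spor.J2.J2_seven.of_equiv' eH).of_sub
  have h5 : H921.Spor.Orb 5 6 (Cfsg.Lie.chevG2.group K) := (H921.Spor.J2.J2_five.of_equiv' eH).of_sub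
  have := H921.Spor.core_le hC e (m := 6) (bad := [2])
    (H921.Spor.Pr2.mk' 7 5 h7 h5 (by norm_num) (by norm_num) (by norm_num)) (by
      intro r hr hb hd
      apply hb
      rw [List.mem_singleton]
      exact (Nat.prime_dvd_prime_iff_eq hr Nat.prime_two).1 (hr.dvd_of_dvd_pow (show r ∣ 2 ^ 2 from hd)))
  omega

/-- the list in degree four -/
theorem out_of (cf : Cf) (p : ℕ) [Fact p.Prime] [CharP F p] (hC : Core P) : H900.N4.Out p P := by
  have := hC.simple
  refine H900.N4.core_four hC p ?_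
  rcases H827.FourList.four_list' (p := p) P hC.perfect (MulEquiv.refl (H915.LD.Soc P)) (cf _) hC.nonabelian with
    h | h | ⟨h2, h⟩ | ⟨-, h⟩ | h
  · unfold H827.FourList.Small4 at h
    unfold H900.N4.Four
    tauto
  · exact Or.inr (Or.inr (Or.inr (Or.inr (Or.inr (Or.inr h)))))
  · exact (not_g24 hC h).elim
  · exact (H921.Spor.core_four hC (Or.inr h)).elim
  · exact (H921.Spor.core_four hC (Or.inl h)).elim

end core

theorem psu_big {K : Type} [Field K] [Fintype K] {m p a b T : ℕ} (hp : p.Prime) (hK : Fintype.card K = (p ^ b) ^ 2)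
    (hm : m = 4 ∨ m = 5) (ha : 0 < a) (hab : a ≤ b) (hT : Nat.gcd 4 (p ^ a + 1) * ((p ^ a + 1) * T) = oGU 4 (p ^ a)) :
    T ≤ Nat.card (PSU m K (p ^ b)) := by
  have h1 : _ = oGU m (p ^ b) := S0280.result hK m (by omega)
  have h2 : 2 ≤ p ^ a := Nat.one_lt_pow ha.ne' hp.one_lt
  by_cases h : m = 4 ∧ a = b
  · obtain ⟨rfl, rfl⟩ := h
    exact (Nat.eq_of_mul_eq_mul_left (Nat.succ_pos _) (Nat.eq_of_mul_eq_mul_left (Nat.gcd_pos_of_pos_left _ four_pos)
      (hT.trans h1.symm))).le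
  have h3 : p ^ a ≤ p ^ b := Nat.pow_le_pow_right hp.pos hab
  have h4 := oGU_ge (h2.trans h3) (n := m) (by omega)
  have h5 := oGU_le (q := p ^ a) (by omega) (n := 4) (by omega)
  rw [← h1, mul_assoc, mul_left_comm (Nat.gcd _ _)] at h4
  rw [← hT, mul_left_comm] at h5
  have h6 := (Nat.le_mul_of_pos_left T (Nat.gcd_pos_of_pos_left _ four_pos)).trans (Nat.le_of_mul_le_mul_left h5 (Nat.succ_pos _))
  have h7 := (Nat.le_of_mul_le_mul_left h4 (Nat.succ_pos _)).trans (Nat.mul_le_mul_right _ (Nat.gcd_le_left _ (by omega)))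
  refine h6.trans (Nat.le_of_mul_le_mul_left (le_trans ?_ h7) (by omega))
  have h8 : 1 ≤ (p ^ b) ^ 2 - 1 := by have := Nat.pow_le_pow_left (h2.trans h3) 2; omega
  rcases hm with rfl | rfl
  · have h9 : 2 * p ^ a ≤ p ^ b := by
      calc _ ≤ p ^ (a + 1) := by rw [pow_succ']; exact Nat.mul_le_mul_right _ hp.two_le
        _ ≤ _ := Nat.pow_le_pow_right hp.pos (by omega)
    have h10 : (p ^ a) ^ 2 ≤ (p ^ b) ^ 2 - 1 := by
      have := Nat.pow_le_pow_left h9 2
      rw [mul_pow] at this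
      have := Nat.pow_le_pow_left h2 2
      omega
    calc _ ≤ 2 ^ 13 * (p ^ a) ^ 15 := Nat.mul_le_mul (by norm_num) le_rfl
      _ = (p ^ a) ^ 2 * (2 * p ^ a) ^ 13 := by ring
      _ ≤ _ := Nat.mul_le_mul h10 (Nat.pow_le_pow_left h9 13)
  · calc _ ≤ 1 * (2 ^ 7 * (p ^ a) ^ 15) := by rw [one_mul]; exact Nat.mul_le_mul (by norm_num) le_rfl
      _ ≤ 1 * ((p ^ b) ^ 7 * (p ^ b) ^ 15) := by gcongr; exact h2.trans h3
      _ ≤ _ := by rw [← pow_add]; exact Nat.mul_le_mul h8 le_rfl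

end Rs

open Rs

/-- **class S in `L₄(q)`** -/
theorem resL : AtL pRes4 := by
  rintro K _ _ F H p k hq c ⟨-, -, -, N, r⟩
  have := Fact.mk c.prime
  have := Res.charP_L four_pos c
  have := finAut (A := LR (Fin 4) K)
  have := r.simple
  have hC := (repL F four_pos).core c.span r
  obtain ⟨e, -⟩ := (repL F four_pos).exists_soc c.span r
  have S := semiL four_pos c r
  have hT := card_S_L k
  have seven : ∀ o, Dat N 7 2 o → o ≤ 2520 → p ≠ 7 → Gd F H := fun o D ho h7 => by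
    obtain ⟨g, hg⟩ := D.ex
    exact D.gd r (by norm_num) hg ord27 (κ := 59) (by omega) (arL hT (semi_le (.inl rfl) (by omega) S (by norm_num) (by norm_num)
      h7.symm hg (D.cj g hg) (by decide) (by decide) (.inl (by decide))) (.inl ⟨hq, le_rfl⟩))
  rcases out_of c.cf p hC with h | ⟨⟨f⟩, h1, h⟩ | ⟨-, -, h⟩ | ⟨⟨f⟩, -, h7⟩ | ⟨⟨K', _, _, hK, ⟨f⟩⟩, h1, h⟩ | ⟨-, -, h⟩ | ⟨-, -, h⟩ |
    h | ⟨K', _, _, _, m, q₀, a1, -, -, -, -, h⟩
  · exact (Res.not_sd_L four_pos r h).elim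
  · exact seven _ (dat_a7 (e.symm.trans f)) le_rfl (by omega)
  · exact (Res.not_cj_L four_pos r p 1 (by rwa [pow_one])).elim
  · exact seven _ (dat_l7 (e.symm.trans f)) (by norm_num) h7
  · have D := dat_u42 hK (e.symm.trans f)
    obtain ⟨g, hg⟩ := D.ex
    have h2 := hC.card_eq p h
    exact D.gd r (by norm_num) hg ord25 (κ := 208) (by norm_num) (arL hT (semi_le (.inl rfl) (by omega) S (by norm_num)
      le_rfl (by omega) hg (D.cj g hg) (by decide) (by decide) (.inl (by decide))) (.inr ⟨by omega, le_rfl⟩))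
  · exact (Res.not_cj_L four_pos r p 1 (by rwa [pow_one])).elim
  · exact (Res.not_cj_L four_pos r p 1 (by rwa [pow_one])).elim
  · exact (Res.ne_sl four_pos k.dim c r h).elim
  · obtain ⟨b, rfl⟩ := H905.Md.exists_pow_of_card p a1
    exact (Res.not_cj_L four_pos r p b h).elim

/-- **class S in `U₄(q)`** -/
theorem resU : AtU pRes4 := by
  rintro K V _ _ _ _ _ h F q H p k hn hq h3 c ⟨-, -, -, N, r⟩
  have := Fact.mk c.prime
  have : Module.Finite K V := Module.Finite.of_finite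
  let b := finBasisOfFinrankEq K V hn
  have := Res.charP_H h F b four_pos c
  have := finAut (A := h.EB)
  have := r.simple
  have hC := (repH h F b four_pos).core c.span r
  obtain ⟨e, -⟩ := (repH h F b four_pos).exists_soc c.span r
  have S := semiU k c r
  have hT := card_S_U k
  have hsd := Res.not_sd_U b four_pos k.u r
  rw [hn] at S hT
  have big : ∀ s, s = 5 ∨ s = 7 → s ∣ Nat.card N → 4 ≤ q := fun s hs h1 => by
    have h2 := h1.trans (Res.card_N_dvd_B r)
    rw [card_sub] at h2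
    by_contra h4
    rcases hs with rfl | rfl
    exacts [(h3 (by omega)).1 h2, (h3 (by omega)).2 h2]
  have seven : ∀ o, Dat N 7 2 o → o ≤ 2520 → p ≠ 7 → Gd F H := fun o D ho h7 => by
    obtain ⟨g, hg⟩ := D.ex
    exact D.gd r (by norm_num) hg ord27 (κ := 59) (by omega) (arU hT (semi_le (.inr (.inl rfl)) (by omega) S (by norm_num)
      (by norm_num) h7.symm hg (D.cj g hg) (by decide) (by decide) (.inl (by decide)))
      (.inl ⟨big 7 (.inr rfl) (hg ▸ orderOf_dvd_natCard g), le_rfl⟩))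
  rcases out_of c.cf p hC with t | ⟨-, -, t⟩ | ⟨⟨f⟩, h1, -⟩ | ⟨⟨f⟩, -, h7⟩ | ⟨-, -, t⟩ | ⟨⟨K', _, _, hK, ⟨f⟩⟩, h1, t⟩ |
    ⟨⟨K', _, _, hK, ⟨f⟩⟩, h1, t⟩ | t | ⟨K', _, _, _, m, q₀, a1, a2, a3, a4, ⟨f⟩, t⟩
  · exact (hsd t).elim
  · exact (not_fr_of_card hC p k.card t).elim
  · exact seven _ (dat_a7 (e.symm.trans f)) le_rfl (by omega)
  · exact seven _ (dat_l7 (e.symm.trans f)) (by norm_num) h7
  · exact (not_fr_of_card hC p k.card t).elim
  · have D := dat_u42 hK (e.symm.trans f)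
    obtain ⟨g, hg⟩ := D.ex
    obtain rfl := q_eq_of_cj hC p k.card t
    refine D.gd r (by norm_num) hg ord25 (κ := 208) (by norm_num) (arU hT ?_ (.inr ⟨by omega, le_rfl⟩))
    by_cases h5 : q = 5
    · subst h5
      obtain ⟨u, u1, u2, -, u3⟩ := lift_cyc r c.prime (by omega) (fun _ => ZI_pow_U k) (by norm_num) (card_ZI_U k) hg
        (by rw [D.card]; norm_num) (D.sc g hg)
      exact u2.trans (hn ▸ cU_le_U k.u k.card u1 u3)
    · exact semi_le (.inr (.inl rfl)) (by omega) S (by norm_num) le_rfl (Ne.symm h5) hg (D.cj g hg) (by decide) (by decide)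
        (.inl (by decide))
  · have h4 := q_eq_of_cj hC p k.card t
    have h5 := S0243.result hK 3 (by norm_num)
    have h6 := big 5 (.inl rfl) (by
      rw [Nat.card_congr (e.symm.trans f).toEquiv]
      norm_num [Fin.prod_univ_three] at h5
      omega)
    omega
  · refine ((repH h F b four_pos).not_le_P c r ?_).elim
    rintro _ ⟨u, hu, rfl⟩
    exact t ▸ det_I0 _ hu
  · obtain ⟨d, rfl⟩ := H905.Md.exists_pow_of_card p a1
    obtain ⟨a, rfl⟩ := H905.Md.exists_pow_of_card p k.card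
    by_cases h4 : m = 3
    · subst h4
      exact (H900.N4.u3_four p hC hsd a1 (fun o => a4 ⟨rfl, o⟩) f).elim
    have h5 := (hC.fixU_of_cj p t hsd).1
    have hd : 1 < p ^ (2 * d) := by rw [mul_comm, pow_mul, ← a1]; exact Fintype.one_lt_card
    have h6 : a ≤ d := by
      have h7 := H541.IrrElement.card_le_of_pow hd h5
      rw [Nat.card_eq_fintype_card, k.card, ← pow_mul, Nat.pow_le_pow_iff_right c.prime.one_lt] at h7
      omega
    exact absurd (Res.card_N_lt r c) (not_lt.2 ((psu_big c.prime a1 (by omega) (Nat.pos_of_ne_zero (by rintro rfl; simp at hq)) h6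
      hT).trans_eq (Nat.card_congr (e.symm.trans f).toEquiv).symm))

end Cfsg.Agent.N2C.N4
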