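import Cfsg.Agent.H909.Sp4Main
import Cfsg.Agent.H910.Resid
import Cfsg.Agent.H915.LD

/-!
# N2, dimension four, class S: the cores in `Sp₄(q)` (helper85)
-/

set_option autoImplicit false

namespace Cfsg.Agent.N2C.N4.Rs

open Cfsg Cfsg.Geo Matrix Cfsg.Agent.H915.LD Cfsg.Agent.H909.SpDouble

variable {F : Type} [Field F] [Fintype F] {H P : Subgroup (GL (Fin 2 ⊕ Fin 2) F)}

theorem list_odd (h2 : (2 : F) ≠ 0) (core : IsResidualCore H P) (hP : P ≤ spGL 2 F) (hne : P ≠ spGL 2 F) {p : ℕ} (hp : p.Prime)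
    [CharP F p] : (∃ c, (c = 5 ∨ c = 6 ∨ c = 7) ∧ Nonempty (H915.LD.Soc P ≃* alternatingGroup (Fin c))) ∨
      (5 ≤ p ∧ 7 ≤ Fintype.card F ∧ Nonempty (H915.LD.Soc P ≃* ProjectiveSpecialLinearGroup (Fin 2) F) ∧ ∃ y ∈ P, y ^ p = 1 ∧
        y.val + (y⁻¹).val ≠ (2 : F) • 1) := by
  have ctx : Ctx P := ⟨h2, hP, core.perfect, core.simple, core.nonabelian⟩
  have hp2 : p ≠ 2 := by
    rintro rfl
    exact h2 (CharP.cast_eq_zero F 2)
  rcases ctx.surv with h | h | h | h | h | h | h | h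
  · obtain ⟨K, _, _, hK, h5, ⟨e⟩⟩ := h
    by_cases hK5 : Fintype.card K = 5
    · exact .inl ⟨5, .inl rfl, (S0253.result hK5).map e.trans⟩
    by_cases hK9 : Fintype.card K = 9
    · exact .inl ⟨6, .inr (.inl rfl), (S0254.result hK9).map e.trans⟩
    have hp3 : p ≠ 3 := by
      rintro rfl
      exact H587.Sp.l2_three ctx core (CharP.cast_eq_zero F 3) hK h5 e
    have h4 := H587.Sp.l2_card ctx core.absIrred core.no_subfield hp hK (lt_of_le_of_ne h5 (Ne.symm hK5)) hK9 e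
    have f := e.trans (LieClassical.FieldTransfer.pslCongr (FiniteField.ringEquivOfCardEq h4))
    refine .inr ⟨hp.five_le_of_ne_two_of_ne_three hp2 hp3, by obtain ⟨m, hm⟩ := hK; omega, ⟨f⟩, by_contra fun k => ?_⟩
    exact H587.Sp.quad_false ctx core.absIrred hp hp2 f fun y hy h1 => ⟨2, by_contra fun o => k ⟨y, hy, h1, o⟩⟩
  · exact .inl ⟨7, .inr (.inr rfl), h⟩
  · obtain ⟨n, h8, -, ⟨e⟩⟩ := h
    obtain ⟨a, b, d, h1, h2, h3, h4, h5, h6, h7, h8, h9, h10, h11, h12⟩ := H991.Eight.alt_eight n h8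
    exact ((ctx.twoCov.comp e).eight h1 h2 h3 h4 h5 h6 h7 h8 h9 h10 h11 h12).elim
  · obtain ⟨K, _, _, hK, ⟨e⟩⟩ := h
    obtain ⟨a, b, d, h1, h2, h3, h4, h5, h6, h7, h8, h9, h10, h11, h12⟩ := H991.Eight.sz_eight hK
    exact ((ctx.twoCov.comp e).eight h1 h2 h3 h4 h5 h6 h7 h8 h9 h10 h11 h12).elim
  · exact (H909.Sp4Main.qf_false ctx (MulEquiv.refl _) (H991.qf_m12 h)).elim
  · obtain ⟨K, _, _, hK, ⟨e⟩⟩ := h
    exact (hne (H991.Sp4.sp4_all ctx core.absIrred core.no_subfield hK e)).elim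
  · obtain ⟨K, _, _, hK, ⟨e⟩⟩ := h
    exact (H909.Sp4Main.qf_false ctx e (H991.qf_psl (Nat.odd_iff.2 (by omega)) 4 (by norm_num))).elim
  · obtain ⟨K, _, _, q, hK, hq, ⟨e⟩⟩ := h
    exact (H909.Sp4Main.qf_false ctx e (H991.qf_psu hK (Nat.odd_iff.2 (by omega)) 4 (by norm_num))).elim

open Cfsg.Agent.H910 in
theorem list_even [CharP F 2] (h4 : 4 ≤ Fintype.card F) (hc : IsResidualCore H P) (hP : P ≤ spGL 2 F) (hne : P ≠ spGL 2 F)
    (hq : ¬ FixQ P) : ∃ m, 1 ≤ m ∧ Fintype.card F = 2 ^ (2 * m + 1) ∧ Nonempty (H915.LD.Soc P ≃* Lie.Sz F (2 ^ (m + 1))) := by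
  classical
  obtain ⟨⟨e0⟩, hsim, hna⟩ := core_simple hc hP
  have hfin : Finite P := Subtype.finite
  rcases simple_list P hP hna with ⟨K, _, _, hK2, hK4, ⟨e⟩⟩ | ⟨⟨e⟩⟩ | ⟨K, _, _, m, hm, hK, ⟨e⟩⟩ | ⟨K, _, _, hK2, hK4, ⟨e⟩⟩
  · obtain ⟨Q, hQ, hfix⟩ := sl2_quad (f := H910.repr e) (fun g => hP (repr_mem e g)) (repr_irr hc.absIrred e)
      (repr_schur hc.absIrred e)
    refine (hq ⟨Q, hQ, ?_⟩).elim
    rintro _ ⟨x, hx, rfl⟩ v
    obtain ⟨g, rfl⟩ := exists_repr e hx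
    exact hfix g v
  · exact (no_a6 h4 H P hc hP e).elim
  · have h1 := sz_case H P hc hP hm hK e
    obtain ⟨e1⟩ := H438.SzMax.szCongr_of_card (hK.trans h1.symm) (2 ^ (m + 1))
    exact ⟨m, hm, h1, ⟨e0.trans (e.trans e1)⟩⟩
  · replace e := e.trans (spEq K)
    obtain ⟨k, -, hk⟩ := FiniteField.card K 2
    have h1 := core_frob hc e (k := k) fun x hx => by
      have := H875.Sp4.sp4_conj x hx
      rwa [Nat.card_eq_fintype_card, hk] at this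
    have h3 := Nat.le_of_dvd (by omega) (card_dvd (F := F) (N := 2 ^ (k : ℕ)) (by omega) h1)
    have h2 : Fintype.card F ≤ Fintype.card K := by omega
    refine (hne (Subgroup.eq_of_le_of_card_ge hP ?_)).elim
    rw [Nat.card_congr e.toEquiv, card_spGL, card_spGL]
    gcongr

end Cfsg.Agent.N2C.N4.Rs
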