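import Cfsg.Agent.N2.D4m.ResLU
import Cfsg.Agent.N2.D4m.ResS1
import Cfsg.Agent.N2.D4m.B2
import Cfsg.Agent.H982.EP.Trans
import Cfsg.Agent.H781.Cov9.Res
import Cfsg.Agent.ClassicalGeometry.SympIso

/-!
# N2, dimension four, class S: the symplectic groups (helper85)
-/

set_option autoImplicit false
set_option linter.unusedSectionVars false

namespace Cfsg.Agent.N2C.N4

open Cfsg Cfsg.Geo Subgroup Module Matrix Polynomial Cfsg.Agent.DS.Cl Cfsg.Agent.DS.Cl.Fwd Cfsg.Agent.H915.LD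
open Cfsg.Agent.N2C.Cyc Cfsg.Agent.N2C.RX Cfsg.Agent.N2C.RX.R0 Cfsg.Agent.N2.Tg Cfsg.Agent.H982.EP
open Cfsg.Agent.N2C.Res (Rep repL repH)
open Cfsg.Agent.TH.Cl (KL KU KSp)

namespace Rs

variable {K V : Type} [Field K] [Fintype K] [AddCommGroup V] [Module K V] [Finite V] {p : ℕ}
  {h : HF K V} {F : FR h.EB} {H N : Subgroup (RingAut h.EB)}

theorem rank_sq_le (hn : finrank K V = 4) {T : End K V} (h3 : T ^ 3 = 0) : finrank K (LinearMap.range (T ^ 2)) ≤ 1 := by
  have : Module.Finite K V := Module.Finite.of_finite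
  have t0 : _ = finrank K (LinearMap.range (T ^ 1)) + _ := Gr.tele T 0
  have t1 : _ = finrank K (LinearMap.range (T ^ 2)) + _ := Gr.tele T 1
  have t2 := Gr.tele T 2
  have m1 := Submodule.finrank_mono (inf_le_inf_left (LinearMap.ker T) (Gr.range_pow_le T zero_le_one))
  have m2 := Submodule.finrank_mono (inf_le_inf_left (LinearMap.ker T) (Gr.range_pow_le T one_le_two))
  have e0 : finrank K (LinearMap.range (T ^ 0)) = 4 := by
    rw [pow_zero, End.one_eq_id, LinearMap.range_id, finrank_top, hn]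
  have e3 : finrank K (LinearMap.range (T ^ (2 + 1))) = 0 := by rw [h3, LinearMap.range_zero, finrank_bot]
  omega

/-- unipotent elements of `Sp₄` which are not quadratic are regular -/
theorem cyc_uni (hA : ∀ v, h.b v v = 0) (hn : finrank K V = 4) {u : h.EBˣ} (hu : (u : h.EB) * star (u : h.EB) = 1) {m : ℕ}
    (hm : (h.ap u - 1) ^ m = 0) (h2 : (h.ap u - 1) ^ 2 ≠ 0) : CycV (h.ap u) := by
  have : Module.Finite K V := Module.Finite.of_finite
  have h3 : (h.ap u - 1) ^ 3 ≠ 0 := fun h3 => by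
    have hw : ∀ v, h.ap (star (u : h.EB)) (h.ap u v) = v := fun v => by
      rw [← h.ap_mul, Units.eq_inv_of_mul_eq_one_left hu, Units.inv_mul, h.ap_one]
    have hs : ∀ v, h.ap (star (u : h.EB)) (((h.ap u - 1) ^ 2 : End K V) v) = h.ap u v - v - (v - h.ap (star (u : h.EB)) v) := fun v => by
      simp only [sq, End.mul_apply, LinearMap.sub_apply, End.one_apply, map_sub, hw]
    obtain ⟨x, hx⟩ : ∃ x, ((h.ap u - 1) ^ 2 : End K V) x ≠ 0 := by_contra fun k => h2 (LinearMap.ext fun x => by_contra fun o => k ⟨x, o⟩)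
    refine hx ?_
    have h4 : h.ap (star (u : h.EB)) (((h.ap u - 1) ^ 2 : End K V) x) = 0 := h.nondeg _ fun y => by
      obtain ⟨a, ha⟩ := exists_smul_eq_of_finrank_eq_one (K := K) (V := LinearMap.range ((h.ap u - 1) ^ 2))
        (le_antisymm (rank_sq_le hn h3) (Submodule.one_le_finrank_iff.2 fun k => h2 (LinearMap.range_eq_bot.1 k)))
        (x := ⟨_, x, rfl⟩) (fun k => hx (congrArg Subtype.val k)) ⟨_, y, rfl⟩
      have h5 := congrArg (fun z => h.b (h.ap (star (u : h.EB)) z.1) x) ha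
      have h6 := hA (h.ap u x + x)
      simp only [Submodule.coe_smul, map_smul, h.smul_left, hs, h.sub_left, h.star_b] at h5
      simp only [h.add_left, h.add_right, hA] at h5 h6
      simp only [hs, h.sub_right, h.b_star]
      linear_combination a * h6 - h5
    rw [← h.ap_one (((h.ap u - 1) ^ 2 : End K V) x), ← hu, h.ap_mul, h4, map_zero]
  have h4 : minpoly K (h.ap u) ∣ (X - C 1) ^ m := minpoly.dvd _ _ (by simpa using hm)
  obtain ⟨i, -, hi⟩ := (dvd_prime_pow (prime_X_sub_C 1) m).1 h4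
  have h5 : (h.ap u - 1) ^ i = 0 := by simpa using aeval_eq_zero_of_dvd_aeval_eq_zero hi.dvd (minpoly.aeval K _)
  refine cycV_of_minpoly ?_
  rw [natDegree_eq_of_degree_eq (degree_eq_degree_of_associated hi), natDegree_pow, natDegree_X_sub_C, mul_one, hn]
  by_contra k
  exact h3 (pow_eq_zero_of_le (by omega) h5)

/-- the elements of order five -/
theorem five_le (k : KSp h F 2) (c : Ctx F H p) (r : Res F H N) (h2 : (2 : K) ≠ 0) {j o : ℕ} (D : Dat N 5 j o) (ho : ¬ 5 ^ 2 ∣ o)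
    {g : N} (hg : orderOf g = 5) (j0 : (j : ZMod 5) ≠ 0) (j1 : (j : ZMod 5) ≠ 1) (hd : (j : ZMod 5) * j ≠ 1 ∨ dd N g ≤ 5) :
    cc F N g ≤ (Fintype.card K + 1) ^ 2 := by
  have hn : finrank K V = 4 := k.dim
  have := nontrivial_of_dim (K := K) (V := V) (by omega)
  have := Res.charP_H h F (finBasisOfFinrankEq K V hn) four_pos c
  by_cases h5 : p = 5
  · subst h5
    rcases two_ne (K := K) rfl with ⟨-, h1⟩ | ⟨h1, -⟩
    · exact (h2 h1).elim
    have h3 := ZI_bil (F := F) k.sp.1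
    rw [h1] at h3
    obtain ⟨u, u1, u2, u3, u4⟩ := lift_cyc r c.prime (by omega) h3.1 (by norm_num) h3.2 hg (D.card ▸ ho) (D.sc g hg)
    have h4 := cU_uni k.sp.1 h2 u1 u3 u4
    rw [hn, show 4 / 2 = 2 from rfl] at h4
    omega
  · exact (Nat.le_mul_of_pos_right _ (Nat.gcd_pos_of_pos_left _ two_pos)).trans (semi_le (.inr (.inr rfl)) Fintype.card_pos
      (hn ▸ semiS k c r) (by norm_num) le_rfl (Ne.symm h5) hg (D.cj g hg) j0 j1 hd)

theorem gd_alt (k : KSp h F 2) (hq : 5 ≤ Fintype.card K) (c : Ctx F H p) (r : Res F H N) (h2 : (2 : K) ≠ 0) {a : ℕ}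
    (ha : a = 5 ∨ a = 6 ∨ a = 7) (e : N ≃* alternatingGroup (Fin a)) : Gd F H := by
  have hn : finrank K V = 4 := k.dim
  have := finAut (A := h.EB)
  have d := dd_H h F (finBasisOfFinrankEq K V hn) four_pos
  have fin : ∀ g : N, cc F N g ≤ (Fintype.card K + 1) ^ 2 → 24 * cc F N g ^ 3 ≤ Nat.card F.S := fun g hg =>
    arS (card_S_Sp k) hg (by norm_num) hq (le_trans (by norm_num) (Nat.mul_le_mul_left _ (Nat.pow_le_pow_left hq 4)))
  rcases ha with rfl | rfl | rfl
  · obtain ⟨x, y, h3, h4, h5, h6⟩ := RAlt.tri_5_2_3_5.congr e.symm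
    have h7 := scott r d x y h6
    have h8 := R0.low r d x two_pos h3
    have h9 := R0.low r d y three_pos h4
    exact (dat_a5 e).gd r (by norm_num) h5 ord45 (by norm_num)
      (fin _ (five_le k c r h2 (dat_a5 e) (by norm_num) h5 (by decide) (by decide) (.inr (by omega))))
  · obtain ⟨x, y, h3, h4, h5, h6⟩ := tri_6_2_5_5.congr e.symm
    have h7 := scott r d x y h6
    have h8 := R0.low r d x two_pos h3
    have := Fact.mk Nat.prime_five
    obtain ⟨g, h9, h10⟩ : ∃ g : N, orderOf g = 5 ∧ dd N g ≤ 5 := by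
      by_cases t : dd N (x * y) ≤ 5
      · exact ⟨_, h5, t⟩
      refine ⟨y, orderOf_eq_prime h4 ?_, by omega⟩
      rintro rfl
      rw [mul_one] at h5
      exact absurd (h5 ▸ orderOf_dvd_of_pow_eq_one h3) (by norm_num)
    exact (dat_a6 e).gd r (by norm_num) h9 ord45 (by norm_num)
      (fin _ (five_le k c r h2 (dat_a6 e) (by norm_num) h9 (by decide) (by decide) (.inr h10)))
  · obtain ⟨g, hg⟩ := (dat_a75 e).ex
    exact (dat_a75 e).gd r (by norm_num) hg ord25 (by norm_num)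
      (fin _ (five_le k c r h2 (dat_a75 e) (by norm_num) hg (by decide) (by decide) (.inl (by decide))))

theorem gd_l2 (k : KSp h F 2) (hq : 7 ≤ Fintype.card K) (c : Ctx F H p) (r : Res F H N) (hp : 5 ≤ p)
    (e : N ≃* ProjectiveSpecialLinearGroup (Fin 2) K) {u : h.EBˣ} (hu : u ∈ lft F N) (h1 : u ^ p = 1)
    (h2 : (h.ap u - 1) ^ 2 ≠ 0) : Gd F H := by
  have hn : finrank K V = 4 := k.dim
  have := nontrivial_of_dim (K := K) (V := V) (by omega)
  have := Res.charP_H h F (finBasisOfFinrankEq K V hn) four_pos c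
  have := Fact.mk c.prime
  have hu' := Res.lft_le_Iso F N hu
  have h3 : (h.ap u - 1) ^ p = 0 := by
    have : CharP (End K V) p := charP_of_injective_algebraMap (algebraMap K _).injective p
    rw [sub_pow_char_of_commute p (Commute.one_right _), one_pow, sub_eq_zero]
    exact congrArg Units.val h1
  have h4 : (2 : K) ≠ 0 := fun t => by
    have := Nat.le_of_dvd two_pos ((CharP.cast_eq_zero_iff K p 2).1 t)
    omega
  rcases two_ne (K := K) rfl with ⟨-, h5⟩ | ⟨h5, -⟩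
  · exact (h4 h5).elim
  have h6 := ZI_bil (F := F) k.sp.1
  rw [h5] at h6
  have h7 := cn_mul_le_one (Res.lft_le F N hu) fun z hz v _ t => by
    have t1 : v * u * v⁻¹ = z * u := by rw [t, mul_inv_cancel_right]
    have t2 := congrArg (· ^ p) t1
    simp only [conj_pow, (show Commute z u from Units.ext (ZI_comm hz u)).mul_pow, h1, mul_one, mul_inv_cancel] at t2
    have t3 := pow_gcd_eq_one.2 ⟨h6.1 z hz, t2.symm⟩
    rwa [(Nat.coprime_primes Nat.prime_two c.prime).2 (by omega), pow_one] at t3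
  have h8 := (h7.trans (cO_le_cU F u)).trans (cU_uni k.sp.1 h4 hu'.1 h3 (cyc_uni k.sp.2.1 hn hu'.1 h3 h2))
  have h9 := Nat.mul_le_mul_left (N2.cn (el (Res.lft_le F N hu))) h6.2
  rw [hn, show 4 / 2 = 2 from rfl] at h8
  obtain ⟨f, -, hf⟩ := FiniteField.card K p
  refine Res.gd_of_cn r (a := el (Res.lft_le F N hu)) (Res.le_H r (Res.cj_mem hu)) le_rfl ?_
  rw [mul_comm, Nat.card_congr (MulAut.congr e).toEquiv, H781.Cov9.card_mulAut_psl c.prime f.pos hf (by omega), ← hf]
  refine arS (card_S_Sp k) (by omega) (by norm_num) hq ?_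
  have h10 : 7 * (f : ℕ) ≤ Fintype.card K := by
    obtain ⟨f, f0⟩ := f
    rcases f with _ | _ | f
    · omega
    · exact hq
    · have t1 : f + 1 ≤ 2 ^ f := Nat.lt_two_pow_self
      have t2 : 2 ^ f * 5 ^ 2 ≤ p ^ f * p ^ 2 := by gcongr; omega
      rw [hf, PNat.mk_coe, add_assoc f, pow_add, one_add_one_eq_two]
      omega
  calc _ ≤ 3 * (f * (Fintype.card K * Fintype.card K ^ 2)) * (7 + 1) ^ 6 := by gcongr; exact Nat.sub_le _ _
    _ = 786432 * f * Fintype.card K ^ 3 := by ring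
    _ ≤ 7 ^ 6 * Fintype.card K * Fintype.card K ^ 3 := Nat.mul_le_mul_right _ (by omega)
    _ = _ := by ring

/-- the normaliser of an irreducible cyclic group -/
theorem norm_le (k : KSp h F 2) [CharP K 2] {s : ℕ} (hs : s.Prime) (h2 : 2 < s) (ho : orderOf (Fintype.card K : ZMod s) = 4)
    {x : F.S} (hx : orderOf x = s) : Nat.card (normalizer (zpowers x : Set F.S)) ≤ 4 * (Fintype.card K + 1) ^ 2 := by
  classical
  have hn : finrank K V = 4 := k.dim
  have := nontrivial_of_dim (K := K) (V := V) (by omega)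
  have := Fact.mk hs
  have := finAut (A := h.EB)
  have one : ∀ z ∈ I0 F, cj h.EB z = 1 → z = 1 := fun z hz t => by
    have t1 := (ZI_bil (F := F) k.sp.1).1 z (mem_ZI (F.comm_le_Iso hz) (DS.Cl.cj_eq_one_iff.1 t))
    rcases two_ne (K := K) rfl with ⟨t2, -⟩ | ⟨-, t2⟩
    · rwa [t2, pow_one] at t1
    · exact (t2 (CharP.cast_eq_zero K 2)).elim
  obtain ⟨⟨u, hu⟩, rfl⟩ := pr_surj F x
  have hm : u ^ s = 1 := one _ (pow_mem hu s) (by
    rw [map_pow]; exact congrArg Subtype.val (hx ▸ pow_orderOf_eq_one (pr F ⟨u, hu⟩)))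
  obtain ⟨μ, h1, h3, -, h5⟩ := Sz.size_Sp k.sp ⟨2, hn⟩ h2 (fun t => by
    have := (Nat.prime_dvd_prime_iff_eq Nat.prime_two hs).1 ((CharP.cast_eq_zero_iff K 2 s).1 t)
    omega) (F.comm_le_Iso hu) hm
  have h6 : μ 0 ≠ 4 := fun t => by
    obtain rfl : u = 1 := Sm.eq_one_H (h3.symm.trans (t.trans hn.symm))
    rw [show pr F ⟨1, hu⟩ = 1 from map_one _, orderOf_one] at hx
    omega
  have h7 := h1.sum.trans hn
  have h8 := (orderOf_eq_iff four_pos).1 ho
  have h9 := le_one_of_orb h7 h6 (x := Fintype.card K) (fun t => by simp [t] at h8) (by simpa using h8.2 1 (by omega) one_pos)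
    (by simpa [sq] using h8.2 2 (by omega) two_pos) h1.frob
  have h10 := card_add_le h7
  refine (card_norm_le (w := 4) ?_).trans (Nat.mul_le_mul_left 4 ((cn_le hu).trans ((cI_le_cO F u).trans ?_)))
  · obtain ⟨i, i0, i1⟩ := exists_ne h7 h6
    refine le_trans (Set.ncard_le_ncard (t := (fun l : ZMod s => pr F ⟨u, hu⟩ ^ (l * i⁻¹).val) ''
      (Finset.univ.filter fun i => i ≠ 0 ∧ μ i ≠ 0 :)) ?_) ((Set.ncard_image_le).trans (by rw [Set.ncard_coe_finset]; omega))
    rintro _ ⟨hy, hc⟩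
    obtain ⟨j, rfl⟩ := mem_powers_iff_mem_zpowers.2 hy
    obtain ⟨w, hw⟩ := isConj_iff.1 hc
    obtain ⟨⟨v, hv⟩, rfl⟩ := pr_surj F w
    have t1 : ¬ s ∣ j := fun t => by
      rw [← hx, orderOf_dvd_iff_pow_eq_one] at t
      rw [show pr F ⟨u, hu⟩ = 1 from isConj_one_left.1 (t ▸ hc), orderOf_one] at hx
      omega
    have t2 : v * u * v⁻¹ * (u ^ j)⁻¹ = 1 := one _ (mul_mem (mul_mem (mul_mem hv hu) (inv_mem hv)) (inv_mem (pow_mem hu j))) (by
      rw [map_mul, map_inv, mul_inv_eq_one, map_mul, map_mul, map_inv, map_pow]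
      exact congrArg Subtype.val hw)
    have t3 := h1.conj v j v.isUnit (by
      rw [← Units.val_pow_eq_pow_val, ← Units.val_mul, ← Units.val_mul, ← mul_inv_eq_one.1 t2, inv_mul_cancel_right])
      (hs.coprime_iff_not_dvd.2 t1).symm i
    refine ⟨j * i, Finset.mem_coe.2 (Finset.mem_filter.2 ⟨Finset.mem_univ _, mul_ne_zero (mt (ZMod.natCast_eq_zero_iff _ _).1 t1) i0,
      t3 ▸ i1⟩), ?_⟩
    simp only [mul_inv_cancel_right₀ i0, ZMod.val_natCast]
    rw [← hx, pow_mod_orderOf]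
  · have t := h5 4 1 ho fun _ => by omega
    have t1 := h9 0
    rw [sq_eq h7 h9, show (4 + μ 0) / 2 = 2 by omega, pow_one, pow_one, show 4 / 2 = 2 from rfl, mul_comm (_ ^ 2)] at t
    exact (Nat.le_of_mul_le_mul_right t (pow_pos Fintype.card_pos _)).trans (Nat.pow_lt_pow_left (Nat.lt_succ_self _) two_ne_zero)

theorem gd_sz (k : KSp h F 2) [CharP K 2] (r : Res F H N) {m : ℕ} (hm : 1 ≤ m) (hK : Fintype.card K = 2 ^ (2 * m + 1))
    (e : N ≃* Lie.Sz K (2 ^ (m + 1))) : Gd F H := by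
  have := finAut (A := h.EB)
  obtain ⟨s, h1, h2, D⟩ := datSz hm hK
  have f := (subgroupOfEquivOfLe (Res.le_S r)).trans e
  have ho : orderOf (Fintype.card K : ZMod s) = 4 := by
    have t : ∀ n, (Fintype.card K : ZMod s) ^ n = 1 ↔ 4 ∣ n := fun n => by
      rw [← Nat.cast_pow, ← Nat.cast_one, eq_comm, ZMod.natCast_eq_natCast_iff, Nat.modEq_iff_dvd' (Nat.one_le_pow _ _
        Fintype.card_pos), hK, ← pow_mul, h1, mul_comm 4, Nat.mul_dvd_mul_iff_left (Nat.succ_pos _)]
    exact Nat.dvd_antisymm (orderOf_dvd_of_pow_eq_one ((t 4).2 dvd_rfl)) ((t _).1 (pow_orderOf_eq_one _))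
  refine (D.congr f).good (fun _ hx => Res.le_H r hx) (fun a ha => mem_normalizer_fintype fun x hx => r.nrm _ ha _ hx)
    (fun t _ ht => Subtype.ext (Res.eq_one_of_cent r (F.PI_le_Lin (F.S_le_PI t.2)) fun x hx =>
      congrArg Subtype.val (ht ⟨x, Res.le_S r hx⟩ hx))) (fun x _ hx => norm_le k D.pr (by omega) ho hx) ?_
  have h3 := card_S_Sp k
  have h4 : 8 ≤ Fintype.card K := hK ▸ Nat.pow_le_pow_right two_pos (show 3 ≤ _ by omega)
  rcases two_ne (K := K) rfl with ⟨t2, -⟩ | ⟨-, t2⟩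
  swap
  · exact (t2 (CharP.cast_eq_zero K 2)).elim
  rw [t2, one_mul] at h3
  rw [Nat.card_congr f.toEquiv, H438.SzMax.card_sz hK, h3, ← hK]
  simpa [oSp, PP, Finset.prod_range_succ] using B2.numZ h4 le_rfl

end Rs

open Rs

/-- **class S in `PSp₄(q)`** -/
theorem resS : AtS pRes4 := by
  rintro K V _ _ _ _ _ h F H p k hq c ⟨-, -, -, N, r⟩
  have hn : finrank K V = 4 := k.dim
  have : Module.Finite K V := Module.Finite.of_finite
  let b := finBasisOfFinrankEq K V hn
  let R := repH h F b four_pos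
  have := Res.charP_H h F b four_pos c
  obtain ⟨e, he⟩ := ClassicalGeometry.SympIso.exists_linearEquiv_sympForm (LinearMap.mk₂ K h.b h.add_left h.smul_left h.add_right
    fun a x y => by rw [h.smul_right, k.sp.1, smul_eq_mul]) k.sp.2.1
    (fun x hx => h.nondeg x fun y => by rw [h.swap, show h.b x y = 0 from hx y, map_zero, mul_zero]) k.dim
  let j := b.equivFun.symm ≪≫ₗ e.symm
  have key : ∀ (u : h.EBˣ) x, e ((glT j (R.gl u)).val *ᵥ x) = h.ap u (e x) := fun u x => by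
    rw [glT_mulVec', LinearEquiv.trans_apply, e.apply_symm_apply, Rep.gl_val, Res.ρ_mulVec]
    simp [j]
  have mem : ∀ u ∈ F.Iso, glT j (R.gl u) ∈ spGL 2 K := fun u hu x y =>
    (he _ _).symm.trans (((congrArg₂ h.b (key u x) (key u y)).trans (b_of_unit hu.1 _ _)).trans (he x y))
  have core := core_map j (R.resCore c.span r c.le)
  have hP : (R.P N).map (glT j).toMonoidHom ≤ spGL 2 K := by
    rintro _ ⟨_, ⟨u, hu, rfl⟩, rfl⟩
    exact mem u (Res.lft_le_Iso F N hu)
  have hne : (R.P N).map (glT j).toMonoidHom ≠ spGL 2 K := fun t => R.not_le_P c r (by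
    rintro _ ⟨u, hu, rfl⟩
    exact (mem_map_glT j _ _).1 (t ▸ mem u (F.comm_le_Iso hu)))
  obtain ⟨f, -⟩ := R.exists_soc c.span r
  replace f := f.symm.trans (quotT j (R.P N))
  by_cases h2 : (2 : K) = 0
  · have : CharP K 2 := CharTwo.of_one_ne_zero_of_two_eq_zero one_ne_zero h2
    obtain ⟨m, hm, hK, ⟨g⟩⟩ := list_even hq core hP hne fun ⟨Q, h3, h4⟩ => Res.not_fixQ b four_pos k.sp r
      ⟨fun v => Q (j v), nondeg_map j.symm one_ne_zero (fun v => by rw [j.apply_symm_apply, one_mul]) h3,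
        fun t ht v => (congrArg Q (matT_mulVec j t v)).symm.trans (h4 _ (matrixSet_map ht) _)⟩
    exact gd_sz k r hm hK (f.trans g)
  rcases list_odd h2 core hP hne c.prime with ⟨a, ha, ⟨g⟩⟩ | ⟨h5, h7, ⟨g⟩, _, ⟨_, ⟨u, hu, rfl⟩, rfl⟩, h3, h4⟩
  · refine gd_alt k (lt_of_le_of_ne hq fun t => h2 ?_) c r h2 ha (f.trans g)
    have h3 := FiniteField.cast_card_eq_zero K
    rw [← t] at h3
    exact mul_self_eq_zero.1 (by linear_combination h3)
  · have hu' := Res.lft_le_Iso F N hu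
    refine gd_l2 k h7 c r h5 (f.trans g) hu (R.gl_inj (pow_mem hu' p) (one_mem _) ((glT j).injective (by
      rw [map_pow, map_pow, map_one, map_one]; exact h3))) fun t => h4 (ext_mulVec fun x => e.injective ?_)
    have h6 := congrArg (h.ap (u⁻¹ : h.EBˣ)) (LinearMap.congr_fun t (e x))
    have h8 : ∀ v, h.ap (u⁻¹ : h.EBˣ) (h.ap u v) = v := fun v => by rw [← h.ap_mul, Units.inv_mul, h.ap_one]
    simp only [sq, End.mul_apply, LinearMap.sub_apply, End.one_apply, map_sub, h8, LinearMap.zero_apply, map_zero] at h6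
    rw [add_mulVec, map_add, ← map_inv, ← map_inv, smul_mulVec, one_mulVec, map_smul, two_smul]
    refine (congrArg₂ _ (key u x) (key u⁻¹ x)).trans ?_
    rw [← sub_eq_zero, ← h6]
    abel

/-- **class S in dimension four** -/
theorem res : At pRes4 := ⟨resL, resU, resS⟩

end Cfsg.Agent.N2C.N4
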