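import Cfsg.Agent.N2.D4m.Defs
import Cfsg.Agent.N2.Cl.TenSO.Base
import Cfsg.Agent.N2.Cl.Cases.Gal

/-!
# N2, dimension four: tensor decompositions (helper47)

Two factors `M₂(C)`.  The automorphism `φ` with `φ c = c*` on the centre and `φ x + x*` central for `x` in a factor is
canonical, so it is centralised by `H`.
-/

set_option autoImplicit false
set_option linter.unusedSectionVars false

namespace Cfsg.Agent.N2C.N4

open Cfsg.Agent.DS.Cl Cfsg.Agent.DS.Cl.Fwd Cfsg.Agent.SB.Cl Module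
open Cfsg.Agent.TH.Cl (Irr2 TenD KL KU KSp)
open Cfsg.Agent.TH.Cl.Ten (TD Cz)
open Cfsg.Agent.N2C.Cases (coef_mul' coef_add' coef_cen')
open Cfsg.Agent.N2C.TenSO (TC exists_tc)
open scoped Pointwise

namespace TenT

section mu

variable {A : Type} [Ring A] {n m : ℕ}

theorem mu_prod {E : Fin n → Fin n → A} {E' : Fin m → Fin m → A} (h : MU0 E) (h' : MU0 E')
    (hc : ∀ i j k l, E' k l * E i j = E i j * E' k l) :
    MU0 fun a b : Fin (n * m) => E a.divNat b.divNat * E' a.modNat b.modNat where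
  mul a b c d := by
    rw [mul_assoc, ← mul_assoc (E' _ _), hc, mul_assoc, ← mul_assoc, h.mul, h'.mul]
    by_cases e : b = c
    · rw [if_pos e, if_pos (by rw [e]), if_pos (by rw [e])]
    · rw [if_neg e]
      by_cases e1 : b.divNat = c.divNat
      · rw [if_neg (fun e2 : b.modNat = c.modNat => e (finProdFinEquiv.symm.injective (Prod.ext e1 e2))), mul_zero]
      · rw [if_neg e1, zero_mul]
  sum := (Fintype.sum_equiv finProdFinEquiv.symm _ (fun x : Fin n × Fin m => E x.1 x.1 * E' x.2 x.2) fun _ => rfl).trans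
    (by simp only [Fintype.sum_prod_type, ← Finset.mul_sum, h.sum, h'.sum, mul_one])

theorem coef_E {E : Fin n → Fin n → A} (h : MU0 E) (p q i j : Fin n) :
    coef E (E p q) i j = if i = p ∧ j = q then 1 else 0 := by
  unfold coef
  by_cases e : i = p ∧ j = q
  · obtain ⟨rfl, rfl⟩ := e
    simp only [h.mul_eq, h.sum, and_self, if_true]
  · rw [if_neg e]
    refine Finset.sum_eq_zero fun k _ => ?_
    by_cases e1 : i = p
    · rw [e1, h.mul_eq, h.mul, if_neg fun e2 => e ⟨e1, e2.symm⟩]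
    · rw [h.mul, if_neg e1, zero_mul]

theorem card_le [Finite A] {E : Fin n → Fin n → A} (h : MU0 E) :
    Nat.card (Subring.center A) ^ (n * n) ≤ Nat.card A := by
  have h1 : Nat.card (Fin n → Fin n → Subring.center A) = Nat.card (Subring.center A) ^ (n * n) := by
    rw [Nat.card_fun, Nat.card_fun, Nat.card_eq_fintype_card (α := Fin n), Fintype.card_fin, pow_mul]
  rw [← h1]
  have k : ∀ (c : Fin n → Fin n → Subring.center A) i j,
      E i i * (∑ p, ∑ q, (c p q : A) * E p q) * E j j = c i j * E i j := fun c i j => by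
    have k1 : ∀ p q, E i i * ((c p q : A) * E p q) * E j j = if p = i ∧ q = j then c i j * E i j else 0 := fun p q => by
      rw [← mul_assoc, cen_comm (c p q).2, mul_assoc, mul_assoc, ← mul_assoc (E i i)]
      by_cases e : p = i ∧ q = j
      · obtain ⟨rfl, rfl⟩ := e
        rw [h.mul_eq, h.mul_eq, if_pos ⟨rfl, rfl⟩]
      · rw [if_neg e]
        by_cases e1 : i = p
        · rw [← e1, h.mul_eq, h.mul, if_neg fun e2 => e ⟨e1.symm, e2⟩, mul_zero]
        · rw [h.mul, if_neg e1, zero_mul, mul_zero]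
    simp only [Finset.mul_sum, Finset.sum_mul, k1, ite_and, Finset.sum_ite_irrel, Finset.sum_ite_eq', Finset.mem_univ,
      if_true, Finset.sum_const_zero]
  refine Nat.card_le_card_of_injective (fun c => ∑ p, ∑ q, (c p q : A) * E p q) fun c d e => funext fun i => funext fun j =>
    Subtype.ext (sub_eq_zero.1 (h.eq_zero (i := i) (j := j) (fun p q => (cen_comm (sub_mem (c i j).2 (d i j).2) _).symm) ?_))
  rw [sub_mul, ← k, ← k, show ∑ p, ∑ q, (c p q : A) * E p q = ∑ p, ∑ q, (d p q : A) * E p q from e, sub_self]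

variable [StarRing A]

/-- the semilinear endomorphism which maps one system of matrix units to another -/
theorem exists_hom {E G : Fin n → Fin n → A} (hE : MU E) (hG : MU0 G) :
    ∃ φ : A →+* A, (∀ c ∈ Subring.center A, φ c = star c) ∧ ∀ i j, φ (E i j) = G i j := by
  let g : A → A := fun a => ∑ i, ∑ j, star (coef E a i j) * G i j
  have gC : ∀ c ∈ Subring.center A, g c = star c := fun c hc => by
    have h1 : ∀ i j, star (coef E c i j) * G i j = if i = j then star c * G i i else 0 := fun i j => by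
      rw [coef_cen' hE.toMU0 hc]
      split_ifs with e
      · rw [e]
      · rw [star_zero, zero_mul]
    simp only [g, h1, Finset.sum_ite_eq, Finset.mem_univ, if_true]
    rw [← Finset.mul_sum, hG.sum, mul_one]
  refine ⟨{ toFun := g
            map_one' := (gC 1 (one_mem _)).trans (star_one A)
            map_zero' := (gC 0 (zero_mem _)).trans (star_zero A)
            map_add' := fun a b => by simp only [g, coef_add', star_add, add_mul, Finset.sum_add_distrib]
            map_mul' := fun a b => ?_ }, gC, fun p q => ?_⟩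
  · have h1 : ∀ i j k l, star (coef E a i j) * G i j * (star (coef E b k l) * G k l) =
        if j = k then star (coef E a i j) * star (coef E b j l) * G i l else 0 := fun i j k l => by
      rw [mul_assoc, ← mul_assoc (G i j), cen_comm (star_cen (hE.coef_cen b k l)), mul_assoc, hG.mul]
      split_ifs with e
      · rw [e, mul_assoc]
      · rw [mul_zero, mul_zero]
    have h2 : ∀ i l, star (coef E (a * b) i l) = ∑ j, star (coef E a i j) * star (coef E b j l) := fun i l => by
      rw [coef_mul' hE.toMU0, star_sum]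
      exact Finset.sum_congr rfl fun m _ => by rw [star_mul, cen_comm (star_cen (hE.coef_cen a i m))]
    have h3 : ∀ i j, star (coef E a i j) * G i j * g b = ∑ l, star (coef E a i j) * star (coef E b j l) * G i l :=
      fun i j => by
        simp only [g, Finset.mul_sum, h1]
        rw [Finset.sum_comm]
        simp only [Finset.sum_ite_eq, Finset.mem_univ, if_true]
    change g (a * b) = g a * g b
    rw [show g a = ∑ i, ∑ j, star (coef E a i j) * G i j from rfl]
    simp only [Finset.sum_mul, h3]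
    simp only [g, h2, Finset.sum_mul]
    exact Finset.sum_congr rfl fun i _ => Finset.sum_comm
  · change ∑ i, ∑ j, star (coef E (E p q) i j) * G i j = _
    simp only [coef_E hE.toMU0, ite_and, apply_ite star, star_one, star_zero, ite_mul, one_mul, zero_mul,
      Finset.sum_ite_irrel, Finset.sum_ite_eq', Finset.mem_univ, if_true, Finset.sum_const_zero]

/-- the adjugate followed by `star` -/
def ad (E : Fin 2 → Fin 2 → A) : Fin 2 → Fin 2 → A := ![![star (E 1 1), -star (E 0 1)], ![-star (E 1 0), star (E 0 0)]]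

theorem mu_ad {E : Fin 2 → Fin 2 → A} (h : MU0 E) : MU0 (ad E) where
  mul i j k l := by
    fin_cases i <;> fin_cases j <;> fin_cases k <;> fin_cases l <;> simp [ad, ← star_mul, h.mul]
  sum := by
    have h1 := congrArg star h.sum
    rw [Fin.sum_univ_two, star_add, star_one, add_comm] at h1
    rw [Fin.sum_univ_two]
    exact h1

theorem ad_mem {E : Fin 2 → Fin 2 → A} {B : Subring A} (hs : ∀ x ∈ B, star x ∈ B) (h : ∀ i j, E i j ∈ B) (i j : Fin 2) :
    ad E i j ∈ B := by
  fin_cases i <;> fin_cases j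
  exacts [hs _ (h _ _), neg_mem (hs _ (h _ _)), neg_mem (hs _ (h _ _)), hs _ (h _ _)]

theorem ad_cen {E : Fin 2 → Fin 2 → A} (h : MU0 E) {φ : A →+* A} (h1 : ∀ c ∈ Subring.center A, φ c = star c)
    (h2 : ∀ i j, φ (E i j) = ad E i j) {x : A} (hx : ∀ i j, coef E x i j ∈ Subring.center A) :
    φ x + star x ∈ Subring.center A := by
  have h3 : ∀ i j, ad E i j + star (E i j) ∈ Subring.center A := fun i j => by
    have h4 := congrArg star h.sum
    rw [Fin.sum_univ_two, star_add, star_one] at h4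
    fin_cases i <;> fin_cases j
    · exact (add_comm _ _).trans h4 ▸ one_mem _
    · exact (neg_add_cancel (star (E 0 1))).symm ▸ zero_mem _
    · exact (neg_add_cancel (star (E 1 0))).symm ▸ zero_mem _
    · exact h4 ▸ one_mem _
  rw [h.expand x]
  simp only [map_sum, map_mul, star_sum, star_mul, h2, h1 _ (hx _ _), ← Finset.sum_add_distrib,
    cen_comm (star_cen (hx _ _)), ← mul_add]
  exact Subring.sum_mem _ fun i _ => Subring.sum_mem _ fun j _ => mul_mem (star_cen (hx i j)) (h3 i j)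

end mu

variable {A : Type} [Ring A] [StarRing A] [Finite A] {𝓑 : Set (Subring A)}

omit [StarRing A] [Finite A] in
theorem two_le {n : ℕ} {E : Fin n → Fin n → A} (h : MU0 E) {B : Subring A} (hB : ¬ B ≤ Subring.center A)
    (hc : ∀ x ∈ B, ∀ i j, coef E x i j ∈ Subring.center A) : 2 ≤ n := by
  by_contra hn
  have : Subsingleton (Fin n) := Fin.subsingleton_iff_le_one.2 (by omega)
  refine hB fun x hx => ?_
  rw [h.expand x]
  refine Subring.sum_mem _ fun i _ => Subring.sum_mem _ fun j _ => mul_mem (hc x hx i j) ?_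
  have h1 := h.sum
  rw [Fintype.sum_subsingleton _ i] at h1
  rw [Subsingleton.elim j i, h1]
  exact one_mem _

theorem mu_B (t : Tens 𝓑) (ss : SS A) {B : Subring A} (hB : B ∈ 𝓑) : ∃ (n : ℕ) (E : Fin n → Fin n → A), MU0 E ∧
    (∀ i j, E i j ∈ B) ∧ (∀ x ∈ B, ∀ i j, coef E x i j ∈ Subring.center A) ∧ 2 ≤ n := by
  obtain ⟨n, E, hE, hEm, hEc⟩ := exists_mu_sub (t.ss ss hB)
  have h : ∀ x ∈ B, ∀ i j, coef E x i j ∈ Subring.center A := fun b hb i j =>
    t.cen_blk hB (coef_mem hEm hb i j) (hEc _ (coef_mem hEm hb i j) (hE.coef_comm b i j))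
  exact ⟨n, E, hE, hEm, h, two_le hE (t.not_le B hB) h⟩

/-- uniqueness -/
theorem uniq (t : Tens 𝓑) (ss : SS A) {f g : A →+* A} (hc : ∀ c ∈ Subring.center A, f c = g c)
    (h : ∀ B ∈ 𝓑, ∀ x ∈ B, f x - g x ∈ Subring.center A) : f = g := by
  refine RingHom.ext fun a => t.ind (T := f.eqLocus g) (fun B hB x hx => ?_) a
  obtain ⟨n, E, hE, hEm, hEc, hn⟩ := mu_B t ss hB
  have : Nontrivial (Fin n) := Fin.nontrivial_iff_two_le.2 hn
  have h1 : ∀ x ∈ B, ∀ y ∈ B, f (x * y - y * x) = g (x * y - y * x) := fun x hx y hy => by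
    have a1 := cen_comm (h B hB x hx)
    have a2 := cen_comm (h B hB y hy)
    rw [map_sub, map_sub, map_mul, map_mul, map_mul, map_mul, ← sub_eq_zero]
    have e : f x * f y - f y * f x - (g x * g y - g y * g x) = (f x * (f y - g y) - (f y - g y) * f x) +
      ((f x - g x) * g y - g y * (f x - g x)) := by noncomm_ring
    rw [e, a1, a2, sub_self, sub_self, add_zero]
  have h2 : ∀ i j, i ≠ j → f (E i j) = g (E i j) := fun i j hij => by
    have h3 := h1 _ (hEm i i) _ (hEm i j)
    rwa [hE.mul_eq, hE.mul, if_neg hij.symm, sub_zero] at h3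
  have h3 : ∀ i j, f (E i j) = g (E i j) := fun i j => by
    obtain ⟨k, hk⟩ := exists_ne i
    by_cases e : i = j
    · rw [← hE.mul_eq i k j, map_mul, map_mul, h2 _ _ hk.symm, h2 _ _ (e ▸ hk)]
    · exact h2 i j e
  change f x = g x
  rw [hE.expand x]
  simp only [map_sum, map_mul, h3, hc _ (hEc x hx _ _)]

variable {F : FR A} {H : Subgroup (RingAut A)} {p : ℕ}

/-- existence -/
theorem exists_phi0 (T : TC F H p 𝓑) (hc : Nat.card A ≤ Nat.card (Subring.center A) ^ 16) :
    ∃ φ : A →+* A, (∀ c ∈ Subring.center A, φ c = star c) ∧ (∀ B ∈ 𝓑, ∀ x ∈ B, φ x + star x ∈ Subring.center A) ∧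
      ((∀ x, φ x = x) → ∃ s : A, Rk1 s) := by
  have := T.c.ss.nontrivial
  obtain ⟨B, hB⟩ := T.d.t.two.nonempty
  obtain ⟨B', hB', hne⟩ := T.d.t.exists_ne hB
  obtain ⟨n, E, hE, hEm, hEc, hn⟩ := mu_B T.d.t T.c.ss hB
  obtain ⟨m, E', hE', hEm', hEc''⟩ := exists_mu_sub (T.d.ss_Cz hB)
  have hEc' : ∀ x ∈ Cz B, ∀ i j, coef E' x i j ∈ Subring.center A := fun b hb i j =>
    T.cen_Cz hB (coef_mem hEm' hb i j) (hEc'' _ (coef_mem hEm' hb i j) (hE'.coef_comm b i j))
  have hm := two_le hE' (fun h => T.d.t.not_le B' hB' ((T.d.le_Cz hB hB' hne).trans h)) hEc'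
  have hcm : ∀ x ∈ B, ∀ y ∈ Cz B, y * x = x * y := fun x hx y hy => (hy x hx).symm
  have hP := mu_prod hE hE' fun i j k l => hcm _ (hEm i j) _ (hEm' k l)
  have h4 : n * m * (n * m) ≤ 16 := (Nat.pow_le_pow_iff_right (Finite.one_lt_card_iff_nontrivial.2 inferInstance)).1
    ((card_le hP).trans hc)
  have h5 : n * m ≤ 4 := by nlinarith
  obtain rfl : n = 2 := by nlinarith
  obtain rfl : m = 2 := by omega
  have l1 : ∀ {X X' : Fin 2 → Fin 2 → A}, MU0 X' → ∀ i j, X i j = ∑ k : Fin 2,
      X (finProdFinEquiv (i, k)).divNat (finProdFinEquiv (j, k)).divNat *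
        X' (finProdFinEquiv (i, k)).modNat (finProdFinEquiv (j, k)).modNat := fun {X X'} h i j => by
    have e1 : ∀ a b : Fin 2, (finProdFinEquiv (a, b)).divNat = a := fun a b =>
      congrArg Prod.fst (finProdFinEquiv.symm_apply_apply (a, b))
    have e2 : ∀ a b : Fin 2, (finProdFinEquiv (a, b)).modNat = b := fun a b =>
      congrArg Prod.snd (finProdFinEquiv.symm_apply_apply (a, b))
    simp only [e1, e2]
    rw [← Finset.mul_sum, h.sum, mul_one]
  have l2 : ∀ {X X' : Fin 2 → Fin 2 → A}, MU0 X → ∀ i j, X' i j = ∑ k : Fin 2,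
      X (finProdFinEquiv (k, i)).divNat (finProdFinEquiv (k, j)).divNat *
        X' (finProdFinEquiv (k, i)).modNat (finProdFinEquiv (k, j)).modNat := fun {X X'} h i j => by
    have e1 : ∀ a b : Fin 2, (finProdFinEquiv (a, b)).divNat = a := fun a b =>
      congrArg Prod.fst (finProdFinEquiv.symm_apply_apply (a, b))
    have e2 : ∀ a b : Fin 2, (finProdFinEquiv (a, b)).modNat = b := fun a b =>
      congrArg Prod.snd (finProdFinEquiv.symm_apply_apply (a, b))
    simp only [e1, e2]
    rw [← Finset.sum_mul, h.sum, one_mul]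
  have hM : MU fun a b : Fin (2 * 2) => E a.divNat b.divNat * E' a.modNat b.modNat := ⟨hP, fun a ha => by
    have a0 : ∀ i j, a * E i j = E i j * a := fun i j => by
      rw [l1 (X := E) hE' i j, Finset.sum_mul, Finset.mul_sum]
      simp only [ha]
    have a1 : a ∈ Cz B := fun y hy => by
      rw [hE.expand y, Finset.sum_mul, Finset.mul_sum]
      refine Finset.sum_congr rfl fun i _ => ?_
      rw [Finset.sum_mul, Finset.mul_sum]
      refine Finset.sum_congr rfl fun j _ => ?_
      rw [← mul_assoc, cen_comm (hEc y hy i j), mul_assoc, mul_assoc, a0]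
    refine T.cen_Cz hB a1 (hEc'' a a1 fun i j => ?_)
    rw [l2 (X' := E') hE i j, Finset.sum_mul, Finset.mul_sum]
    simp only [ha]⟩
  obtain ⟨φ, p1, p2⟩ := exists_hom hM (mu_prod (mu_ad hE) (mu_ad hE') fun i j k l =>
    hcm _ (ad_mem (T.d.t.star_mem B hB) hEm i j) _ (ad_mem (T.d.star_Cz hB) hEm' k l))
  have p3 : ∀ i j, φ (E i j) = ad E i j := fun i j => by
    rw [l1 (X := E) hE' i j, l1 (X := ad E) (mu_ad hE') i j, map_sum]
    simp only [p2]
  have p4 : ∀ i j, φ (E' i j) = ad E' i j := fun i j => by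
    rw [l2 (X' := E') hE i j, l2 (X' := ad E') (mu_ad hE) i j, map_sum]
    simp only [p2]
  refine ⟨φ, p1, fun B'' hB'' x hx => ?_, fun h1 => ⟨_, hP.ne_zero 0 3, ?_, fun a => ⟨_, hM.coef_cen a 3 0,
    (hP.coef_mul a 3 0 0 3).symm⟩⟩⟩
  · by_cases e : B'' = B
    · exact ad_cen hE p1 p3 (hEc x (e ▸ hx))
    · exact ad_cen hE' p1 p4 (hEc' x (T.d.le_Cz hB hB'' e hx))
  · change star (E 0 1 * E' 0 1) = E 0 1 * E' 0 1
    have a1 : E 0 1 = -star (E 0 1) := (h1 _).symm.trans (p3 0 1)
    have a2 : E' 0 1 = -star (E' 0 1) := (h1 _).symm.trans (p4 0 1)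
    rw [star_mul, ← neg_mul_neg, ← a1, ← a2, hcm _ (hEm 0 1) _ (hEm' 0 1)]

/-- **the canonical automorphism** -/
theorem exists_phi (T : TC F H p 𝓑) (hc : Nat.card A ≤ Nat.card (Subring.center A) ^ 16) :
    ∃ φ ∈ SAut A, φ * φ = 1 ∧ (∀ γ ∈ H, γ * φ = φ * γ) ∧ (∀ c ∈ Subring.center A, φ c = star c) ∧
      (φ = 1 → ∃ s : A, Rk1 s) := by
  obtain ⟨f, h1, h2, h3⟩ := exists_phi0 T hc
  have u := fun f g => uniq T.d.t T.c.ss (f := f) (g := g)
  have st := T.d.t.star_mem
  have a1 : f.comp f = RingHom.id A := u _ _ (fun c hc => by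
    rw [RingHom.comp_apply, h1 c hc, h1 _ (star_cen hc), star_star, RingHom.id_apply]) fun B hB x hx => by
      have b1 := h1 _ (h2 B hB x hx)
      have b2 := sub_mem (star_cen (h2 B hB x hx)) (h2 B hB _ (st B hB x hx))
      rw [← b1, map_add, star_star, add_comm (f (f x)), add_sub_add_left_eq_sub] at b2
      exact b2
  let g : A →+* A :=
    { toFun := fun a => star (f (star a))
      map_one' := by simp
      map_zero' := by simp
      map_add' := by simp
      map_mul' := by simp }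
  have a2 : f = g := u _ _ (fun c hc => by
    change f c = star (f (star c))
    rw [h1 c hc, h1 _ (star_cen hc), star_star]) fun B hB x hx => by
      have b2 := sub_mem (h2 B hB x hx) (star_cen (h2 B hB _ (st B hB x hx)))
      rwa [star_add, star_star, add_sub_add_right_eq_sub] at b2
  refine ⟨RingEquiv.ofRingHom f f a1 a1, fun a => ?_, RingEquiv.ext fun a => DFunLike.congr_fun a1 a, fun γ hγ => ?_, h1,
    fun e => h3 fun x => DFunLike.congr_fun e x⟩
  · exact (DFunLike.congr_fun a2 (star a)).trans (congrArg (fun x => star (f x)) (star_star a))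
  · have hs := T.c.le_SAut hγ
    have a3 : (γ : A →+* A).comp f = f.comp (γ : A →+* A) := u _ _ (fun c hc => by
      change γ (f c) = f (γ c)
      rw [h1 c hc, h1 _ (map_cen γ hc), hs]) fun B hB x hx => by
        have b2 := sub_mem (map_cen γ (h2 B hB x hx)) (h2 _ (T.st γ hγ B hB) _ (apply_mem_smul.2 hx))
        rwa [map_add, hs, add_sub_add_right_eq_sub] at b2
    exact RingEquiv.ext fun a => DFunLike.congr_fun a3 a

/-- a linear automorphism centralised by `H` is trivial -/
theorem eq_one (ss : SS A) (hI : Irr2 H) {φ : RingAut A} (h1 : φ ∈ SAut A) (h2 : φ ∈ Lin A)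
    (h3 : ∀ γ ∈ H, γ * φ = φ * γ) : φ = 1 := by
  obtain ⟨u, rfl⟩ := ss.sn h2
  let X : Subring A := (cj A u : A →+* A).eqLocus (RingHom.id A)
  have h4 : ∀ x, x ∈ X ↔ (u : A) * x = x * u := fun x => by
    change (u : A) * x * (u⁻¹ : Aˣ) = x ↔ _
    rw [Units.mul_inv_eq_iff_eq_mul]
  have h5 : Cz X ≤ X := fun x hx => (h4 x).2 (hx _ ((h4 u).2 rfl))
  refine cj_eq_one_iff.2 (hI.2 (Cz X) ⟨fun z hz y _ => cen_comm hz y, star_centralizer fun x hx => ?_,
    fun x hx y hy => hy x (h5 hx)⟩ (fun γ hγ x hx y hy => ?_) fun x hx => ((h4 x).1 hx).symm)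
  · exact (h1 x).trans (congrArg star hx)
  · have h6 : γ⁻¹ y ∈ X := (DFunLike.congr_fun (h3 _ (inv_mem hγ)) y).symm.trans (congrArg (γ⁻¹ : RingAut A) hy)
    have h7 := congrArg γ (hx _ h6)
    rwa [map_mul, map_mul, ra_apply_inv] at h7

theorem cenD (c : Ctx F H p) (h : TenD H) (hc : Nat.card A ≤ Nat.card (Subring.center A) ^ 16) (hL : F.L = Lmax A)
    {z : A} (hz : z ∈ Subring.center A) (hz' : star z ≠ z) : CenD F H := by
  obtain ⟨𝓑, T⟩ := exists_tc c h
  obtain ⟨φ, h1, h2, h3, h4, -⟩ := exists_phi T hc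
  have h5 : φ ∉ Lin A := fun e => hz' ((h4 z hz).symm.trans (e z hz))
  have : Fact (Nat.Prime 2) := ⟨Nat.prime_two⟩
  refine ⟨h.1, φ, ⟨h1, ?_⟩, h5, ?_, h3⟩
  · rw [hL]
    change star (φ F.l - F.l) = -(φ F.l - F.l)
    rw [star_sub, ← h1, eq_sub_of_add_eq' F.l_add, map_sub, map_one]
    abel
  · rw [orderOf_eq_prime (p := 2) ((sq φ).trans h2) fun e => h5 (e ▸ one_mem _)]
    exact Nat.prime_two

theorem card_EB_le {K V : Type} [Field K] [Fintype K] [AddCommGroup V] [Module K V] [Finite V] (h : HF K V)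
    (hn : finrank K V = 4) : Nat.card h.EB ≤ Nat.card (Subring.center h.EB) ^ 16 := by
  have : Nontrivial V := Module.nontrivial_of_finrank_pos (R := K) (by omega)
  obtain ⟨v, hv⟩ := exists_ne (0 : V)
  rw [Size.card_EB, hn, ← Nat.card_eq_fintype_card]
  exact Nat.pow_le_pow_left (Nat.card_le_card_of_injective
    (fun c : K => (⟨h.eb (c • 1), h.smul_mem_center c⟩ : Subring.center h.EB)) fun c d e =>
    smul_left_injective K hv (congrArg (fun x : Subring.center h.EB => h.ap x.1 v) e)) 16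

end TenT

open TenT

theorem tenL : AtL pTen4 := fun K _ _ F H p _ _ c h => by
  have k : ∀ a b : K, LR.mk (Matrix.scalar (Fin 4) a) (Matrix.scalar (Fin 4) b) ∈ Subring.center (LR (Fin 4) K) :=
    fun a b => Subring.mem_center_iff.2 fun g => by
      obtain ⟨x, y, rfl⟩ := LR.exists_mk g
      rw [LR.mk_mul, LR.mk_mul, (Matrix.scalar_commute a (fun _ => Commute.all _ _) x).eq,
        (Matrix.scalar_commute b (fun _ => Commute.all _ _) y).eq]
  refine (h.2 (cenD c h.1 ?_ (Size.L_LR F) (k 1 0) fun e => ?_)).elim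
  · rw [Size.card_LR, ← Nat.card_eq_fintype_card, pow_mul, sq, ← Nat.card_prod]
    exact Nat.pow_le_pow_left (Nat.card_le_card_of_injective (fun c => ⟨_, k c.1 c.2⟩) fun c d e => Prod.ext
      (Matrix.scalar_inj.1 (congrArg (fun x : Subring.center (LR (Fin 4) K) => x.1.1) e))
      (Matrix.scalar_inj.1 (congrArg (fun x : Subring.center (LR (Fin 4) K) => x.1.2) e))) 16
  · have e1 : (Matrix.scalar (Fin 4) (0 : K)).transpose = Matrix.scalar (Fin 4) 1 := congrArg Prod.fst e
    simpa using congrFun (congrFun e1 0) 0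

theorem tenU : AtU pTen4 := fun K V _ _ _ _ _ f F q H p k hn _ _ c h => by
  obtain ⟨a, ha⟩ := k.u.2
  have : Nontrivial V := Module.nontrivial_of_finrank_pos (R := K) (by omega)
  obtain ⟨v, hv⟩ := exists_ne (0 : V)
  refine (h.2 (cenD c h.1 (card_EB_le f hn) k.L (f.smul_mem_center a) fun e => ha ?_)).elim
  rw [Size.star_scal] at e
  exact smul_left_injective K hv (congrArg (fun x => f.ap x v) e)

theorem tenS : AtS pTen4 := fun K V _ _ _ _ _ f F H p k _ c h => by
  obtain ⟨𝓑, T⟩ := exists_tc c h.1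
  have hn := k.dim
  by_cases hL : F.L = Lmin f.EB
  swap
  · obtain ⟨B, hB⟩ := T.d.t.two.nonempty
    obtain ⟨l, hl, hl'⟩ := T.d.l B hB
    exact Quad.quad_Sp k.sp (by omega) (by omega) c hL hl' fun γ hγ =>
      T.d.t.l_sub_l ⟨l, Lmin _, hl', Or.inl rfl⟩ T.d.l (T.st γ hγ B hB) hB (apply_mem_smul.2 hl) hl
        (by rw [← c.le_SAut hγ, ← map_add, hl', map_one]) hl'
  exfalso
  have : Nontrivial V := Module.nontrivial_of_finrank_pos (R := K) (by omega)
  obtain ⟨φ, h1, -, h3, h4, h5⟩ := exists_phi T (card_EB_le f hn)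
  have sc := fun z => P5.exists_smul (A := f.EB) (RingEquiv.refl (End K V)) (z := z)
  obtain ⟨s, s0, s1, s2⟩ := h5 (eq_one c.ss T.irr h1 (fun z hz => by
    obtain ⟨a, rfl⟩ := sc z hz
    rw [h4 _ hz]
    exact (Size.star_scal f a).trans (by rw [k.sp.1]; rfl)) h3)
  have sw := Size.alt_swap k.sp.2.1
  have a1 : ∀ x, f.b x (f.ap s x) = 0 := fun x => by
    by_cases h2 : (2 : K) = 0
    · have b1 : s ∈ Lmax f.EB := s1.trans (f.ap_ext fun y => by
        change f.ap s y = -f.ap s y
        rw [eq_neg_iff_add_eq_zero, ← two_smul K, h2, zero_smul])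
      rw [← k.sp.2.2, hL] at b1
      obtain ⟨a, rfl⟩ := b1
      rw [f.ap_sub, f.sub_right, f.b_star, sw (f.ap a x)]
      linear_combination f.b x (f.ap a x) * h2
    · have b1 := f.b_star s x x
      rw [s1, sw (f.ap s x)] at b1
      exact (mul_eq_zero.1 (by linear_combination b1 : 2 * f.b x (f.ap s x) = 0)).resolve_left h2
  obtain ⟨v, hv⟩ : ∃ v, f.ap s v ≠ 0 := by
    by_contra hc
    push Not at hc
    exact s0 (f.ap_ext hc)
  obtain ⟨w, hw⟩ := f.exists_ne hv
  obtain ⟨z, hz, e⟩ := s2 (f.eb (f.ro w w))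
  obtain ⟨a, rfl⟩ := sc z hz
  have a2 : f.b (f.ap s v) w • f.ap s w = a • f.ap s v := (map_smul (f.ap s) _ _).symm.trans (congrArg (fun x => f.ap x v) e)
  have a3 := congrArg (f.b v) a2
  rw [f.smul_right, f.smul_right, a1, mul_zero, k.sp.1, ← s1, f.b_star, s1] at a3
  exact f.ne_swap hw (mul_self_eq_zero.1 a3)

theorem ten : At pTen4 := ⟨tenL, tenU, tenS⟩

end Cfsg.Agent.N2C.N4
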