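import Cfsg.Agent.N2.D4m.Defs
import Cfsg.Agent.N2.Cl.RX.Semi
import Cfsg.Agent.N2.Cl.RX.GreenC
import Cfsg.Agent.N2.Cl.RX.El

/-!
# N2, dimension four, class S: centralisers of cyclic elements and the criterion (helper85)
-/

set_option autoImplicit false
set_option linter.unusedSectionVars false

namespace Cfsg.Agent.N2C.N4.Rs

open Cfsg Cfsg.Geo Subgroup Module Matrix Cfsg.Agent.DS.Cl Cfsg.Agent.DS.Cl.Fwd
open Cfsg.Agent.N2C.Cyc Cfsg.Agent.N2C.RX Cfsg.Agent.N2C.RX.R0 Cfsg.Agent.N2C.RX.Sm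
open Cfsg.Agent.N2C.Res (Rep repL repH)
open Cfsg.Agent.TH.Cl (KL KU KSp)

section mu

variable {s : ℕ} [Fact s.Prime] {μ : ZMod s → ℕ}

theorem exists_ne (h : ∑ i, μ i = 4) (h0 : μ 0 ≠ 4) : ∃ i, i ≠ 0 ∧ μ i ≠ 0 := by
  by_contra k
  exact h0 (h ▸ (Finset.sum_eq_single 0 (fun i _ hi => by_contra fun e => k ⟨i, hi, e⟩) (by simp)).symm)

/-- orbits of length at least three -/
theorem le_one_of_orb (h : ∑ i, μ i = 4) (h0 : μ 0 ≠ 4) {x : ZMod s} (x0 : x ≠ 0) (x1 : x ≠ 1) (x2 : x * x ≠ 1)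
    (hx : ∀ i, μ (x * i) = μ i) (i : ZMod s) : μ i ≤ 1 := by
  have key : ∀ i, i ≠ 0 → μ 0 + 3 * μ i ≤ 4 := fun i hi => by
    have h1 : i ≠ x * i := fun e => x1 (mul_right_cancel₀ hi (e.symm.trans (one_mul i).symm))
    have h2 : i ≠ x * (x * i) := fun e => x2 (mul_right_cancel₀ hi ((mul_assoc _ _ _).trans (e.symm.trans (one_mul i).symm)))
    have h3 : x * i ≠ x * (x * i) := fun e => h1 (mul_left_cancel₀ x0 e)
    have h4 := Finset.sum_le_sum_of_subset (f := μ) (Finset.subset_univ {0, i, x * i, x * (x * i)})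
    rw [Finset.sum_insert (by simp [hi.symm, hi, x0]), Finset.sum_insert (by simp [h1, h2]), Finset.sum_pair h3, hx (x * i), hx i] at h4
    omega
  by_cases hi : i = 0
  · obtain ⟨k, h1, h2⟩ := exists_ne h h0
    have := key k h1
    subst hi
    omega
  · have := key i hi
    omega

theorem le_one_of_sq (h : ∑ i, μ i = 4) (h5 : ∑ i, μ i ^ 2 ≤ 5) (i : ZMod s) : μ i ≤ 1 := by
  have h1 : ∑ i, (μ i ^ 2 - μ i) + ∑ i, μ i = ∑ i, μ i ^ 2 := by
    rw [← Finset.sum_add_distrib]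
    exact Finset.sum_congr rfl fun k _ => Nat.sub_add_cancel (Nat.le_self_pow two_ne_zero _)
  have h2 := Finset.single_le_sum (f := fun i => μ i ^ 2 - μ i) (fun _ _ => Nat.zero_le _) (Finset.mem_univ i)
  by_contra k
  have h3 : μ i + 2 ≤ μ i ^ 2 := by nlinarith
  omega

theorem sq_eq (h : ∑ i, μ i = 4) (h1 : ∀ i, μ i ≤ 1) : ∑ i, μ i ^ 2 = 4 :=
  h ▸ Finset.sum_congr rfl fun k _ => by
    have := h1 k
    interval_cases μ k <;> rfl

theorem card_add_le (h : ∑ i, μ i = 4) : (Finset.univ.filter fun i => i ≠ 0 ∧ μ i ≠ 0).card + μ 0 ≤ 4 := by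
  rw [← h, ← Finset.add_sum_erase _ _ (Finset.mem_univ 0), add_comm, Finset.card_eq_sum_ones]
  refine Nat.add_le_add_left ((Finset.sum_le_sum fun i hi => Nat.pos_of_ne_zero (Finset.mem_filter.1 hi).2.2).trans
    (Finset.sum_le_sum_of_subset fun i hi => Finset.mem_erase.2 ⟨(Finset.mem_filter.1 hi).2.1, Finset.mem_univ i⟩)) _

end mu

theorem ar0 {a X ν q δ m : ℕ} (hq : 0 < q) (hX : ν ≠ 0 → q ≤ X) (hm : ν + δ ≤ m)
    (h : a * X ^ ν * q ^ δ ≤ q ^ m * (X + 1) ^ ν * (q + 1) ^ δ) : a ≤ (q + 1) ^ m := by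
  have h1 : ((X + 1) * q) ^ ν ≤ (X * (q + 1)) ^ ν := by
    rcases Nat.eq_zero_or_pos ν with rfl | k
    · exact le_rfl
    · exact Nat.pow_le_pow_left (by have := hX k.ne'; nlinarith) ν
  have h2 : 0 < X ^ ν := by
    rcases Nat.eq_zero_or_pos ν with rfl | k
    · exact Nat.one_pos
    · exact pow_pos (hq.trans_le (hX k.ne')) ν
  obtain ⟨k, rfl⟩ := Nat.exists_eq_add_of_le hm
  refine Nat.le_of_mul_le_mul_right ?_ (Nat.mul_pos h2 (pow_pos hq (ν + δ)))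
  calc _ = a * X ^ ν * q ^ δ * q ^ ν := by ring
    _ ≤ q ^ (ν + δ + k) * (X + 1) ^ ν * (q + 1) ^ δ * q ^ ν := Nat.mul_le_mul_right _ h
    _ = q ^ (ν + δ) * q ^ k * (q + 1) ^ δ * ((X + 1) * q) ^ ν := by rw [mul_pow (X + 1)]; ring
    _ ≤ q ^ (ν + δ) * (q + 1) ^ k * (q + 1) ^ δ * (X * (q + 1)) ^ ν := by gcongr; omega
    _ = _ := by rw [mul_pow X, pow_add (q + 1), pow_add (q + 1)]; ring

/-- the centraliser of a regular semisimple element -/
def zb : Kd → ℕ → ℕ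
  | .L, q => q ^ 4
  | .U, q => (q + 1) ^ 4
  | _, q => (q + 1) ^ 2

theorem semi_le {t : Kd} {q p : ℕ} {N : Type} [Group N] {c d : N → ℕ} (ht : t = .L ∨ t = .U ∨ t = .S) (hq : 0 < q)
    (S : Semi t 4 q p N c d) {s : ℕ} (hs : s.Prime) (h5 : 5 ≤ s) (hp : s ≠ p) {g : N} (hg : orderOf g = s) {j : ℕ}
    (hj : IsConj g (g ^ j)) (j0 : (j : ZMod s) ≠ 0) (j1 : (j : ZMod s) ≠ 1) (h : (j : ZMod s) * j ≠ 1 ∨ d g ≤ 5) :
    c g * zz t q ≤ zb t q := by
  have := Fact.mk hs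
  obtain ⟨μ, h1, h2, h3, h4, -, -, h7⟩ := S s g j hp (by omega) hg hj j1
  have h8 := h.elim (fun k => le_one_of_orb h1 h2 j0 j1 k h4) fun k => le_one_of_sq h1 (h3 ▸ k)
  have h9 := h7 _ _ rfl rfl
  have h10 := card_add_le h1
  have h11 := h8 0
  rw [h3, sq_eq h1 h8, show ww t 4 q s = 1 from if_neg fun k => by have := Nat.le_of_dvd four_pos k.2; omega] at h9
  generalize orderOf ((fr t q : ℤ) : ZMod s) = e at h9
  generalize (Finset.univ.filter fun i => i ≠ 0 ∧ μ i ≠ 0).card = z at h9 h10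
  have h12 : nu t e z ≠ 0 → q ≤ q ^ eq t e := fun k => Nat.le_self_pow (fun o => k (if_pos o)) q
  rcases ht with rfl | rfl | rfl
  · simpa [nu, eq, dl, kp, es, zb] using h9
  · refine ar0 (δ := dl .U (μ 0)) hq h12 (le_trans (Nat.add_le_add ?_ ?_) h10) (by simpa [kp, es] using h9)
    · unfold nu
      split_ifs
      exacts [Nat.zero_le _, Nat.div_le_self _ _]
    · show (if μ 0 = 0 then 0 else 1) ≤ _
      split_ifs <;> omega
  · refine ar0 (δ := 0) hq h12 ?_ (by simpa [kp, es, dl, show (4 + μ 0) / 2 = 2 by omega] using h9)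
    unfold nu
    split_ifs with k
    · omega
    · have h13 : 2 ≤ e := by
        by_contra o
        interval_cases e <;> exact k rfl
      exact (Nat.div_le_div_left h13 two_pos).trans (by omega)

section kinds

variable {K V : Type} [Field K] [Fintype K] [AddCommGroup V] [Module K V] [Finite V] {p : ℕ}

theorem semiL {n : ℕ} {F : FR (LR (Fin n) K)} {H N : Subgroup (RingAut (LR (Fin n) K))} (h0 : 0 < n) (c : Ctx F H p)
    (r : Res F H N) : Semi .L n (Fintype.card K) p N (cc F N) (dd N) := by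
  have := Res.charP_L h0 c
  refine semi_of r (dd_L F h0) c.prime (fun _ => ZI_pow_L) (card_ZI_L F h0) fun s _ u hu hs h2 hm => ?_
  obtain ⟨μ, h1, h3⟩ := Sz.exists_mu (RingEquiv.refl _) hs (u := (repL F h0).ρ u) (by
    rw [← map_pow, ← Units.val_pow_eq_pow_val, hm, Units.val_one, map_one])
  rw [Fintype.card_fin] at h1
  refine ⟨μ, h1, fun e => (repL F h0).gl_inj hu (one_mem _) (Units.ext ?_), fun i => ?_, False.elim, fun e z _ _ => ?_⟩
  · rw [h3] at e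
    change finrank K (End.eigenspace (toLinAlgEquiv' ((repL F h0).ρ u)) 1) = n at e
    rw [End.eigenspace_def] at e
    rw [map_one, Rep.gl_val, Units.val_one]
    have h4 := LinearMap.ker_eq_top.1 (Submodule.eq_top_of_finrank_eq (e.trans (finrank_fin_fun K).symm))
    rw [sub_eq_zero, one_smul, ← map_one (toLinAlgEquiv' (R := K) (n := Fin n))] at h4
    exact toLinAlgEquiv'.injective h4
  · rw [show fr .L (Fintype.card K) = Fintype.card K from rfl, Int.cast_natCast, h1.frob]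
  · show cO F u * 1 * 1 ≤ 1 * Fintype.card K ^ (∑ i, μ i ^ 2) * 1 * 1
    rw [mul_one, mul_one, mul_one, mul_one, one_mul, ← h1.card]
    exact Sz.cO_le_cA_L F u

variable {h : HF K V} {F : FR h.EB} {H N : Subgroup (RingAut h.EB)}

theorem semiU {q : ℕ} (k : KU h F q) (c : Ctx F H p) (r : Res F H N) : Semi .U (finrank K V) q p N (cc F N) (dd N) := by
  have h0 : 0 < finrank K V := by have := k.dim; omega
  have := nontrivial_of_dim h0
  let b := finBasis K V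
  have := Res.charP_H h F b h0 c
  refine semi_of r (dd_H h F b h0) c.prime (fun _ => ZI_pow_U k) (card_ZI_U k) fun s _ u hu hs h2 hm => ?_
  obtain ⟨μ, h1, h3, h4, h5⟩ := Sz.size_U k.u k.card hs hu.1 (by rw [← Units.val_pow_eq_pow_val, hm, Units.val_one])
  rw [show fr .U q = -q from rfl, Int.cast_neg, Int.cast_natCast]
  refine ⟨μ, mu_map (Sz.eH h) h1, fun e => eq_one_H (h3.symm.trans e), fun i => by rw [neg_mul, h4], False.elim, fun e z he hz => ?_⟩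
  rw [show kp .U (μ 0) = 1 from rfl, show es .U (∑ i, μ i ^ 2) (μ 0) = ∑ i, μ i ^ 2 from rfl, one_mul]
  refine le_trans (Nat.mul_le_mul_right _ (Nat.mul_le_mul_right _ (cO_le_cU F u))) ?_
  have h6 : μ 0 ≠ 0 → 1 ≤ dl .U (μ 0) := fun t => (if_neg t).ge
  by_cases t : e % 2 = 1
  · rw [show eq .U e = e from if_pos t]
    exact h5 e _ _ he (fun _ => hz ▸ (if_neg fun o : eq .U e = 0 => by
      rw [show eq .U e = e from if_pos t] at o; omega).ge) h6
  · rw [show nu .U e z = 0 from if_pos (if_neg t)]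
    exact h5 e 0 _ he (fun o => absurd (Nat.odd_iff.1 o) t) h6

theorem semiS {j : ℕ} (k : KSp h F j) (c : Ctx F H p) (r : Res F H N) :
    Semi .S (finrank K V) (Fintype.card K) p N (cc F N) (dd N) := by
  have h1 := k.dim
  have h0 : 0 < finrank K V := by have := k.two; omega
  have := nontrivial_of_dim h0
  let b := finBasis K V
  have := Res.charP_H h F b h0 c
  refine semi_of r (dd_H h F b h0) c.prime (ZI_bil k.sp.1).1 (ZI_bil k.sp.1).2 fun s _ u hu hs h2 hm => ?_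
  obtain ⟨μ, h1, h3, h4, h5⟩ := Sz.size_Sp k.sp ⟨j, by omega⟩ h2 hs hu hm
  rw [show fr .S (Fintype.card K) = Fintype.card K from rfl, Int.cast_natCast]
  refine ⟨μ, mu_map (Sz.eH h) h1, fun e => eq_one_H (h3.symm.trans e), h1.frob, fun _ => h4, fun e z he hz => ?_⟩
  rw [show kp .S (μ 0) = 1 from rfl, show es .S (∑ i, μ i ^ 2) (μ 0) = (∑ i, μ i ^ 2 + μ 0) / 2 from rfl,
    show dl .S (μ 0) = 0 from rfl, one_mul, pow_zero, pow_zero, mul_one, mul_one]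
  rcases nu_bil (t := .S) trivial z (he ▸ ord_pos hs) with ⟨-, t2, t3⟩ | ⟨t1, t3⟩
  · rw [t2, t3]
    exact h5 e _ he fun _ => hz ▸ le_rfl
  · rw [t3]
    exact h5 e 0 he fun o => absurd o t1

/-- a self-centralising element of order `p > dim V` has a cyclic lift -/
theorem lift_cyc (r : Res F H N) (hp : p.Prime) [CharP K p] (hn : finrank K V < p) {e z : ℕ} (he : ∀ z ∈ ZI F, z ^ e = 1)
    (hc : p.Coprime e) (hz : z ≤ Nat.card (ZI F)) {g : N} (hg : orderOf g = p) (h2 : ¬ p ^ 2 ∣ Nat.card N)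
    (hC : centralizer {g} ≤ zpowers g) :
    ∃ u : h.EB, u * star u = 1 ∧ cc F N g * z ≤ cU u ∧ (h.ap u - 1) ^ p = 0 ∧ CycV (h.ap u) := by
  have : Module.Finite K V := Module.Finite.of_finite
  obtain ⟨u, v, w, h1, h3, -, j⟩ := Gr.lift_H r hp he hc hz hg h2 hC
  exact ⟨u, h1, h3, j.nil, cycV_iff.2 ⟨w, j.gen (fun y hy => sub_mem (map_mem_orb hy) hy)
    (fun i => absurd (i.2.trans_eq (Nat.div_eq_of_lt hn)) (Nat.not_lt_zero _)) (self_mem_orb _ _)⟩⟩

/-- regular unipotent elements, bilinear forms -/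
theorem cU_uni (hτ : ∀ c, h.τ c = c) (h2 : (2 : K) ≠ 0) {u : h.EB} (hu : u * star u = 1) {m : ℕ} (hm : (h.ap u - 1) ^ m = 0)
    (hc : CycV (h.ap u)) : cU u ≤ 2 * (Fintype.card K + 1) ^ (finrank K V / 2) := by
  have h3 : IsUnit (2 : h.EB) := by
    have h4 := sc_unit (h := h) (c := 1) (d := -1) fun k => h2 (by linear_combination k)
    rwa [neg_smul, one_smul, show h.eb (-1) = -1 from rfl, show h.eb 1 = 1 from rfl, sub_neg_eq_add, one_add_one_eq_two] at h4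
  obtain ⟨c, h4, h5⟩ := exists_tr_of_two h3 u
  have h6 := cU_le_bil hτ hu hc h4 h5 {1} fun ε h6 h7 => by
    rcases h6 with rfl | rfl
    · exact Finset.mem_singleton_self _
    · refine (h7 ?_).elim
      rw [neg_smul, one_smul, show h.eb (-1) = -1 from rfl, show u - -1 = 2 + (u - 1) by
        rw [← one_add_one_eq_two]; abel]
      exact (show IsNilpotent (u - 1) from ⟨m, hm⟩).isUnit_add_left_of_commute h3 (Commute.ofNat_right _ 2)
  rwa [Finset.card_singleton, pow_one] at h6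

end kinds

/-- the data of a class of elements of prime order -/
structure Dat (N : Type) [Group N] (s j o : ℕ) : Prop where
  ex : ∃ g : N, orderOf g = s
  cj : ∀ g : N, orderOf g = s → IsConj g (g ^ j)
  sc : ∀ g : N, orderOf g = s → centralizer {g} ≤ zpowers g
  aut : ¬ s ^ 2 ∣ Nat.card (MulAut N)
  card : Nat.card N = o

/-- **the criterion** -/
theorem Dat.gd {A : Type} [Ring A] [StarRing A] [Finite A] {F : FR A} {H N : Subgroup (RingAut A)} (r : Res F H N)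
    {s j o : ℕ} (D : Dat N s j o) (hs : s.Prime) {g : N} (hg : orderOf g = s) {κ m : ℕ} (hm : orderOf (j : ZMod s) = m)
    (h1 : (s - 1) ^ 3 * o ≤ κ * (s * m) ^ 3) (h2 : κ * cc F N g ^ 3 ≤ Nat.card F.S) : Gd F H := by
  have := finAut (A := A)
  refine good2 r g hs hg D.aut ?_
  have h3 := card_norm_ge hg (D.cj g hg)
  rw [hm] at h3
  calc _ = cc F N g ^ 3 * ((s - 1) ^ 3 * o) := by rw [D.card]; ring
    _ ≤ cc F N g ^ 3 * (κ * (s * m) ^ 3) := Nat.mul_le_mul_left _ h1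
    _ = κ * cc F N g ^ 3 * (s * m) ^ 3 := by ring
    _ ≤ _ := by gcongr

theorem ord25 : orderOf ((2 : ℕ) : ZMod 5) = 4 := (orderOf_eq_iff four_pos).2 (by decide)
theorem ord45 : orderOf ((4 : ℕ) : ZMod 5) = 2 := (orderOf_eq_iff two_pos).2 (by decide)
theorem ord27 : orderOf ((2 : ℕ) : ZMod 7) = 3 := (orderOf_eq_iff three_pos).2 (by decide)

theorem arL {q T c κ : ℕ} (hT : Nat.gcd 4 (q - 1) * ((q - 1) * T) = oGL 4 q) (hc : c * (q - 1) ≤ q ^ 4)
    (h : (3 ≤ q ∧ κ ≤ 59) ∨ (4 ≤ q ∧ κ ≤ 208)) : κ * c ^ 3 ≤ T := by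
  have h1 := oGL_ge (q := q) (by omega) (n := 4) (by omega)
  have h2 : Nat.gcd 4 (q - 1) * κ ≤ (q ^ 2 - q - 1) * q ^ 2 * (q - 1) ^ 2 := by
    by_cases h3 : q = 3
    · subst h3
      norm_num
      omega
    · have h4 : 11 ≤ q ^ 2 - q - 1 := by
        have : 4 * q ≤ q ^ 2 := by rw [sq]; exact Nat.mul_le_mul_right _ (by omega)
        omega
      calc _ ≤ 4 * 208 := Nat.mul_le_mul (Nat.gcd_le_left _ four_pos) (by omega)
        _ ≤ 11 * 4 ^ 2 * 3 ^ 2 := by norm_num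
        _ ≤ _ := by gcongr <;> omega
  have h3 : 0 < Nat.gcd 4 (q - 1) * q * (q - 1) ^ 3 :=
    Nat.mul_pos (Nat.mul_pos (Nat.gcd_pos_of_pos_left _ four_pos) (by omega)) (pow_pos (by omega) 3)
  refine Nat.le_of_mul_le_mul_left ?_ h3
  rw [← hT] at h1
  calc _ = Nat.gcd 4 (q - 1) * κ * q * (c * (q - 1)) ^ 3 := by ring
    _ ≤ (q ^ 2 - q - 1) * q ^ 2 * (q - 1) ^ 2 * q * (q ^ 4) ^ 3 := by gcongr
    _ = (q ^ 2 - q - 1) * q ^ (4 ^ 2 - 1) * (q - 1) ^ 2 := by norm_num; ring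
    _ ≤ q * (Nat.gcd 4 (q - 1) * ((q - 1) * T)) * (q - 1) ^ 2 := Nat.mul_le_mul_right _ h1
    _ = _ := by ring

theorem arU {q T c κ : ℕ} (hT : Nat.gcd 4 (q + 1) * ((q + 1) * T) = oGU 4 q) (hc : c * (q + 1) ≤ (q + 1) ^ 4)
    (h : (4 ≤ q ∧ κ ≤ 59) ∨ (5 ≤ q ∧ κ ≤ 208)) : κ * c ^ 3 ≤ T := by
  have h1 := oGU_ge (q := q) (by omega) (n := 4) (by omega)
  have h2 : 32 * κ ≤ (q ^ 2 - 1) * q ^ 4 := by
    rcases h with ⟨h3, h4⟩ | ⟨h3, h4⟩
    · calc _ ≤ (4 ^ 2 - 1) * 4 ^ 4 := by omega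
        _ ≤ _ := by gcongr
    · calc _ ≤ (5 ^ 2 - 1) * 5 ^ 4 := by omega
        _ ≤ _ := by gcongr
  have h3 : c ≤ (q + 1) ^ 3 := Nat.le_of_mul_le_mul_right (hc.trans_eq (pow_succ _ _)) q.succ_pos
  have h4 : (q + 1) ^ 9 ≤ 8 * q ^ 9 := by
    have h5 : (4 * (q + 1)) ^ 9 ≤ (5 * q) ^ 9 := Nat.pow_le_pow_left (by omega) 9
    rw [mul_pow, mul_pow] at h5
    omega
  rw [← hT, mul_assoc, mul_left_comm (Nat.gcd _ _)] at h1
  have h5 := (Nat.le_of_mul_le_mul_left h1 q.succ_pos).trans (Nat.mul_le_mul_right _ (Nat.gcd_le_left _ four_pos))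
  refine Nat.le_of_mul_le_mul_left (le_trans ?_ h5) four_pos
  calc _ ≤ 4 * (κ * ((q + 1) ^ 3) ^ 3) := by gcongr
    _ ≤ 4 * (κ * (8 * q ^ 9)) := by rw [← pow_mul]; gcongr
    _ = 32 * κ * q ^ 9 := by ring
    _ ≤ (q ^ 2 - 1) * q ^ 4 * q ^ 9 := Nat.mul_le_mul_right _ h2
    _ = _ := by norm_num; ring

theorem arS {q T c κ : ℕ} (hT : Nat.gcd 2 (q - 1) * T = oSp 2 q) (hc : c ≤ (q + 1) ^ 2) {a : ℕ} (ha : 2 ≤ a) (hq : a ≤ q)
    (h : 3 * κ * (a + 1) ^ 6 ≤ a ^ 6 * q ^ 4) : κ * c ^ 3 ≤ T := by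
  have h1 := oSp_ge' (q := q) (by omega) 2
  have h2 : (a * (q + 1)) ^ 6 ≤ ((a + 1) * q) ^ 6 := Nat.pow_le_pow_left (by nlinarith) 6
  rw [← hT] at h1
  have h3 := h1.trans (Nat.mul_le_mul_left 3 (Nat.mul_le_mul_right T (Nat.gcd_le_left _ two_pos)))
  refine Nat.le_of_mul_le_mul_left ?_ (show 0 < 6 * a ^ 6 by positivity)
  calc _ ≤ 6 * a ^ 6 * (κ * ((q + 1) ^ 2) ^ 3) := by gcongr
    _ = 6 * κ * (a * (q + 1)) ^ 6 := by ring
    _ ≤ 6 * κ * ((a + 1) * q) ^ 6 := Nat.mul_le_mul_left _ h2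
    _ = 2 * (3 * κ * (a + 1) ^ 6) * q ^ 6 := by ring
    _ ≤ 2 * (a ^ 6 * q ^ 4) * q ^ 6 := by gcongr
    _ = a ^ 6 * (2 * q ^ (2 * 2 ^ 2 + 2)) := by ring
    _ ≤ a ^ 6 * (3 * (2 * T)) := Nat.mul_le_mul_left _ h3
    _ = _ := by ring

end Cfsg.Agent.N2C.N4.Rs
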