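import Cfsg.Agent.N2.D4m.ResA
import Cfsg.Agent.N2.Cl.RAlt.Dat
import Cfsg.Agent.N2.Cl.RAlt.Tri
import Cfsg.Agent.N2.Tri.Syl
import Cfsg.Agent.S1001
import Cfsg.Agent.S0813
import Cfsg.Agent.S0815
import Cfsg.Agent.H93.ThreeNine
import Cfsg.Agent.H364.OutLie

/-!
# N2, dimension four, class S: the data of the small socles (helper85)
-/

set_option autoImplicit false
set_option linter.unusedSectionVars false

namespace Cfsg.Agent.N2C.N4.Rs

open Cfsg Subgroup Cfsg.Agent.N2C.RX Cfsg.Agent.N2.Tg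
open Cfsg.Agent.H364.OutLie (mulaut_congr card_pgl)

variable {N : Type} [Group N] [Finite N] {s j o a : ℕ}

theorem dat_of (hs : s.Prime) (ho : Nat.card N = o) (ha : Nat.card (MulAut N) = a) (h1 : ¬ s ^ 2 ∣ o) (h2 : ¬ s ^ 2 ∣ a)
    (hj : Cj N s j) (hc : SC N s) : Dat N s j o :=
  ⟨hc.imp fun _ h => h.1, fun _ => cj_all hs (ho ▸ h1) hj, fun _ => sc_all hs (ho ▸ h1) hc, ha ▸ h2, ho⟩

theorem dat_alt {c : ℕ} (e : N ≃* alternatingGroup (Fin c)) (hc : 5 ≤ c) (hs : s.Prime) (h2 : 2 < s) (h3 : s ≤ c)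
    (h4 : c ≤ s + 2) (hj : RAlt.okJ c s j = true) (ho : c.factorial / 2 = o) (h5 : ¬ s ^ 2 ∣ o)
    (h6 : ¬ s ^ 2 ∣ if c = 6 then 1440 else c.factorial) : Dat N s j o :=
  dat_of hs ((Nat.card_congr e.toEquiv).trans ((RAlt.card_alt (by omega)).trans ho))
    ((mulaut_congr e).trans (RAlt.card_aut hc)) h5 h6 ((RAlt.cj hs h2 h3 hj).congr e.symm) ((RAlt.sc hs h2 h3 h4).congr e.symm)

theorem dat_a5 (e : N ≃* alternatingGroup (Fin 5)) : Dat N 5 4 60 :=
  dat_alt e le_rfl Nat.prime_five (by omega) le_rfl (by omega) (by decide) rfl (by decide) (by decide)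

theorem dat_a6 (e : N ≃* alternatingGroup (Fin 6)) : Dat N 5 4 360 :=
  dat_alt e (by omega) Nat.prime_five (by omega) (by omega) (by omega) (by decide) rfl (by decide) (by decide)

theorem dat_a7 (e : N ≃* alternatingGroup (Fin 7)) : Dat N 7 2 2520 :=
  dat_alt e (by omega) (by norm_num) (by omega) le_rfl (by omega) (by decide) rfl (by decide) (by decide)

theorem dat_a75 (e : N ≃* alternatingGroup (Fin 7)) : Dat N 5 2 2520 :=
  dat_alt e (by omega) Nat.prime_five (by omega) (by omega) le_rfl (by decide) rfl (by decide) (by decide)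

theorem dat_sm [IsSimpleGroup N] (hs : s.Prime) (ho : Nat.card N = o) (ha : Nat.card (MulAut N) = a) (b c : ℕ)
    (h0 : o = s * 3 ^ b * 2 ^ c) (h1 : ¬ s ^ 2 ∣ o) (h2 : ¬ s ^ 2 ∣ a) (h3 : okA o s j = true) : Dat N s j o := by
  have := Fact.mk hs
  obtain ⟨g, hg⟩ := exists_prime_orderOf_dvd_card' (G := N) s (by rw [ho, h0, mul_assoc]; exact dvd_mul_right _ _)
  have h4 : SC N s := ⟨g, hg, (S1001.result s b c hs (ho.trans h0) g hg).le⟩
  exact dat_of hs ho ha h1 h2 (cj_of_sc hs ho h4 h3) h4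

theorem dat_l7 [IsSimpleGroup N] (e : N ≃* Matrix.ProjectiveSpecialLinearGroup (Fin 2) (ZMod 7)) : Dat N 7 2 168 := by
  have : Fact (Nat.Prime 7) := ⟨by norm_num⟩
  have h1 := H93.ThreeNine.card_psl_two_seven (ZMod.card 7)
  refine dat_sm (a := 336) this.out ((Nat.card_congr e.toEquiv).trans h1) ?_ 1 3 rfl (by decide) (by decide) (by decide)
  rw [mulaut_congr e, S0813.result 7 1 le_rfl (ZMod.card 7) 2 le_rfl (by omega), card_pgl le_rfl, h1, ZMod.card]
  rfl

theorem dat_u42 [IsSimpleGroup N] {K : Type} [Field K] [Fintype K] (hK : Fintype.card K = 4) (e : N ≃* PSU 4 K 2) :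
    Dat N 5 2 25920 := by
  have := Fact.mk Nat.prime_two
  have h1 := H93.ThreeNine.card_psu_four_two hK
  refine dat_sm (a := 51840) Nat.prime_five ((Nat.card_congr e.toEquiv).trans h1) ?_ 4 6 rfl (by decide) (by decide)
    (by decide)
  rw [mulaut_congr e, S0815.result 2 1 le_rfl (q := 2) rfl hK 4 (by omega) (by omega), h1]
  rfl

theorem tri_6_2_5_5 : Tri (alternatingGroup (Fin 6)) 2 5 5 :=
  RAlt.tri_of (a := 1) (b := 4) (x := 139529248) (y := 167906369)
    (w := [false, true, false, true, true, true, false, true, true]) (k := 1) (m := 8) (by norm_num) (by decide +kernel)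

end Cfsg.Agent.N2C.N4.Rs
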